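import Groth.Agent.L29.K.Perfect
import Groth.Agent.L29.Dual.HomD
import Groth.Prelude.Def_Koszul
import Mathlib.RingTheory.Regular.RegularSequence
import Mathlib.Algebra.Homology.DerivedCategory.SingleTriangle

/-!
The Koszul complex of a regular sequence resolves the quotient.
-/

universe u

open CategoryTheory CategoryTheory.Limits CategoryTheory.Pretriangulated RingTheory.Sequence

attribute [local instance] HasDerivedCategory.standard

set_option backward.isDefEq.respectTransparency false

namespace Groth.L29.KoszulRes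

variable {A : Type u} [CommRing A]

lemma single_smul_id (M : ModuleCat.{u} A) (f : A) :
    (DerivedCategory.singleFunctor (ModuleCat.{u} A) 0).map (f • 𝟙 M) =
      f • 𝟙 ((DerivedCategory.singleFunctor (ModuleCat.{u} A) 0).obj M) := by
  rw [Functor.map_smul, CategoryTheory.Functor.map_id]

theorem exists_iso : ∀ (l : List A), IsWeaklyRegular A l.reverse →
    DRing.IsPerfect A (DRing.toD (Koszul.koszul A l)) ∧
      Nonempty (DRing.toD (Koszul.koszul A l) ≅ Dual.inD A (A ⧸ Ideal.ofList l)) := by
  intro l
  induction l with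
  | nil =>
    intro _
    let e : DRing.toD (Koszul.koszul A []) ≅ Dual.inD A A :=
      (((SingleFunctors.evaluation _ _ 0).mapIso
        (DerivedCategory.singleFunctorsPostcompQIso (ModuleCat.{u} A))).app (ModuleCat.of A A)).symm
    exact ⟨Perfect.of_iso e.symm Perfect.self, ⟨e ≪≫ (DerivedCategory.singleFunctor _ 0).mapIso
      ((Submodule.quotEquivOfEqBot (Ideal.ofList ([] : List A)) (Ideal.ofList_nil)).symm).toModuleIso⟩⟩
  | cons f l ih =>
    intro h
    rw [List.reverse_cons, isWeaklyRegular_append_iff] at h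
    obtain ⟨hl, hf⟩ := h
    obtain ⟨hperf, ⟨e⟩⟩ := ih hl
    have hJ : (Ideal.ofList l.reverse • ⊤ : Submodule A A) = Ideal.ofList l := by
      rw [smul_eq_mul, Ideal.mul_top]
      exact congrArg Ideal.span (Set.ext fun _ => List.mem_reverse)
    rw [isWeaklyRegular_singleton_iff] at hf
    have hreg : IsSMulRegular (A ⧸ Ideal.ofList l) f :=
      (LinearEquiv.isSMulRegular_congr (Submodule.quotEquivOfEq _ _ hJ) f).1 hf
    let Q := A ⧸ Ideal.ofList l
    let m : Q →ₗ[A] Q := f • LinearMap.id
    let π : Q →ₗ[A] A ⧸ Ideal.ofList (f :: l) := Submodule.factor (by rw [Ideal.ofList_cons]; exact le_sup_right)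
    have hπ : Function.Surjective π := fun y => by
      obtain ⟨y, rfl⟩ := Ideal.Quotient.mk_surjective y
      exact ⟨Ideal.Quotient.mk _ y, rfl⟩
    have hex : Function.Exact m π := by
      intro y
      obtain ⟨y, rfl⟩ := Ideal.Quotient.mk_surjective y
      constructor
      · intro hy
        have hy' : y ∈ Ideal.ofList (f :: l) := Ideal.Quotient.eq_zero_iff_mem.1 hy
        rw [Ideal.ofList_cons, Submodule.mem_sup] at hy'
        obtain ⟨u, hu, v, hv, huv⟩ := hy'
        obtain ⟨c, rfl⟩ := Ideal.mem_span_singleton'.1 hu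
        refine ⟨Ideal.Quotient.mk _ c, Ideal.Quotient.eq.2 ?_⟩
        change f * c - y ∈ Ideal.ofList l
        rw [← huv, show f * c - (c * f + v) = -v by ring]
        exact neg_mem hv
      · rintro ⟨c, hc⟩
        obtain ⟨c, rfl⟩ := Ideal.Quotient.mk_surjective c
        refine Ideal.Quotient.eq_zero_iff_mem.2 ?_
        have hc' : f * c - y ∈ Ideal.ofList l := Ideal.Quotient.eq.1 hc
        rw [Ideal.ofList_cons]
        have h1 : f * c ∈ Ideal.span {f} := Ideal.mul_mem_right c _ (Ideal.mem_span_singleton_self f)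
        have := Submodule.sub_mem _ (Submodule.mem_sup_left (T := Ideal.ofList l) h1)
          (Submodule.mem_sup_right (S := Ideal.span {f}) hc')
        rwa [sub_sub_cancel] at this
    have hS := Groth.L29.HomD.sc_shortExact m π hreg hπ hex
    have hd := Groth.L02.PC.mappingCone_distinguished (f • 𝟙 (Koszul.koszul A l))
    let φ := isoTriangleOfIso₁₂ _ _ hd hS.singleTriangle_distinguished e e (by
      change DerivedCategory.Q.map (f • 𝟙 (Koszul.koszul A l)) ≫ e.hom =
        e.hom ≫ (DerivedCategory.singleFunctor (ModuleCat.{u} A) 0).map (ModuleCat.ofHom m)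
      rw [show ModuleCat.ofHom m = f • 𝟙 (ModuleCat.of A Q) from rfl, single_smul_id, Functor.map_smul,
        CategoryTheory.Functor.map_id, Linear.smul_comp, Linear.comp_smul, Category.id_comp, Category.comp_id])
    exact ⟨Perfect.third _ hd hperf hperf, ⟨Triangle.π₃.mapIso φ⟩⟩

end Groth.L29.KoszulRes
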