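import Groth.Prelude.Def_KZero
import Mathlib.Algebra.Homology.ShortComplex.ShortExact
import Mathlib.CategoryTheory.Abelian.Basic
import Mathlib.CategoryTheory.ObjectProperty.ClosedUnderIsomorphisms

/-!
Basic identities in `K0sub` and homomorphisms out of it.
-/

universe v u

open CategoryTheory CategoryTheory.Limits ZeroObject

namespace Groth.L29.KSub

variable {C : Type u} [Category.{v} C] [Abelian C] (P : ObjectProperty C)

lemma clSub_of {X : C} (h : P X) :
    KZero.clSub P X = QuotientAddGroup.mk (FreeAbelianGroup.of (⟨X, h⟩ : Subtype P)) := by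
  rw [KZero.clSub, dif_pos h]

lemma clSub_shortExact {S : ShortComplex C} (hS : S.ShortExact) (h₁ : P S.X₁) (h₂ : P S.X₂)
    (h₃ : P S.X₃) : KZero.clSub P S.X₂ = KZero.clSub P S.X₁ + KZero.clSub P S.X₃ := by
  have h : FreeAbelianGroup.of (⟨S.X₂, h₂⟩ : Subtype P) - FreeAbelianGroup.of ⟨S.X₁, h₁⟩ -
      FreeAbelianGroup.of ⟨S.X₃, h₃⟩ ∈ KZero.relSub P :=
    AddSubgroup.subset_closure ⟨S, h₁, h₂, h₃, hS, rfl⟩
  have h2 := (QuotientAddGroup.eq_zero_iff _).2 h
  rw [QuotientAddGroup.mk_sub, QuotientAddGroup.mk_sub, sub_sub, sub_eq_zero] at h2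
  rw [clSub_of P h₁, clSub_of P h₂, clSub_of P h₃]
  exact h2

/-- an isomorphism followed by a zero object, as a short exact sequence -/
lemma shortExact_of_iso {X Y Z : C} (e : X ≅ Y) (hZ : IsZero Z) :
    (ShortComplex.mk (hZ.to_ X) e.hom (hZ.eq_of_src _ _)).ShortExact := by
  haveI : Mono (hZ.to_ X) := hZ.mono _
  exact ShortComplex.Splitting.shortExact (ShortComplex.Splitting.ofIsZeroOfIsIso _ hZ inferInstance)

lemma clSub_zero {Z : C} (hZ : IsZero Z) (h : P Z) : KZero.clSub P Z = 0 := by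
  have := clSub_shortExact P (shortExact_of_iso (Iso.refl Z) hZ) h h h
  simpa using this

lemma clSub_iso [P.IsClosedUnderIsomorphisms] {X Y Z : C} (e : X ≅ Y) (hZ : IsZero Z) (hPZ : P Z)
    (hX : P X) : KZero.clSub P X = KZero.clSub P Y := by
  have := clSub_shortExact P (shortExact_of_iso e hZ) hPZ hX (P.prop_of_iso e hX)
  rw [clSub_zero P hZ hPZ, zero_add] at this
  exact this

lemma clSub_biprod {X Y : C} (hX : P X) (hY : P Y) (h : P (X ⊞ Y)) :
    KZero.clSub P (X ⊞ Y) = KZero.clSub P X + KZero.clSub P Y :=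
  clSub_shortExact P (ShortComplex.Splitting.ofHasBinaryBiproduct X Y).shortExact hX h hY

variable {P} {G : Type*} [AddCommGroup G]

/-- an additive function on `P` extends to `K0sub P` -/
noncomputable def lift (f : C → G)
    (hf : ∀ S : ShortComplex C, S.ShortExact → P S.X₁ → P S.X₂ → P S.X₃ → f S.X₂ = f S.X₁ + f S.X₃) :
    KZero.K0sub P →+ G :=
  QuotientAddGroup.lift _ (FreeAbelianGroup.lift fun X : Subtype P => f X.1) <| by
    rw [KZero.relSub, AddSubgroup.closure_le]
    rintro _ ⟨S, h₁, h₂, h₃, hS, rfl⟩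
    simp only [SetLike.mem_coe, AddMonoidHom.mem_ker, map_sub, FreeAbelianGroup.lift_apply_of]
    rw [hf S hS h₁ h₂ h₃]
    abel

lemma lift_clSub (f : C → G)
    (hf : ∀ S : ShortComplex C, S.ShortExact → P S.X₁ → P S.X₂ → P S.X₃ → f S.X₂ = f S.X₁ + f S.X₃)
    {X : C} (h : P X) : lift f hf (KZero.clSub P X) = f X := by
  rw [clSub_of P h]
  exact FreeAbelianGroup.lift_apply_of _ _

lemma hom_ext {φ ψ : KZero.K0sub P →+ G}
    (h : ∀ X, P X → φ (KZero.clSub P X) = ψ (KZero.clSub P X)) : φ = ψ := by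
  refine QuotientAddGroup.addMonoidHom_ext _ (FreeAbelianGroup.lift_ext _ _ fun X => ?_)
  have := h X.1 X.2
  rw [clSub_of P X.2] at this
  exact this

end Groth.L29.KSub
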