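import Groth.Agent.L02.PC.Basic
import Groth.Agent.L02.PC.Cone
import Mathlib.Algebra.Category.ModuleCat.Projective
import Mathlib.Algebra.Homology.HomotopyCategory.Shift
import Mathlib.RingTheory.Finiteness.Prod

/-!
Perfect complexes of modules: closed under shifts and triangles.
-/

universe u

open CategoryTheory CategoryTheory.Limits CategoryTheory.Pretriangulated

attribute [local instance] HasDerivedCategory.standard

set_option backward.isDefEq.respectTransparency false

namespace Groth.L29.Perfect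

variable {A : Type u} [CommRing A]

lemma of_iso {X Y : Dual.D A} (e : X ≅ Y) (h : DRing.IsPerfect A X) : DRing.IsPerfect A Y := by
  obtain ⟨E, a, b, h1, h2, ⟨eE⟩⟩ := h
  exact ⟨E, a, b, h1, h2, ⟨eE ≪≫ e⟩⟩

lemma shift {X : Dual.D A} (h : DRing.IsPerfect A X) (n : ℤ) : DRing.IsPerfect A (X⟦n⟧) := by
  obtain ⟨E, a, b, h1, h2, ⟨eE⟩⟩ := h
  exact ⟨E⟦n⟧, a - n, b - n, fun i hi => h1 (i + n) (by lia), fun i => h2 (i + n),
    ⟨(DerivedCategory.Q.commShiftIso n).app E ≪≫ (shiftFunctor (Dual.D A) n).mapIso eE⟩⟩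

lemma isKProjective {E : DRing.Cx A} {a b : ℤ} (h1 : DRing.VanishesOutside E a b)
    (h2 : DRing.TermwiseFiniteProjective E) : E.IsKProjective :=
  Groth.L02.PC.isKProjective_of_vanishesAbove (b := b) (fun i hi => h1 i (Or.inr hi)) fun i => (h2 i).2

theorem third (T : Triangle (Dual.D A)) (hT : T ∈ distTriang _) (h₁ : DRing.IsPerfect A T.obj₁)
    (h₂ : DRing.IsPerfect A T.obj₂) : DRing.IsPerfect A T.obj₃ := by
  obtain ⟨E₁, a₁, b₁, v₁, p₁, ⟨e₁⟩⟩ := h₁
  obtain ⟨E₂, a₂, b₂, v₂, p₂, ⟨e₂⟩⟩ := h₂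
  haveI := isKProjective v₁ p₁
  obtain ⟨f, hf⟩ := Groth.L02.PC.exists_chainMap (P := E₁) (K := E₂) (e₁.hom ≫ T.mor₁ ≫ e₂.inv)
  have hd := Groth.L02.PC.mappingCone_distinguished f
  let φ := isoTriangleOfIso₁₂ _ T hd hT e₁ e₂ (by
    change DerivedCategory.Q.map f ≫ e₂.hom = e₁.hom ≫ T.mor₁
    rw [hf, Category.assoc, Category.assoc, Iso.inv_hom_id, Category.comp_id])
  refine ⟨CochainComplex.mappingCone f, min (a₁ - 1) a₂, max (b₁ - 1) b₂, fun i hi => ?_, fun i => ?_,
    ⟨Triangle.π₃.mapIso φ⟩⟩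
  · haveI := ModuleCat.subsingleton_of_isZero (v₁ (i + 1) (by lia))
    haveI := ModuleCat.subsingleton_of_isZero (v₂ i (by lia))
    haveI := (Groth.L02.PC.coneEquiv f i (i + 1) rfl).toEquiv.subsingleton
    exact ModuleCat.isZero_of_subsingleton _
  · haveI := (p₁ (i + 1)).1
    haveI := (p₁ (i + 1)).2
    haveI := (p₂ i).1
    haveI := (p₂ i).2
    exact ⟨Module.Finite.equiv (Groth.L02.PC.coneEquiv f i (i + 1) rfl).symm,
      Module.Projective.of_equiv (Groth.L02.PC.coneEquiv f i (i + 1) rfl).symm⟩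

theorem second (T : Triangle (Dual.D A)) (hT : T ∈ distTriang _) (h₁ : DRing.IsPerfect A T.obj₁)
    (h₃ : DRing.IsPerfect A T.obj₃) : DRing.IsPerfect A T.obj₂ :=
  third T.invRotate (inv_rot_of_distTriang _ hT) (shift h₃ (-1)) h₁

lemma self : DRing.IsPerfect A (Dual.inD A A) := by
  refine ⟨(CochainComplex.singleFunctor (ModuleCat.{u} A) 0).obj (ModuleCat.of A A), 0, 0, fun i hi => ?_,
    fun i => ?_, ⟨(((SingleFunctors.evaluation _ _ 0).mapIso
      (DerivedCategory.singleFunctorsPostcompQIso (ModuleCat.{u} A))).app _).symm⟩⟩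
  · exact HomologicalComplex.isZero_single_obj_X (ComplexShape.up ℤ) 0 _ i (by lia)
  · rcases eq_or_ne i 0 with rfl | hi
    · let e := (HomologicalComplex.singleObjXSelf (ComplexShape.up ℤ) 0 (ModuleCat.of A A)).toLinearEquiv
      exact ⟨Module.Finite.equiv e.symm, Module.Projective.of_equiv e.symm⟩
    · have hz := HomologicalComplex.isZero_single_obj_X (ComplexShape.up ℤ) 0 (ModuleCat.of A A) i hi
      haveI := ModuleCat.subsingleton_of_isZero hz
      exact ⟨inferInstanceAs (Module.Finite A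
        (((HomologicalComplex.single _ (ComplexShape.up ℤ) 0).obj (ModuleCat.of A A)).X i)),
        inferInstanceAs (Module.Projective A
        (((HomologicalComplex.single _ (ComplexShape.up ℤ) 0).obj (ModuleCat.of A A)).X i))⟩

end Groth.L29.Perfect
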