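import Groth.Agent.L29.K.EulerDb
import Groth.Agent.L29.DCoh.RpushCoh
import Groth.Agent.L29.DCoh.PCNoeth
import Groth.Agent.L29.DCoh.PCQCoh
import Groth.Agent.L29.DCoh.Triangle
import Groth.Agent.L16.Devissage
import Groth.Prelude.Def_KZero

/-!
`K₀` of coherent modules with prescribed support, and perfect complexes on Noetherian schemes.
-/

set_option autoImplicit false
set_option backward.defeqAttrib.useBackward true
set_option backward.isDefEq.respectTransparency false
set_option backward.isDefEq.respectTransparency.types false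

universe u

open CategoryTheory CategoryTheory.Limits CategoryTheory.Pretriangulated AlgebraicGeometry

attribute [local instance] HasDerivedCategory.standard

namespace Groth.L29.CohSupp

open Groth.L29.DC

variable {X : Scheme.{u}}

/-- a perfect object of a quasi-compact scheme is bounded -/
theorem exists_bounds_of_perfect [CompactSpace X] {K : DCoh.D X} (h : DCoh.IsPerfect K) :
    ∃ a b : ℤ, K.IsGE a ∧ K.IsLE b := by
  choose V hx E hE he using (isPerfect_iff K).1 h
  choose a b hv using fun x => (hE x).1
  have hz : ∀ (x : X) (i : ℤ), (i < a x ∨ b x < i) → IsZero (DCoh.HD ((resD (V x)).obj K) i) :=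
    fun x i hi => by
    refine IsZero.of_iso ?_ ((DerivedCategory.homologyFunctor _ i).mapIso (he x).some ≪≫
      (DerivedCategory.homologyFunctorFactors _ i).app (E x))
    exact (((E x).exactAt_iff_isZero_homology i).1 (ShortComplex.exact_of_isZero_X₂ _ (hv x i hi)))
  obtain ⟨t, ht⟩ := isCompact_univ.elim_finite_subcover (fun x : X => (V x : Set X))
    (fun x => (V x).isOpen) (fun x _ => Set.mem_iUnion.2 ⟨x, hx x⟩)
  obtain ⟨A, hA⟩ := (t.image a).finite_toSet.bddBelow
  obtain ⟨B, hB⟩ := (t.image b).finite_toSet.bddAbove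
  refine ⟨A, B, (K.isGE_iff A).2 fun i hi => isZero_HD_of_local K i fun x => ?_,
    (K.isLE_iff B).2 fun i hi => isZero_HD_of_local K i fun x => ?_⟩ <;>
    obtain ⟨y, hy, hxy⟩ := Set.mem_iUnion₂.1 (ht (Set.mem_univ x))
  · exact ⟨V y, hxy, hz y i (Or.inl (hi.trans_le (hA (Finset.mem_coe.2 (Finset.mem_image_of_mem a hy)))))⟩
  · exact ⟨V y, hxy, hz y i (Or.inr ((hB (Finset.mem_coe.2 (Finset.mem_image_of_mem b hy))).trans_lt hi))⟩

/-- perfect objects on a locally Noetherian scheme have coherent cohomology -/
theorem isCohD_of_perfect [IsLocallyNoetherian X] {K : DCoh.D X} (h : DCoh.IsPerfect K) : DCoh.IsCohD K :=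
  fun i => PCNoeth.coh_of_pc (PCQCoh.isQCohD_of_perfect h) (pc_of_perfect h i) i le_rfl

/-- coherent modules supported in a given set -/
abbrev P (Z : Set X) : ObjectProperty X.Modules := fun G => Coh.IsCoh G ∧ CohB1.support G ⊆ Z

instance isClosedUnderIso [IsLocallyNoetherian X] (Z : Set X) : (P Z).IsClosedUnderIsomorphisms :=
  ⟨fun e h => ⟨Groth.L16.CohSupport.isCoh_of_iso e h.1, (RpushCoh.support_congr e) ▸ h.2⟩⟩

theorem support_of_isZero {M : X.Modules} (h : IsZero M) : CohB1.support M = ∅ := by
  refine Set.eq_empty_of_forall_notMem fun x hx => hx ?_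
  exact ModuleCat.subsingleton_of_isZero ((Groth.L00.Stk.F X x).map_isZero h)

instance containsZero (Z : Set X) : (P Z).ContainsZero :=
  ⟨⟨_, isZero_zero _, RHomC.isCoh_of_isZero (isZero_zero _),
    (support_of_isZero (isZero_zero _)).subset.trans (Set.empty_subset _)⟩⟩

theorem support_of_mono {A B : X.Modules} (a : A ⟶ B) [Mono a] : CohB1.support A ⊆ CohB1.support B :=
  (Groth.L16.Devissage.support_union (S := ShortComplex.mk a (cokernel.π a) (cokernel.condition _))
    { exact := ShortComplex.exact_cokernel a }).1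

theorem support_of_epi {A B : X.Modules} (a : A ⟶ B) [Epi a] : CohB1.support B ⊆ CohB1.support A :=
  (Groth.L16.Devissage.support_union (S := ShortComplex.mk (kernel.ι a) a (kernel.condition _))
    { exact := ShortComplex.exact_kernel a }).2

instance kernels [IsLocallyNoetherian X] (Z : Set X) : (P Z).IsClosedUnderKernels := ⟨by
  rintro _ ⟨f, c, hc, hM, hN⟩
  haveI : Mono c.ι := Fork.IsLimit.mono hc
  exact ⟨Groth.L16.CohSupport.isCoh_of_iso ((kernelIsKernel f).conePointUniqueUpToIso hc)
    (Groth.L16.CohKernel.isCoh_kernel_cokernel hM.1 hN.1 f).1, (support_of_mono c.ι).trans hM.2⟩⟩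

instance cokernels [IsLocallyNoetherian X] (Z : Set X) : (P Z).IsClosedUnderCokernels := ⟨by
  rintro _ ⟨f, c, hc, hM, hN⟩
  haveI : Epi c.π := Cofork.IsColimit.epi hc
  exact ⟨Groth.L16.CohSupport.isCoh_of_iso ((cokernelIsCokernel f).coconePointUniqueUpToIso hc)
    (Groth.L16.CohKernel.isCoh_kernel_cokernel hM.1 hN.1 f).2, (support_of_epi c.π).trans hN.2⟩⟩

instance extensions [IsLocallyNoetherian X] (Z : Set X) : (P Z).IsClosedUnderExtensions :=
  ⟨fun {T} hT h1 h3 => ⟨Groth.L17.CohClass.isCoh_of_shortExact T hT h1.1 h3.1,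
    (Groth.L21.Mod.support_of_shortExact hT).subset.trans (Set.union_subset h1.2 h3.2)⟩⟩

/-- bounded, cohomology modules perfect: perfect -/
theorem perfect_of_bounded (K : DCoh.D X) (h : ∀ i : ℤ, DCoh.IsPerfect (DCoh.inD X (DCoh.HD K i)))
    (a b : ℤ) (ha : K.IsGE a) (hb : K.IsLE b) : DCoh.IsPerfect K := by
  have hzero : ∀ {Z : DCoh.D X}, IsZero Z → DCoh.IsPerfect Z := fun hZ =>
    isPerfect_of_iso (((DerivedCategory.singleFunctor X.Modules 0).map_isZero
      (haveI := hb; DerivedCategory.isZero_of_isLE K b (b + 1) (by omega))).iso hZ) (h (b + 1))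
  suffices H : ∀ (k : ℕ) (K : DCoh.D X) (a b : ℤ), K.IsGE a → K.IsLE b → b < a + k →
      (∀ i : ℤ, DCoh.IsPerfect (DCoh.inD X (DCoh.HD K i))) → DCoh.IsPerfect K from
    H (b + 1 - a).toNat K a b ha hb (by omega) h
  clear h ha hb a K
  intro k
  induction k with
  | zero =>
    intro K a b ha hb hab _
    haveI := ha
    haveI := hb
    exact hzero (DerivedCategory.TStructure.t.isZero K b a (by simpa using hab))
  | succ k ih =>
    intro K a b ha hb hab h
    haveI := ha
    haveI := hb
    let T := (DerivedCategory.TStructure.t (C := X.Modules))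
    let L := (T.truncLT (a + 1)).obj K
    let R := (T.truncGE (a + 1)).obj K
    haveI : DerivedCategory.IsLE L a := inferInstanceAs (T.IsLE ((T.truncLT (a + 1)).obj K) a)
    haveI : DerivedCategory.IsGE L a := by
      rw [DerivedCategory.isGE_iff]
      intro i hi
      have := Groth.L10.isIso_H_ι (A := X.Modules) (a + 1) i (by omega) K
      exact (DerivedCategory.isZero_of_isGE K a i hi).of_iso
        (asIso ((DerivedCategory.homologyFunctor X.Modules i).map ((T.truncLTι (a + 1)).app K)))
    haveI : DerivedCategory.IsGE R (a + 1) := inferInstance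
    haveI : DerivedCategory.IsLE R (max b a) := by
      rw [DerivedCategory.isLE_iff]
      intro i hi
      have := Groth.L10.isIso_H_π (A := X.Modules) (a + 1) i (by omega) K
      exact (DerivedCategory.isZero_of_isLE K b i (by omega)).of_iso
        (asIso ((DerivedCategory.homologyFunctor X.Modules i).map ((T.truncGEπ (a + 1)).app K))).symm
    have hR : DCoh.IsPerfect R := by
      refine ih R (a + 1) (max b a) inferInstance inferInstance (by push_cast at hab; omega) fun i => ?_
      by_cases hi : a + 1 ≤ i
      · have := Groth.L10.isIso_H_π (A := X.Modules) (a + 1) i hi K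
        exact isPerfect_of_iso ((DerivedCategory.singleFunctor X.Modules 0).mapIso
          (asIso ((DerivedCategory.homologyFunctor X.Modules i).map ((T.truncGEπ (a + 1)).app K)))) (h i)
      · exact hzero ((DerivedCategory.singleFunctor X.Modules 0).map_isZero
          (Groth.L10.isZero_H_GE (a + 1) i (by omega) K))
    obtain ⟨e⟩ := Groth.L10.exists_iso_single_H (A := X.Modules) L a
    have := Groth.L10.isIso_H_ι (A := X.Modules) (a + 1) a (by omega) K
    have hL : DCoh.IsPerfect L := isPerfect_of_iso
      (((DerivedCategory.singleFunctors X.Modules).shiftIso (-a) a 0 (by omega)).app _ ≪≫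
        (DerivedCategory.singleFunctor X.Modules a).mapIso
          (asIso ((DerivedCategory.homologyFunctor X.Modules a).map ((T.truncLTι (a + 1)).app K))).symm ≪≫ e.symm)
      (perfect_shift (h a) (-a))
    exact (perfect_two_out_of_three (T.triangleLTGE_distinguished (a + 1) K)).2.1 hL hR

end Groth.L29.CohSupp
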