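import Groth.Prelude.Def_KZero
import Mathlib.CategoryTheory.Triangulated.Pretriangulated

/-!
Classes in `K0tr` of a property closed under isomorphisms and shifts and containing zero.
-/

universe v u

open CategoryTheory CategoryTheory.Limits CategoryTheory.Pretriangulated ZeroObject

namespace Groth.L29.KTr

variable {D : Type u} [Category.{v} D] [Preadditive D] [HasZeroObject D] [HasShift D ℤ]
  [∀ n : ℤ, (shiftFunctor D n).Additive] [Pretriangulated D] {Q : ObjectProperty D}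

lemma triangle (T : Triangle D) (hT : T ∈ distTriang D) (h₁ : Q T.obj₁) (h₂ : Q T.obj₂) (h₃ : Q T.obj₃) :
    KZero.clTr Q T.obj₂ = KZero.clTr Q T.obj₁ + KZero.clTr Q T.obj₃ := by
  have h : FreeAbelianGroup.of (⟨T.obj₂, h₂⟩ : Subtype Q) - FreeAbelianGroup.of ⟨T.obj₁, h₁⟩ -
      FreeAbelianGroup.of ⟨T.obj₃, h₃⟩ ∈ KZero.relTr Q :=
    AddSubgroup.subset_closure ⟨T, h₁, h₂, h₃, hT, rfl⟩
  have h' := (QuotientAddGroup.eq_zero_iff _).2 h
  rw [QuotientAddGroup.mk_sub, QuotientAddGroup.mk_sub, sub_sub, sub_eq_zero] at h'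
  simp only [KZero.clTr, dif_pos h₁, dif_pos h₂, dif_pos h₃]
  exact h'

lemma isZero (hz : ∀ Z : D, IsZero Z → Q Z) {Z : D} (hZ : IsZero Z) : KZero.clTr Q Z = 0 := by
  have h : Triangle.mk (0 : Z ⟶ Z) (0 : Z ⟶ Z) 0 ∈ distTriang D :=
    isomorphic_distinguished _ (contractible_distinguished Z) _
      (Triangle.isoMk _ _ (Iso.refl _) (Iso.refl _) (hZ.iso (isZero_zero _))
        (hZ.eq_of_src _ _) (hZ.eq_of_src _ _) (hZ.eq_of_src _ _))
  have := triangle _ h (hz Z hZ) (hz Z hZ) (hz Z hZ)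
  simpa using this

lemma iso (hz : ∀ Z : D, IsZero Z → Q Z) {X Y : D} (e : X ≅ Y) (hX : Q X) (hY : Q Y) :
    KZero.clTr Q X = KZero.clTr Q Y := by
  have h : Triangle.mk e.hom (0 : Y ⟶ (0 : D)) 0 ∈ distTriang D :=
    isomorphic_distinguished _ (contractible_distinguished X) _
      (Triangle.isoMk _ _ (Iso.refl _) e.symm (Iso.refl _)
        (by exact e.hom_inv_id.trans (Category.id_comp (𝟙 X)).symm) (by exact zero_comp.trans comp_zero.symm)
        (by exact zero_comp.trans comp_zero.symm))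
  have := triangle _ h hX hY (hz _ (isZero_zero D))
  simp [isZero hz (isZero_zero D)] at this
  exact this.symm

lemma shift_one (hz : ∀ Z : D, IsZero Z → Q Z) {X : D} (hX : Q X) (hX' : Q (X⟦(1 : ℤ)⟧)) :
    KZero.clTr Q (X⟦(1 : ℤ)⟧) = - KZero.clTr Q X := by
  have h := triangle _ (rot_of_distTriang _ (contractible_distinguished X)) hX (hz _ (isZero_zero D)) hX'
  simp [isZero hz (isZero_zero D)] at h
  exact eq_neg_of_add_eq_zero_right h.symm

lemma shift_mem (hz : ∀ Z : D, IsZero Z → Q Z) (hs : ∀ (X : D) (n : ℤ), Q X → Q (X⟦n⟧))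
    (G : AddSubgroup (KZero.K0tr Q)) {X : D} (hX : Q X) (h : KZero.clTr Q X ∈ G) (n : ℤ) :
    KZero.clTr Q (X⟦n⟧) ∈ G := by
  induction n using Int.induction_on with
  | zero => rwa [iso hz ((shiftFunctorZero D ℤ).app X) (hs X 0 hX) hX]
  | succ k ih =>
    rw [iso hz ((shiftFunctorAdd' D (k : ℤ) 1 (k + 1) rfl).app X) (hs X _ hX) (hs _ 1 (hs X _ hX))]
    simp only [Functor.comp_obj]
    rw [shift_one hz (hs X _ hX) (hs _ 1 (hs X _ hX))]
    exact neg_mem ih
  | pred k ih =>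
    rw [iso hz ((shiftFunctorAdd' D (-(k : ℤ) - 1) 1 (-(k : ℤ)) (by omega)).app X) (hs X _ hX)
      (hs _ 1 (hs X _ hX))] at ih
    simp only [Functor.comp_obj] at ih
    rw [shift_one hz (hs X _ hX) (hs _ 1 (hs X _ hX))] at ih
    exact neg_mem_iff.1 ih

end Groth.L29.KTr
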