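import Groth.Agent.L10.DTen.Small
import Groth.Agent.L10.DTen.PerfRes
import Groth.Agent.L10.HomotopyProd
import Mathlib.Algebra.Homology.DerivedCategory.KInjective
import Mathlib.Algebra.Category.ModuleCat.EnoughInjectives
import Mathlib.LinearAlgebra.Finsupp.VectorSpace
import Mathlib.LinearAlgebra.FreeModule.Basic

/-!
Compact objects of `D(A)` are perfect.
-/

set_option autoImplicit false
set_option backward.defeqAttrib.useBackward true
set_option backward.isDefEq.respectTransparency false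
set_option backward.isDefEq.respectTransparency.types false

universe u

open CategoryTheory CategoryTheory.Limits CategoryTheory.Pretriangulated

attribute [local instance] HasDerivedCategory.standard

namespace Groth.L29.SmallPerfect

open Groth.L10.DTen

variable {A : Type u} [CommRing A]

theorem small_of_iso {X Y : Dual.D A} (e : X ≅ Y) (h : Small X) : Small Y := fun ι _ Z _ f => by
  obtain ⟨s, hs⟩ := h _ Z (e.hom ≫ f)
  exact ⟨s, fun t ht => by rw [← cancel_epi e.hom, ← Category.assoc, hs t ht]⟩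

theorem small_second (T : Triangle (Dual.D A)) (hT : T ∈ distTriang _) (h1 : Small T.obj₁) (h3 : Small T.obj₃) :
    Small T.obj₂ := by
  intro ι _ X _ f
  obtain ⟨s, hs⟩ := h1 _ X (T.mor₁ ≫ f)
  have h0 : T.mor₁ ≫ (f ≫ prj X s - f) = 0 := by
    rw [Preadditive.comp_sub, sub_eq_zero, ← Category.assoc, hs s (Finset.Subset.refl s)]
  obtain ⟨g, hg⟩ := Triangle.yoneda_exact₂ _ hT _ h0
  obtain ⟨r, hr⟩ := h3 _ X g
  refine ⟨s ∪ r, fun t ht => ?_⟩
  have h2 : (f ≫ prj X s - f) ≫ prj X t = f ≫ prj X s - f := by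
    rw [hg, Category.assoc, hr t (Finset.union_subset_right ht)]
  rw [Preadditive.sub_comp, Category.assoc, prj_comp X (Finset.union_subset_left ht)] at h2
  exact sub_right_inj.1 h2

/-- maps from small objects factor through perfect objects -/
def Fac (Y : Dual.D A) : Prop :=
  ∀ C : Dual.D A, Small C → ∀ f : C ⟶ Y, ∃ (E : Dual.D A) (g : C ⟶ E) (h : E ⟶ Y), DRing.IsPerfect A E ∧ g ≫ h = f

theorem isPerfect_of_isZero {Z : Dual.D A} (h : IsZero Z) : DRing.IsPerfect A Z :=
  perfect_retract (⟨0, 0, h.eq_of_src _ _⟩ : Retract Z ((_root_.DTen.unit A)⟦(0 : ℤ)⟧)) (isPerfect_shift_unit 0)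

theorem isPerfect_biprod {E E' : Dual.D A} (h : DRing.IsPerfect A E) (h' : DRing.IsPerfect A E') :
    DRing.IsPerfect A (E ⊞ E') :=
  perfect_second _ (binaryBiproductTriangle_distinguished E E') h h'

theorem fac_second (T : Triangle (Dual.D A)) (hT : T ∈ distTriang _) (h1 : Fac T.obj₁) (h3 : Fac T.obj₃) :
    Fac T.obj₂ := by
  intro C hC φ
  obtain ⟨E3, g, h, hE3, hg⟩ := h3 C hC (φ ≫ T.mor₂)
  obtain ⟨C', j, δ, hT1⟩ := distinguished_cocone_triangle₁ g
  have hC' : Small C' := by
    refine small_second _ (inv_rot_of_distTriang _ hT1) ?_ hC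
    exact small_of_perfect (Groth.L29.Perfect.shift hE3 (-1))
  obtain ⟨α, hα1, hα3⟩ := complete_distinguished_triangle_morphism₁ _ _ hT1 hT φ h hg
  dsimp at α hα1 hα3
  obtain ⟨E1, g', h', hE1, eα⟩ := h1 C' hC' α
  obtain ⟨W, p, q, hT3⟩ := distinguished_cocone_triangle₂ (δ ≫ g'⟦(1 : ℤ)⟧')
  obtain ⟨w, hw1, hw2⟩ := complete_distinguished_triangle_morphism₂ _ _ hT1 hT3 g' (𝟙 _) (by simp)
  obtain ⟨ω, hω1, hω2⟩ := complete_distinguished_triangle_morphism₂ _ _ hT3 hT h' h (by
    dsimp
    rw [Category.assoc, ← Functor.map_comp, eα]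
    exact hα3)
  dsimp at w hw1 hw2 ω hω1 hω2
  have hW : DRing.IsPerfect A W := perfect_second _ hT3 hE1 hE3
  have hjw : j ≫ (φ - w ≫ ω) = 0 := by
    rw [Preadditive.comp_sub, hα1, reassoc_of% hw1, hω1, reassoc_of% eα, sub_self]
  obtain ⟨τ, hτ⟩ := Triangle.yoneda_exact₂ _ hT1 _ hjw
  dsimp at τ hτ
  refine ⟨W ⊞ E3, biprod.lift w g, biprod.desc ω τ, isPerfect_biprod hW hE3, ?_⟩
  rw [biprod.lift_desc, ← hτ]
  abel

theorem fac_of_iso {X Y : Dual.D A} (e : X ≅ Y) (h : Fac X) : Fac Y := fun C hC f => by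
  obtain ⟨E, g, k, hE, hgk⟩ := h C hC (f ≫ e.inv)
  exact ⟨E, g, k ≫ e.hom, hE, by rw [reassoc_of% hgk, Iso.inv_hom_id, Category.comp_id]⟩

theorem isPerfect_single_unit (n : ℤ) :
    DRing.IsPerfect A (Groth.L10.DR.single n (ModuleCat.of A A)) :=
  Groth.L29.Perfect.of_iso
    ((shiftFunctor (Dual.D A) (-n)).mapIso
      (((DerivedCategory.singleFunctorIsoCompQ (ModuleCat.{u} A) 0).app (ModuleCat.of A A)).symm :
        _root_.DTen.unit A ≅ Dual.inD A A) ≪≫ Groth.L10.DR.singleShift n (ModuleCat.of A A))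
    (isPerfect_shift_unit (-n))

/-- free modules in one degree -/
theorem fac_single_free (n : ℤ) (M : ModuleCat.{u} A) [Module.Free A M] : Fac (Groth.L10.DR.single n M) := by
  classical
  intro C hC f
  let J := Module.Free.ChooseBasisIndex A M
  let b := Module.Free.chooseBasis A M
  let cM : IsColimit (Cofan.mk M fun j : J => ModuleCat.ofHom (LinearMap.toSpanSingleton A M (b j))) :=
    mkCofanColimit _ (fun s => ModuleCat.ofHom (b.constr A fun j => (s.inj j).hom 1))
      (fun s j => ModuleCat.hom_ext (LinearMap.ext_ring (by simp)))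
      fun s m hm => ModuleCat.hom_ext (b.ext fun j => by
        have := congrArg (fun t : ModuleCat.of A A ⟶ s.pt => t.hom 1) (hm j)
        simpa using this)
  let G : ModuleCat.{u} A ⥤ Dual.D A :=
    HomologicalComplex.single (ModuleCat.{u} A) (ComplexShape.up ℤ) n ⋙ DerivedCategory.Q
  haveI := preservesCoproducts_Q (B := A) J
  haveI : PreservesColimitsOfShape (Discrete J) (HomologicalComplex.single (ModuleCat.{u} A) (ComplexShape.up ℤ) n) :=
    inferInstance
  haveI := hasCoproducts (B := A) J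
  haveI : PreservesColimitsOfShape (Discrete J) G := comp_preservesColimitsOfShape _ _
  let eM : G.obj M ≅ Groth.L10.DR.single n M := ((DerivedCategory.singleFunctorIsoCompQ (ModuleCat.{u} A) n).app M).symm
  let c := isColimitCofanMkObjOfIsColimit G _ _ cM
  let ψ : G.obj M ⟶ ∐ fun _ : J => G.obj (ModuleCat.of A A) := c.desc (Cofan.mk _ fun j => Sigma.ι (fun _ : J => G.obj (ModuleCat.of A A)) j)
  let θ : (∐ fun _ : J => G.obj (ModuleCat.of A A)) ⟶ G.obj M :=
    Sigma.desc fun j => G.map (ModuleCat.ofHom (LinearMap.toSpanSingleton A M (b j)))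
  have hψθ : ψ ≫ θ = 𝟙 _ := Cofan.IsColimit.hom_ext c _ _ fun j => by
    change G.map _ ≫ ψ ≫ θ = G.map _ ≫ 𝟙 _
    rw [← Category.assoc, show G.map _ ≫ ψ = Sigma.ι (fun _ : J => G.obj (ModuleCat.of A A)) j from c.fac _ ⟨j⟩]
    simp [θ]
  obtain ⟨s, hs⟩ := hC _ _ (f ≫ eM.inv ≫ ψ)
  have hsum : ∀ t : Finset J, ∃ (E : Dual.D A) (g : C ⟶ E) (h : E ⟶ Groth.L10.DR.single n M), DRing.IsPerfect A E ∧
      g ≫ h = (f ≫ eM.inv ≫ ψ) ≫ prj _ t ≫ θ ≫ eM.hom := fun t => by
    induction t using Finset.induction_on with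
    | empty => exact ⟨_, 0, 0, isPerfect_shift_unit 0, by simp [prj]⟩
    | insert a t ha ih =>
      obtain ⟨E, g, h, hE, hgh⟩ := ih
      have hA : DRing.IsPerfect A (G.obj (ModuleCat.of A A)) :=
        Groth.L29.Perfect.of_iso ((DerivedCategory.singleFunctorIsoCompQ (ModuleCat.{u} A) n).app _)
          (isPerfect_single_unit n)
      refine ⟨G.obj (ModuleCat.of A A) ⊞ E, biprod.lift ((f ≫ eM.inv ≫ ψ) ≫ pr _ a) g,
        biprod.desc (Sigma.ι (fun _ : J => G.obj (ModuleCat.of A A)) a ≫ θ ≫ eM.hom) h, isPerfect_biprod hA hE, ?_⟩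
      rw [biprod.lift_desc, hgh, prj, prj, Finset.sum_insert ha]
      simp [Preadditive.add_comp, Preadditive.comp_add]
  obtain ⟨E, g, h, hE, hgh⟩ := hsum s
  refine ⟨E, g, h, hE, hgh.trans ?_⟩
  rw [← Category.assoc _ (prj _ s), hs s (Finset.Subset.refl s)]
  simp [reassoc_of% hψθ]

/-- bounded complexes of free modules -/
theorem fac_bounded (P : DRing.Cx A) (a b : ℤ) (hP : DRing.VanishesOutside P a b)
    (hf : ∀ i, Module.Free A (P.X i)) : Fac (DRing.toD P) := by
  let S : ObjectProperty (Dual.D A) := fun Y => Fac Y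
  haveI : S.IsClosedUnderIsomorphisms := ⟨fun e h => fac_of_iso e h⟩
  refine Groth.L10.DR.of_termwise S (fun Z hZ C _ f => ⟨_, 0, 0, isPerfect_shift_unit 0, by
    rw [zero_comp, hZ.eq_of_tgt f 0]⟩) (fun T hT h1 h3 => fac_second T hT h1 h3) P a b hP fun i _ _ => ?_
  haveI := hf i
  exact fac_single_free i (P.X i)

section Family

/-- complexes in pairwise different degrees: coproduct is product -/
theorem isIso_coprodToProd (M : ℤ → ModuleCat.{u} A) :
    IsIso (Sigma.desc fun j : ULift.{u} ℤ => Pi.lift fun k : ULift.{u} ℤ =>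
      if h : j = k then eqToHom (congrArg (fun t : ULift.{u} ℤ =>
        (HomologicalComplex.single (ModuleCat.{u} A) (ComplexShape.up ℤ) t.down).obj (M t.down)) h)
      else (0 : (HomologicalComplex.single (ModuleCat.{u} A) (ComplexShape.up ℤ) j.down).obj (M j.down) ⟶ _)) := by
  classical
  let I : ULift.{u} ℤ → DRing.Cx A := fun t =>
    (HomologicalComplex.single (ModuleCat.{u} A) (ComplexShape.up ℤ) t.down).obj (M t.down)
  let φ : ∐ I ⟶ ∏ᶜ I := Sigma.desc fun j => Pi.lift fun k => if h : j = k then eqToHom (congrArg I h) else 0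
  have hc : ∀ j k, Sigma.ι I j ≫ φ ≫ Pi.π I k = if h : j = k then eqToHom (congrArg I h) else 0 := fun j k => by
    simp [φ]
  have hfd : ∀ q, IsIso (φ.f q) := fun q => by
    let ev := HomologicalComplex.eval (ModuleCat.{u} A) (ComplexShape.up ℤ) q
    let hl := isLimitOfHasProductOfPreservesLimit ev I
    let hcl := isColimitOfHasCoproductOfPreservesColimit ev I
    refine ⟨(Pi.π I ⟨q⟩).f q ≫ (Sigma.ι I ⟨q⟩).f q, Cofan.IsColimit.hom_ext hcl _ _ fun j => ?_,
      Fan.IsLimit.hom_ext hl _ _ fun k => ?_⟩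
    · by_cases hj : j = ⟨q⟩
      · subst hj
        change (Sigma.ι I ⟨q⟩).f q ≫ φ.f q ≫ (Pi.π I ⟨q⟩).f q ≫ _ = (Sigma.ι I ⟨q⟩).f q ≫ 𝟙 _
        rw [← HomologicalComplex.comp_f_assoc φ, ← HomologicalComplex.comp_f_assoc, hc]
        simp
      · exact (HomologicalComplex.isZero_single_obj_X (ComplexShape.up ℤ) j.down (M j.down) q
          (fun h => hj (ULift.ext _ _ h.symm))).eq_of_src _ _
    · by_cases hk : k = ⟨q⟩
      · subst hk
        change (((Pi.π I ⟨q⟩).f q ≫ (Sigma.ι I ⟨q⟩).f q) ≫ φ.f q) ≫ (Pi.π I ⟨q⟩).f q = 𝟙 _ ≫ (Pi.π I ⟨q⟩).f q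
        simp only [Category.assoc, Category.id_comp]
        rw [← HomologicalComplex.comp_f φ, ← HomologicalComplex.comp_f, hc]
        simp
      · exact (HomologicalComplex.isZero_single_obj_X (ComplexShape.up ℤ) k.down (M k.down) q
          (fun h => hk (ULift.ext _ _ h.symm))).eq_of_tgt _ _
  exact HomologicalComplex.Hom.isIso_of_components φ

/-- a small object only maps non-trivially to finitely many members of a glueable family -/
theorem finite_nonzero {K : Dual.D A} (hK : Small K) (M : ℤ → ModuleCat.{u} A)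
    (f : ∀ t : ULift.{u} ℤ, K ⟶ DerivedCategory.Q.obj
      ((HomologicalComplex.single (ModuleCat.{u} A) (ComplexShape.up ℤ) t.down).obj (M t.down)))
    (hlift : ∃ φ : K ⟶ DerivedCategory.Q.obj (∏ᶜ fun t : ULift.{u} ℤ =>
        (HomologicalComplex.single (ModuleCat.{u} A) (ComplexShape.up ℤ) t.down).obj (M t.down)),
      ∀ t, φ ≫ DerivedCategory.Q.map (Pi.π _ t) = f t) :
    {j : ℤ | f ⟨j⟩ ≠ 0}.Finite := by
  classical
  let I : ULift.{u} ℤ → DRing.Cx A := fun t =>
    (HomologicalComplex.single (ModuleCat.{u} A) (ComplexShape.up ℤ) t.down).obj (M t.down)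
  obtain ⟨φ, hφ⟩ := hlift
  haveI := isIso_coprodToProd M
  let c : ∐ I ⟶ ∏ᶜ I := Sigma.desc fun j => Pi.lift fun k => if h : j = k then eqToHom (congrArg I h) else 0
  haveI : IsIso c := isIso_coprodToProd M
  haveI := preservesCoproducts_Q (B := A) (ULift.{u} ℤ)
  haveI := hasCoproducts (B := A) (ULift.{u} ℤ)
  let X : ULift.{u} ℤ → Dual.D A := fun t => DerivedCategory.Q.obj (I t)
  let e := isColimitOfHasCoproductOfPreservesColimit (DerivedCategory.Q : DRing.Cx A ⥤ Dual.D A) I
  let θ : DerivedCategory.Q.obj (∐ I) ⟶ ∐ X := e.desc (Cofan.mk _ fun t => Sigma.ι X t)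
  obtain ⟨s, hs⟩ := hK _ X (φ ≫ DerivedCategory.Q.map (inv c) ≫ θ)
  have key : ∀ t, θ ≫ pr X t = DerivedCategory.Q.map (c ≫ Pi.π I t) := fun t =>
    Cofan.IsColimit.hom_ext e _ _ fun i => by
      change DerivedCategory.Q.map (Sigma.ι I i) ≫ θ ≫ _ = DerivedCategory.Q.map (Sigma.ι I i) ≫ _
      rw [← Category.assoc, show DerivedCategory.Q.map (Sigma.ι I i) ≫ θ = Sigma.ι X i from e.fac _ ⟨i⟩,
        ← Functor.map_comp]
      by_cases h : i = t
      · subst h
        simp [c, ι_pr]
        rfl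
      · simp [c, h, ι_pr_ne X h]
  refine (s.image ULift.down).finite_toSet.subset fun j hj => ?_
  by_contra h
  refine hj ?_
  have h1 := congrArg (· ≫ pr X ⟨j⟩) (hs s (Finset.Subset.refl s))
  simp only [Category.assoc, key, Functor.map_comp, IsIso.inv_hom_id_assoc, ← Functor.map_inv] at h1
  rw [Functor.map_inv, IsIso.inv_hom_id_assoc, hφ] at h1
  rw [← h1, prj, Preadditive.sum_comp]
  simp only [Preadditive.comp_sum]
  refine Finset.sum_eq_zero fun i hi => ?_
  have : i ≠ ⟨j⟩ := fun he => h (Finset.mem_coe.2 (Finset.mem_image.2 ⟨i, hi, by rw [he]⟩))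
  simp [ι_pr_ne X this]

theorem exists_bound {K : Dual.D A} (hK : Small K) :
    ∃ n : ℤ, ∀ i, n < i → IsZero ((Groth.L02.PC.HH i).obj K) := by
  classical
  let C := DerivedCategory.Q.objPreimage K
  let eC : DerivedCategory.Q.obj C ≅ K := DerivedCategory.Q.objObjPreimageIso K
  let M : ℤ → ModuleCat.{u} A := fun j => Injective.under (C.homology j)
  let ext : ∀ j, C.X j ⟶ M j := fun j => Injective.factorThru (C.homologyπ j ≫ Injective.ι (C.homology j)) (C.iCycles j)
  have hext : ∀ j, C.iCycles j ≫ ext j = C.homologyπ j ≫ Injective.ι (C.homology j) := fun j =>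
    Injective.comp_factorThru _ _
  let g : ∀ t : ULift.{u} ℤ, C ⟶ (HomologicalComplex.single (ModuleCat.{u} A) (ComplexShape.up ℤ) t.down).obj (M t.down) :=
    fun t => HomologicalComplex.mkHomToSingle (ext t.down) fun i _ => by
      rw [← C.toCycles_i i t.down, Category.assoc, hext, ← Category.assoc, C.toCycles_comp_homologyπ, zero_comp]
  have hfin := finite_nonzero hK M (fun t => eC.inv ≫ DerivedCategory.Q.map (g t))
    ⟨eC.inv ≫ DerivedCategory.Q.map (Pi.lift g), fun t => by
      rw [Category.assoc, ← Functor.map_comp, Pi.lift_π]⟩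
  obtain ⟨n, hn⟩ := hfin.bddAbove
  refine ⟨n, fun i hi => ?_⟩
  have h0 : DerivedCategory.Q.map (g ⟨i⟩) = 0 := by
    by_contra h
    have := hn (show i ∈ {j : ℤ | eC.inv ≫ DerivedCategory.Q.map (g ⟨j⟩) ≠ 0} from fun h' =>
      h (by rwa [← comp_zero (f := eC.inv), cancel_epi] at h'))
    omega
  have h1 : HomologicalComplex.homologyMap (g ⟨i⟩) i = 0 := by
    have := (DerivedCategory.homologyFunctorFactors (ModuleCat.{u} A) i).hom.naturality (g ⟨i⟩)
    simp only [Functor.comp_map, h0, Functor.map_zero, zero_comp] at this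
    exact (cancel_epi ((DerivedCategory.homologyFunctorFactors (ModuleCat.{u} A) i).hom.app C)).1
      (this.symm.trans comp_zero.symm)
  have hz : Injective.ι (C.homology i) = 0 := by
    rw [← cancel_epi (C.homologyπ i), comp_zero, ← hext]
    have h2 : HomologicalComplex.cyclesMap (g ⟨i⟩) i = 0 := by
      let T := (HomologicalComplex.single (ModuleCat.{u} A) (ComplexShape.up ℤ) i).obj (M i)
      haveI : IsIso (T.homologyπ i) := T.isIso_homologyπ (i - 1) i (by simp) (by simp [T])
      rw [← cancel_mono (T.homologyπ i), zero_comp, ← HomologicalComplex.homologyπ_naturality, h1, comp_zero]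
    have h3 := congrArg (· ≫ ((HomologicalComplex.single (ModuleCat.{u} A) (ComplexShape.up ℤ) i).obj (M i)).iCycles i) h2
    simp only [HomologicalComplex.cyclesMap_i, zero_comp] at h3
    rw [← cancel_mono (HomologicalComplex.singleObjXSelf (ComplexShape.up ℤ) i (M i)).inv, zero_comp, Category.assoc]
    simpa [g] using h3
  exact (IsZero.of_mono_eq_zero _ hz).of_iso
    (((Groth.L02.PC.HH i).mapIso eC).symm ≪≫ (DerivedCategory.homologyFunctorFactors (ModuleCat.{u} A) i).app C)

end Family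

/-- compact objects are perfect -/
theorem isPerfect_of_small {K : Dual.D A} (hK : Small K) : DRing.IsPerfect A K := by
  classical
  obtain ⟨n, hn⟩ := exists_bound hK
  obtain ⟨P, hP, hfree, hPK, ⟨e⟩⟩ := Groth.L02.PC.exists_free_rep (K := K) hn
  haveI := hPK
  let Bad : ℤ → Prop := fun j => ∃ (M : ModuleCat.{u} A) (f : K ⟶ DerivedCategory.Q.obj
    ((HomologicalComplex.single (ModuleCat.{u} A) (ComplexShape.up ℤ) j).obj M)), f ≠ 0
  have hBad : ∀ j : ℤ, ∃ (M : ModuleCat.{u} A) (f : K ⟶ DerivedCategory.Q.obj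
      ((HomologicalComplex.single (ModuleCat.{u} A) (ComplexShape.up ℤ) j).obj M)), Bad j → f ≠ 0 := fun j => by
    by_cases h : Bad j
    · obtain ⟨M, f, hf⟩ := h
      exact ⟨M, f, fun _ => hf⟩
    · exact ⟨ModuleCat.of A A, 0, fun h' => absurd h' h⟩
  choose M f hf using hBad
  have hlifts : ∀ t : ULift.{u} ℤ, ∃ u : P ⟶ (HomologicalComplex.single (ModuleCat.{u} A) (ComplexShape.up ℤ) t.down).obj (M t.down),
      DerivedCategory.Q.map u = e.hom ≫ f t.down := fun t => Groth.L02.PC.exists_chainMap _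
  choose u hu using hlifts
  have hfin := finite_nonzero hK M (fun t => f t.down) ⟨e.inv ≫ DerivedCategory.Q.map (Pi.lift u), fun t => by
    rw [Category.assoc, ← Functor.map_comp, Pi.lift_π, hu, Iso.inv_hom_id_assoc]⟩
  obtain ⟨m, hm⟩ := hfin.bddBelow
  have hzero : ∀ j, j < m → ∀ (N : ModuleCat.{u} A) (φ : K ⟶ DerivedCategory.Q.obj
      ((HomologicalComplex.single (ModuleCat.{u} A) (ComplexShape.up ℤ) j).obj N)), φ = 0 := fun j hj N φ => by
    by_contra h
    have := hm (show j ∈ {j : ℤ | f (⟨j⟩ : ULift.{u} ℤ).down ≠ 0} from hf j ⟨N, φ, h⟩)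
    omega
  have hlow : ∀ i, i < m → IsZero ((Groth.L02.PC.HH i).obj K) := fun i hi => by
    let q : P.X i ⟶ P.opcycles i := P.pOpcycles i
    let u₀ : P ⟶ (HomologicalComplex.single (ModuleCat.{u} A) (ComplexShape.up ℤ) i).obj (P.opcycles i) :=
      HomologicalComplex.mkHomToSingle q fun k _ => P.d_pOpcycles k i
    have h0 : DerivedCategory.Q.map u₀ = 0 := by
      rw [← cancel_epi e.inv, comp_zero]
      exact hzero i hi _ _
    have h1 : HomologicalComplex.homologyMap u₀ i = 0 := by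
      have := (DerivedCategory.homologyFunctorFactors (ModuleCat.{u} A) i).hom.naturality u₀
      simp only [Functor.comp_map, h0, Functor.map_zero, zero_comp] at this
      exact (cancel_epi ((DerivedCategory.homologyFunctorFactors (ModuleCat.{u} A) i).hom.app P)).1
        (this.symm.trans comp_zero.symm)
    have hι : P.homologyι i = 0 := by
      let T := (HomologicalComplex.single (ModuleCat.{u} A) (ComplexShape.up ℤ) i).obj (P.opcycles i)
      haveI : IsIso (T.pOpcycles i) := T.isIso_pOpcycles (i - 1) i (by simp) (by simp [T])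
      have h3 : HomologicalComplex.opcyclesMap u₀ i =
          (HomologicalComplex.singleObjXSelf (ComplexShape.up ℤ) i (P.opcycles i)).inv ≫ T.pOpcycles i := by
        rw [← cancel_epi (P.pOpcycles i), HomologicalComplex.p_opcyclesMap]
        simp [u₀, q, T]
      haveI : Mono (HomologicalComplex.opcyclesMap u₀ i) := by rw [h3]; infer_instance
      rw [← cancel_mono (HomologicalComplex.opcyclesMap u₀ i), zero_comp,
        ← HomologicalComplex.homologyι_naturality, h1, zero_comp]
    exact (IsZero.of_mono_eq_zero _ hι).of_iso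
      (((Groth.L02.PC.HH i).mapIso e).symm ≪≫ (DerivedCategory.homologyFunctorFactors (ModuleCat.{u} A) i).app P)
  let l := m - 2
  let ι := Groth.L02.PC.truncι P l
  obtain ⟨Z, π, δ, hT⟩ := distinguished_cocone_triangle (DerivedCategory.Q.map ι)
  have hap := Groth.L02.PC.isApprox_truncι P l
  have hle : Z.IsLE (l - 1) := (DerivedCategory.isLE_iff _ _).2 fun i hi =>
    (Groth.L02.PC.isApprox_iff _ hT l).1 hap i (by omega)
  have hge : Z.IsGE (l - 1) := (DerivedCategory.isGE_iff _ _).2 fun i hi => by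
    refine ShortComplex.Exact.isZero_of_both_zeros
      ((DerivedCategory.homologyFunctor (ModuleCat.{u} A) 0).homologySequence_exact₃ _ hT i (i + 1) rfl)
      (IsZero.eq_of_src ?_ _ _) (IsZero.eq_of_tgt ?_ _ _)
    · exact ((hlow i (by omega)).of_iso ((Groth.L02.PC.HH i).mapIso e))
    · refine IsZero.of_iso ?_ ((DerivedCategory.homologyFunctorFactors (ModuleCat.{u} A) (i + 1)).app _)
      change IsZero ((Groth.L02.PC.trunc P l).homology (i + 1))
      rw [← HomologicalComplex.exactAt_iff_isZero_homology]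
      exact ShortComplex.exact_of_isZero_X₂ _ (Groth.L02.PC.isZero_trunc_X P l (by omega))
  obtain ⟨eZ⟩ := Groth.L10.exists_iso_single_H Z (l - 1)
  let eZ' := eZ ≪≫ (DerivedCategory.singleFunctorIsoCompQ (ModuleCat.{u} A) (l - 1)).app _
  have hπ : π = 0 := by
    rw [← cancel_mono eZ'.hom, zero_comp, ← cancel_epi e.inv, comp_zero]
    exact hzero (l - 1) (by omega) _ _
  obtain ⟨σ, hσ⟩ := Triangle.coyoneda_exact₂ _ hT e.inv (by simp [hπ])
  obtain ⟨E, g, h, hE, hgh⟩ := fac_bounded (Groth.L02.PC.trunc P l) l n (Groth.L02.PC.trunc_vanishesOutside P l n hP)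
    (fun i => by
      by_cases hi : l ≤ i
      · haveI := hfree i
        exact Module.Free.of_equiv (LinearEquiv.ofBijective (ι.f i).hom (Groth.L02.PC.truncι_bijective P l hi)).symm
      · have := ModuleCat.subsingleton_of_isZero (Groth.L02.PC.isZero_trunc_X P l (show i < l by omega))
        infer_instance) K hK σ
  refine perfect_retract ⟨g, h ≫ DerivedCategory.Q.map ι ≫ e.hom, ?_⟩ hE
  rw [reassoc_of% hgh]
  change σ ≫ DerivedCategory.Q.map ι ≫ e.hom = 𝟙 K
  rw [← Category.assoc]
  exact (congrArg (· ≫ e.hom) hσ.symm).trans e.inv_hom_id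

end Groth.L29.SmallPerfect
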