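import Groth.Agent.L29.K.Sub
import Groth.Agent.L10.DerTrunc
import Mathlib.Algebra.Homology.DerivedCategory.SingleTriangle
import Mathlib.CategoryTheory.Abelian.Subcategory
import Mathlib.CategoryTheory.ObjectProperty.Extensions
import Mathlib.Algebra.Ring.NegOnePow
import Mathlib.Algebra.BigOperators.Finprod
import Mathlib.Data.Int.Interval

/-!
`K₀` of a thick subcategory is `K₀` of the bounded complexes with cohomology in it.
-/

universe w v u

open CategoryTheory CategoryTheory.Limits CategoryTheory.Pretriangulated ZeroObject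

set_option backward.isDefEq.respectTransparency false

namespace Groth.L29.EulerDb

variable {C : Type u} [Category.{v} C] [Abelian C] [HasDerivedCategory.{w} C]
variable (P : ObjectProperty C) [P.IsClosedUnderIsomorphisms] [P.ContainsZero]
  [P.IsClosedUnderKernels] [P.IsClosedUnderCokernels] [P.IsClosedUnderExtensions]

local notation "H" => DerivedCategory.homologyFunctor C

/-- the Euler characteristic -/
noncomputable def euler (K : DerivedCategory C) : KZero.K0sub P :=
  ∑ᶠ i : ℤ, (i.negOnePow : ℤ) • KZero.clSub P ((H i).obj K)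

omit [P.IsClosedUnderKernels] [P.IsClosedUnderCokernels] [P.IsClosedUnderExtensions] in
lemma clSub_isZero {X : C} (hX : IsZero X) : KZero.clSub P X = 0 :=
  KSub.clSub_zero P hX (P.prop_of_isZero hX)

/-- bounded with cohomology in `P` -/
def Ok (K : DerivedCategory C) : Prop :=
  (∀ i : ℤ, P ((H i).obj K)) ∧ ∃ a b : ℤ, K.IsGE a ∧ K.IsLE b

omit [P.IsClosedUnderKernels] [P.IsClosedUnderCokernels] [P.IsClosedUnderExtensions] in
lemma finite_support {f : ℤ → C} (h : ∃ a b : ℤ, ∀ i, (i < a ∨ b < i) → IsZero (f i)) :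
    (Function.support fun i : ℤ => (i.negOnePow : ℤ) • KZero.clSub P (f i)).Finite := by
  obtain ⟨a, b, hab⟩ := h
  refine (Set.finite_Icc a b).subset fun i hi => ?_
  by_contra hc
  refine hi ?_
  change (i.negOnePow : ℤ) • KZero.clSub P (f i) = 0
  rw [Set.mem_Icc] at hc
  rw [clSub_isZero P (hab i (by omega)), smul_zero]

omit [P.IsClosedUnderIsomorphisms] [P.ContainsZero] [P.IsClosedUnderKernels] [P.IsClosedUnderCokernels]
  [P.IsClosedUnderExtensions] in
lemma bound_of_ok {K : DerivedCategory C} (h : Ok P K) :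
    ∃ a b : ℤ, ∀ i, (i < a ∨ b < i) → IsZero ((H i).obj K) := by
  obtain ⟨-, a, b, ha, hb⟩ := h
  haveI := ha
  haveI := hb
  exact ⟨a, b, fun i hi => hi.elim (fun h => DerivedCategory.isZero_of_isGE K a i h)
    (fun h => DerivedCategory.isZero_of_isLE K b i h)⟩

omit [P.IsClosedUnderIsomorphisms] [P.ContainsZero] [P.IsClosedUnderKernels] [P.IsClosedUnderCokernels]
  [P.IsClosedUnderExtensions] in
/-- an exact pair gives a short exact sequence of kernels -/
lemma shortExact_ker {X Y Z : C} (f : X ⟶ Y) (g : Y ⟶ Z) (w : f ≫ g = 0)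
    (h : (ShortComplex.mk f g w).Exact) :
    (ShortComplex.mk (kernel.ι f) (kernel.lift g f w) (by ext; simp)).ShortExact := by
  refine ShortComplex.ShortExact.mk' ?_ inferInstance ?_
  · rw [ShortComplex.exact_iff_exact_up_to_refinements]
    intro A x hx
    have h2 : x ≫ f = 0 := by
      have := congrArg (· ≫ kernel.ι g) hx
      simpa using this
    exact ⟨A, 𝟙 A, inferInstance, kernel.lift f x h2, by simp⟩
  · rw [epi_iff_surjective_up_to_refinements]
    intro A x
    obtain ⟨A', π, hπ, y, hy⟩ := h.exact_up_to_refinements (x ≫ kernel.ι g) (by simp)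
    exact ⟨A', π, hπ, y, by ext; simpa using hy⟩

theorem euler_triangle (T : Triangle (DerivedCategory C)) (hT : T ∈ distTriang _)
    (h1 : Ok P T.obj₁) (h2 : Ok P T.obj₂) (h3 : Ok P T.obj₃) :
    euler P T.obj₂ = euler P T.obj₁ + euler P T.obj₃ := by
  let f := fun i : ℤ => (H i).map T.mor₁
  let g := fun i : ℤ => (H i).map T.mor₂
  let d := fun i : ℤ => DerivedCategory.HomologySequence.δ T i (i + 1) rfl
  let k1 := fun i => kernel (f i)
  let k2 := fun i => kernel (g i)
  let k3 := fun i => kernel (d i)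
  have p1 : ∀ i, P (k1 i) := fun i => P.prop_kernel _ (h1.1 i) (h2.1 i)
  have p2 : ∀ i, P (k2 i) := fun i => P.prop_kernel _ (h2.1 i) (h3.1 i)
  have p3 : ∀ i, P (k3 i) := fun i => P.prop_kernel _ (h3.1 i) (h1.1 (i + 1))
  have e1 : ∀ i, KZero.clSub P ((H i).obj T.obj₁) = KZero.clSub P (k1 i) + KZero.clSub P (k2 i) := fun i =>
    KSub.clSub_shortExact P (shortExact_ker _ _ _ (DerivedCategory.HomologySequence.exact₂ T hT i))
      (p1 i) (h1.1 i) (p2 i)
  have e2 : ∀ i, KZero.clSub P ((H i).obj T.obj₂) = KZero.clSub P (k2 i) + KZero.clSub P (k3 i) := fun i =>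
    KSub.clSub_shortExact P (shortExact_ker _ _ _ (DerivedCategory.HomologySequence.exact₃ T hT i (i + 1) rfl))
      (p2 i) (h2.1 i) (p3 i)
  have e3 : ∀ i, KZero.clSub P ((H i).obj T.obj₃) = KZero.clSub P (k3 i) + KZero.clSub P (k1 (i + 1)) := fun i =>
    KSub.clSub_shortExact P (shortExact_ker _ _ _ (DerivedCategory.HomologySequence.exact₁ T hT i (i + 1) rfl))
      (p3 i) (h3.1 i) (p1 (i + 1))
  obtain ⟨a1, b1, hb1⟩ := bound_of_ok P h1
  obtain ⟨a2, b2, hb2⟩ := bound_of_ok P h2
  obtain ⟨a3, b3, hb3⟩ := bound_of_ok P h3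
  have z : ∀ {X Y : C} (u : X ⟶ Y), IsZero X → IsZero (kernel u) := fun u hX =>
    IsZero.of_mono (kernel.ι u) hX
  have s1 := finite_support P (f := k1) ⟨a1, b1, fun i hi => z _ (hb1 i hi)⟩
  have s2 := finite_support P (f := k2) ⟨a2, b2, fun i hi => z _ (hb2 i hi)⟩
  have s3 := finite_support P (f := k3) ⟨a3, b3, fun i hi => z _ (hb3 i hi)⟩
  have s1' := finite_support P (f := fun i => k1 (i + 1))
    ⟨a1 - 1, b1 - 1, fun i hi => z _ (hb1 (i + 1) (by omega))⟩
  simp only [euler, e1, e2, e3, smul_add]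
  rw [finsum_add_distrib s2 s3, finsum_add_distrib s1 s2, finsum_add_distrib s3 s1']
  have hshift : ∑ᶠ i : ℤ, (i.negOnePow : ℤ) • KZero.clSub P (k1 (i + 1)) =
      -∑ᶠ i : ℤ, (i.negOnePow : ℤ) • KZero.clSub P (k1 i) := by
    rw [← finsum_neg_distrib]
    exact finsum_eq_of_bijective (· + 1) (Equiv.addRight (1 : ℤ)).bijective fun i => by
      simp [Int.negOnePow_succ]
  rw [hshift]
  abel

variable {P}

omit [P.IsClosedUnderKernels] [P.IsClosedUnderCokernels] [P.IsClosedUnderExtensions] in
lemma ok_single {X : C} (hX : P X) (n : ℤ) : Ok P ((DerivedCategory.singleFunctor C n).obj X) := by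
  refine ⟨fun i => ?_, n, n, inferInstance, inferInstance⟩
  rcases eq_or_ne i n with rfl | hne
  · exact P.prop_of_iso ((DerivedCategory.singleFunctorCompHomologyFunctorIso C i).app X).symm hX
  · refine P.prop_of_isZero ?_
    rcases lt_or_gt_of_ne hne with h | h
    · exact DerivedCategory.isZero_of_isGE _ n i h
    · exact DerivedCategory.isZero_of_isLE _ n i h

lemma euler_single {X : C} (hX : P X) :
    euler P ((DerivedCategory.singleFunctor C 0).obj X) = KZero.clSub P X := by
  rw [euler, finsum_eq_single _ 0 fun i hi => ?_]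
  · have e := (DerivedCategory.singleFunctorCompHomologyFunctorIso C 0).app X
    simp only [Functor.comp_obj, Functor.id_obj] at e
    rw [KSub.clSub_iso P e (isZero_zero C) (P.prop_of_isZero (isZero_zero C)) ((ok_single hX 0).1 0)]
    simp
  · rw [clSub_isZero P ?_, smul_zero]
    rcases lt_or_gt_of_ne hi with h | h
    · exact DerivedCategory.isZero_of_isGE _ 0 i h
    · exact DerivedCategory.isZero_of_isLE _ 0 i h

section Equiv

variable (P) (Q : ObjectProperty (DerivedCategory C)) (hQ : ∀ K, Q K ↔ Ok P K)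
include hQ

omit [P.IsClosedUnderIsomorphisms] [P.ContainsZero] [P.IsClosedUnderKernels] [P.IsClosedUnderCokernels]
  [P.IsClosedUnderExtensions] hQ in
lemma clTr_triangle (T : Triangle (DerivedCategory C)) (hT : T ∈ distTriang _)
    (h1 : Q T.obj₁) (h2 : Q T.obj₂) (h3 : Q T.obj₃) :
    KZero.clTr Q T.obj₂ = KZero.clTr Q T.obj₁ + KZero.clTr Q T.obj₃ := by
  have h : FreeAbelianGroup.of (⟨T.obj₂, h2⟩ : Subtype Q) - FreeAbelianGroup.of ⟨T.obj₁, h1⟩ -
      FreeAbelianGroup.of ⟨T.obj₃, h3⟩ ∈ KZero.relTr Q :=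
    AddSubgroup.subset_closure ⟨T, h1, h2, h3, hT, rfl⟩
  have h' := (QuotientAddGroup.eq_zero_iff _).2 h
  rw [QuotientAddGroup.mk_sub, QuotientAddGroup.mk_sub, sub_sub, sub_eq_zero] at h'
  simp only [KZero.clTr, dif_pos h1, dif_pos h2, dif_pos h3]
  exact h'

omit [P.IsClosedUnderKernels] [P.IsClosedUnderCokernels] [P.IsClosedUnderExtensions] in
lemma q_single {X : C} (hX : P X) (n : ℤ) : Q ((DerivedCategory.singleFunctor C n).obj X) :=
  (hQ _).2 (ok_single hX n)

omit [P.IsClosedUnderKernels] [P.IsClosedUnderCokernels] [P.IsClosedUnderExtensions] in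
lemma q_iso {X Y : DerivedCategory C} (e : X ≅ Y) (h : Q X) : Q Y := by
  obtain ⟨h0, a, b, ha, hb⟩ := (hQ X).1 h
  haveI := ha
  haveI := hb
  exact (hQ Y).2 ⟨fun i => P.prop_of_iso ((H i).mapIso e) (h0 i), a, b,
    DerivedCategory.TStructure.t.isGE_of_iso e a, DerivedCategory.TStructure.t.isLE_of_iso e b⟩

omit [P.IsClosedUnderKernels] [P.IsClosedUnderCokernels] [P.IsClosedUnderExtensions] in
lemma q_zero {Z : DerivedCategory C} (hZ : IsZero Z) : Q Z :=
  q_iso P Q hQ (((DerivedCategory.singleFunctor C 0).map_isZero (isZero_zero C)).iso hZ)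
    (q_single P Q hQ (P.prop_of_isZero (isZero_zero C)) 0)

omit [P.IsClosedUnderKernels] [P.IsClosedUnderCokernels] [P.IsClosedUnderExtensions] in
lemma clTr_zero {Z : DerivedCategory C} (hZ : IsZero Z) : KZero.clTr Q Z = 0 := by
  have h0 := q_zero P Q hQ (isZero_zero (DerivedCategory C))
  have hz : KZero.clTr Q (0 : DerivedCategory C) = 0 := by
    have := clTr_triangle Q _ (contractible_distinguished (0 : DerivedCategory C)) h0 h0 h0
    simpa using this
  have hZ' := q_zero P Q hQ hZ
  have hiso : Triangle.mk (0 : (0 : DerivedCategory C) ⟶ 0) (0 : (0 : DerivedCategory C) ⟶ Z) 0 ∈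
      distTriang (DerivedCategory C) :=
    isomorphic_distinguished _ (contractible_distinguished (0 : DerivedCategory C)) _
      (Triangle.isoMk _ _ (Iso.refl _) (Iso.refl _) (hZ.iso (isZero_zero _))
        ((isZero_zero _).eq_of_src _ _) ((isZero_zero _).eq_of_src _ _) (hZ.eq_of_src _ _))
  have := clTr_triangle Q _ hiso h0 h0 hZ'
  exact (by simpa [hz] using this : 0 = KZero.clTr Q Z).symm

omit [P.IsClosedUnderKernels] [P.IsClosedUnderCokernels] [P.IsClosedUnderExtensions] in
lemma clTr_iso {X Y : DerivedCategory C} (e : X ≅ Y) (hX : Q X) : KZero.clTr Q X = KZero.clTr Q Y := by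
  have h : Triangle.mk e.hom (0 : Y ⟶ (0 : DerivedCategory C)) 0 ∈ distTriang (DerivedCategory C) :=
    isomorphic_distinguished _ (contractible_distinguished X) _
      (Triangle.isoMk _ _ (Iso.refl _) e.symm (Iso.refl _)
        (by exact e.hom_inv_id.trans (Category.id_comp (𝟙 X)).symm) (by exact zero_comp.trans comp_zero.symm)
        (by exact zero_comp.trans comp_zero.symm))
  have h0 := q_zero P Q hQ (isZero_zero (DerivedCategory C))
  have := clTr_triangle Q _ h hX (q_iso P Q hQ e hX) h0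
  simp [clTr_zero P Q hQ (isZero_zero (DerivedCategory C))] at this
  exact this.symm

omit [P.IsClosedUnderKernels] [P.IsClosedUnderCokernels] [P.IsClosedUnderExtensions] in
lemma q_shift {X : DerivedCategory C} (h : Q X) (n : ℤ) : Q (X⟦n⟧) := by
  obtain ⟨h0, a, b, ha, hb⟩ := (hQ X).1 h
  haveI := ha
  haveI := hb
  exact (hQ _).2 ⟨fun i => P.prop_of_iso (Groth.L10.hShiftIso X n i (n + i) rfl).symm (h0 _),
    a - n, b - n, DerivedCategory.TStructure.t.isGE_shift X a n (a - n) (by omega),
    DerivedCategory.TStructure.t.isLE_shift X b n (b - n) (by omega)⟩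

omit [P.IsClosedUnderKernels] [P.IsClosedUnderCokernels] [P.IsClosedUnderExtensions] in
lemma clTr_shift_one {X : DerivedCategory C} (hX : Q X) :
    KZero.clTr Q (X⟦(1 : ℤ)⟧) = - KZero.clTr Q X := by
  have h := clTr_triangle Q _ (rot_of_distTriang _ (contractible_distinguished X)) hX
    (q_zero P Q hQ (isZero_zero _)) (q_shift P Q hQ hX 1)
  simp [clTr_zero P Q hQ (isZero_zero (DerivedCategory C))] at h
  exact eq_neg_of_add_eq_zero_right h.symm

/-- `X ↦ X[0]` -/
noncomputable def φ : KZero.K0sub P →+ KZero.K0tr Q :=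
  KSub.lift (fun X => KZero.clTr Q ((DerivedCategory.singleFunctor C 0).obj X)) fun S hS h1 h2 h3 =>
    clTr_triangle Q _ hS.singleTriangle_distinguished (q_single P Q hQ h1 0) (q_single P Q hQ h2 0)
      (q_single P Q hQ h3 0)

lemma φ_clSub {X : C} (hX : P X) :
    φ P Q hQ (KZero.clSub P X) = KZero.clTr Q ((DerivedCategory.singleFunctor C 0).obj X) := by
  unfold φ
  exact KSub.lift_clSub _ _ hX

/-- the Euler characteristic as a homomorphism -/
noncomputable def ψ : KZero.K0tr Q →+ KZero.K0sub P :=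
  QuotientAddGroup.lift _ (FreeAbelianGroup.lift fun K : Subtype Q => euler P K.1) <| by
    rw [KZero.relTr, AddSubgroup.closure_le]
    rintro _ ⟨T, h₁, h₂, h₃, hT, rfl⟩
    simp only [SetLike.mem_coe, AddMonoidHom.mem_ker, map_sub, FreeAbelianGroup.lift_apply_of]
    rw [euler_triangle P T hT ((hQ _).1 h₁) ((hQ _).1 h₂) ((hQ _).1 h₃)]
    abel

lemma ψ_φ : (ψ P Q hQ).comp (φ P Q hQ) = AddMonoidHom.id _ := KSub.hom_ext fun X hX => by
  rw [AddMonoidHom.comp_apply, φ_clSub P Q hQ hX, KZero.clTr, dif_pos (q_single P Q hQ hX 0)]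
  exact (FreeAbelianGroup.lift_apply_of _ _).trans (euler_single hX)

lemma shift_mem {X : DerivedCategory C} (hX : Q X) (h : KZero.clTr Q X ∈ (φ P Q hQ).range) (n : ℤ) :
    KZero.clTr Q (X⟦n⟧) ∈ (φ P Q hQ).range := by
  induction n using Int.induction_on with
  | zero => rwa [clTr_iso P Q hQ ((shiftFunctorZero _ ℤ).app X) (q_shift P Q hQ hX 0)]
  | succ k ih =>
    rw [clTr_iso P Q hQ ((shiftFunctorAdd' _ (k : ℤ) 1 (k + 1) rfl).app X) (q_shift P Q hQ hX _)]
    simp only [Functor.comp_obj]
    rw [clTr_shift_one P Q hQ (q_shift P Q hQ hX _)]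
    exact neg_mem ih
  | pred k ih =>
    rw [clTr_iso P Q hQ ((shiftFunctorAdd' _ (-(k : ℤ) - 1) 1 (-(k : ℤ)) (by omega)).app X)
      (q_shift P Q hQ hX _)] at ih
    simp only [Functor.comp_obj] at ih
    rw [clTr_shift_one P Q hQ (q_shift P Q hQ hX _)] at ih
    exact neg_mem_iff.1 ih

lemma single_mem {X : C} (hX : P X) (n : ℤ) :
    KZero.clTr Q ((DerivedCategory.singleFunctor C n).obj X) ∈ (φ P Q hQ).range := by
  have e : (DerivedCategory.singleFunctor C n).obj X ≅ ((DerivedCategory.singleFunctor C 0).obj X)⟦-n⟧ :=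
    (((DerivedCategory.singleFunctors C).shiftIso (-n) n 0 (by omega)).app X).symm
  rw [clTr_iso P Q hQ e (q_single P Q hQ hX n)]
  exact shift_mem P Q hQ (q_single P Q hQ hX 0) ⟨KZero.clSub P X, φ_clSub P Q hQ hX⟩ _

lemma mem_range : ∀ (k : ℕ) (X : DerivedCategory C) (a b : ℤ), X.IsGE a → X.IsLE b → b < a + k → Q X →
    KZero.clTr Q X ∈ (φ P Q hQ).range := by
  intro k
  induction k with
  | zero =>
    intro X a b ha hb hab hX
    haveI := ha
    haveI := hb
    rw [clTr_zero P Q hQ (DerivedCategory.TStructure.t.isZero X b a (by simpa using hab))]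
    exact zero_mem _
  | succ k ih =>
    intro X a b ha hb hab hX
    haveI := ha
    haveI := hb
    obtain ⟨h0, -⟩ := (hQ X).1 hX
    let L := ((DerivedCategory.TStructure.t).truncLT (a + 1)).obj X
    let R := ((DerivedCategory.TStructure.t).truncGE (a + 1)).obj X
    haveI : DerivedCategory.IsLE L a :=
      inferInstanceAs (DerivedCategory.TStructure.t.IsLE ((DerivedCategory.TStructure.t.truncLT (a + 1)).obj X) a)
    haveI : DerivedCategory.IsGE L a := by
      rw [DerivedCategory.isGE_iff]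
      intro i hi
      have := Groth.L10.isIso_H_ι (A := C) (a + 1) i (by omega) X
      exact (DerivedCategory.isZero_of_isGE X a i hi).of_iso
        (asIso ((H i).map ((DerivedCategory.TStructure.t.truncLTι (a + 1)).app X)))
    haveI : DerivedCategory.IsGE R (a + 1) := inferInstance
    haveI : DerivedCategory.IsLE R (max b a) := by
      rw [DerivedCategory.isLE_iff]
      intro i hi
      have := Groth.L10.isIso_H_π (A := C) (a + 1) i (by omega) X
      exact (DerivedCategory.isZero_of_isLE X b i (by omega)).of_iso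
        (asIso ((H i).map ((DerivedCategory.TStructure.t.truncGEπ (a + 1)).app X))).symm
    have hR : Q R := (hQ R).2 ⟨fun i => by
      by_cases hi : a + 1 ≤ i
      · have := Groth.L10.isIso_H_π (A := C) (a + 1) i hi X
        exact P.prop_of_iso (asIso ((H i).map ((DerivedCategory.TStructure.t.truncGEπ (a + 1)).app X))) (h0 i)
      · exact P.prop_of_isZero (Groth.L10.isZero_H_GE (a + 1) i (by omega) X), a + 1, max b a,
      inferInstance, inferInstance⟩
    obtain ⟨e⟩ := Groth.L10.exists_iso_single_H (A := C) L a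
    have := Groth.L10.isIso_H_ι (A := C) (a + 1) a (by omega) X
    have hLa : P ((H a).obj L) := P.prop_of_iso
      (asIso ((H a).map ((DerivedCategory.TStructure.t.truncLTι (a + 1)).app X))).symm (h0 a)
    have hL : Q L := q_iso P Q hQ e.symm (q_single P Q hQ hLa a)
    have key := clTr_triangle Q _ (DerivedCategory.TStructure.t.triangleLTGE_distinguished (a + 1) X) hL hX hR
    change KZero.clTr Q X = KZero.clTr Q L + KZero.clTr Q R at key
    rw [key]
    refine add_mem ?_ (ih R (a + 1) (max b a) inferInstance inferInstance (by push_cast at hab; omega) hR)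
    rw [clTr_iso P Q hQ e hL]
    exact single_mem P Q hQ hLa a

theorem exists_equiv : ∃ e : KZero.K0sub P ≃+ KZero.K0tr Q, ∀ X : C, P X →
    e (KZero.clSub P X) = KZero.clTr Q ((DerivedCategory.singleFunctor C 0).obj X) := by
  refine ⟨AddEquiv.ofBijective (φ P Q hQ) ⟨fun x y h => ?_, fun y => ?_⟩, fun X hX => ?_⟩
  · have := congrArg (ψ P Q hQ) h
    rwa [← AddMonoidHom.comp_apply, ← AddMonoidHom.comp_apply, ψ_φ] at this
  · obtain ⟨z, rfl⟩ := QuotientAddGroup.mk_surjective y
    refine AddMonoidHom.mem_range.1 ?_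
    induction z using FreeAbelianGroup.induction_on with
    | zero => exact zero_mem _
    | of K =>
      obtain ⟨-, a, b, ha, hb⟩ := (hQ _).1 K.2
      have := mem_range P Q hQ (b + 1 - a).toNat K.1 a b ha hb (by omega) K.2
      rwa [KZero.clTr, dif_pos K.2] at this
    | neg K hK => exact neg_mem hK
    | add x y hx hy => exact add_mem hx hy
  · rw [AddEquiv.ofBijective_apply]
    exact φ_clSub P Q hQ hX

end Equiv

end Groth.L29.EulerDb
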