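import Groth.Agent.L13.KcohNilp
import Groth.Agent.L17.DevissageGen
import Groth.Agent.L29.DCoh.ExtendOpen
import Groth.Agent.L22.Cyc.ClosedSub
import Groth.Agent.L29.DCoh.RHomCoh

/-!
The localisation sequence for `K₀` of coherent modules.
-/

set_option autoImplicit false
set_option backward.defeqAttrib.useBackward true
set_option backward.isDefEq.respectTransparency false
set_option backward.isDefEq.respectTransparency.types false
set_option linter.style.haveILetI false

universe u

open CategoryTheory CategoryTheory.Limits AlgebraicGeometry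

namespace Groth.L29.KcohLoc

local notation "cl" => KZero.clSub (fun M : Scheme.Modules _ => Coh.IsCoh M)

variable {X X' U : Scheme.{u}} [IsNoetherian X]

theorem mapSub_cl (F : X'.Modules ⥤ X.Modules) [F.Additive] [PreservesFiniteLimits F] [PreservesFiniteColimits F]
    (h : ∀ M : X'.Modules, Coh.IsCoh M → Coh.IsCoh (F.obj M)) {M : X'.Modules} (hM : Coh.IsCoh M) :
    SGA6.mapSub F (fun M : X'.Modules => Coh.IsCoh M) (fun M : X.Modules => Coh.IsCoh M) h (cl M) = cl (F.obj M) := by
  rw [Groth.L29.KSub.clSub_of _ hM, Groth.L29.KSub.clSub_of _ (h M hM)]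
  exact congrArg QuotientAddGroup.mk (FreeAbelianGroup.map_of_apply _)

theorem mem_of_cl {W : Scheme.{u}} [IsNoetherian W] (K : AddSubgroup (SGA6.Kcoh W))
    (h : ∀ M : W.Modules, Coh.IsCoh M → cl M ∈ K) (x : SGA6.Kcoh W) : x ∈ K := by
  have hx : x ∈ Groth.L13.KcohNilp.S (Set.univ : Set W) := by rw [Groth.L13.KcohNilp.S_univ]; trivial
  refine ((AddSubgroup.closure_le K).2 ?_) hx
  rintro _ ⟨M, hM, -, rfl⟩
  exact h M hM

section Closed

variable (i : X' ⟶ X) [IsClosedImmersion i]
    [(Scheme.Modules.pushforward i).Additive] [PreservesFiniteLimits (Scheme.Modules.pushforward i)]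
    [PreservesFiniteColimits (Scheme.Modules.pushforward i)]
    (hi : ∀ M : X'.Modules, Coh.IsCoh M → Coh.IsCoh ((Scheme.Modules.pushforward i).obj M))

/-- classes of coherent modules supported in a closed subscheme come from it -/
theorem cl_mem_range {M : X.Modules} (hM : Coh.IsCoh M) (hs : CohB1.support M ⊆ Set.range i) :
    cl M ∈ (SGA6.mapSub (Scheme.Modules.pushforward i) (fun M : X'.Modules => Coh.IsCoh M)
      (fun M : X.Modules => Coh.IsCoh M) hi).range := by
  haveI : IsLocallyNoetherian X' := LocallyOfFiniteType.isLocallyNoetherian i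
  let Im := (SGA6.mapSub (Scheme.Modules.pushforward i) (fun M : X'.Modules => Coh.IsCoh M)
      (fun M : X.Modules => Coh.IsCoh M) hi).range
  have hzero : ∀ M : X.Modules, IsZero M → cl M ∈ Im := fun M hz =>
    (Groth.L29.KSub.clSub_zero _ hz (Groth.L29.DC.RHomC.isCoh_of_isZero hz) : cl M = 0) ▸ Im.zero_mem
  refine Groth.L16.Devissage.devissage_ideals
    (P := fun M => Coh.IsCoh M → CohB1.support M ⊆ Set.range i → cl M ∈ Im) ?_ ?_ ?_ ?_ hM hM hs
  · rintro M N ⟨e⟩ hP hN hsN
    have hM' := Groth.L16.CohSupport.isCoh_of_iso e.symm hN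
    rw [← Groth.L13.KcohNilp.cl_iso e hM']
    exact hP hM' ((Groth.L17.KilledUnit.support_congr e).le.trans hsN)
  · exact fun M hz _ _ => hzero M hz
  · intro S hS h1 h2 h3 hP1 hP3 _ hs2
    have hsupp := Groth.L16.Devissage.support_union hS
    rw [Groth.L29.KSub.clSub_shortExact (fun M : X.Modules => Coh.IsCoh M) hS h1 h2 h3]
    exact Im.add_mem (hP1 h1 (hsupp.1.trans hs2)) (hP3 h3 (hsupp.2.trans hs2))
  · intro Z z hz hZ I ι hι hI hcoh hsupp
    by_cases hI0 : IsZero I
    · exact hzero _ ((Coh.push z).map_isZero hI0)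
    haveI := hz
    haveI := hZ
    have hrange : Set.range z ⊆ Set.range i :=
      (Groth.L17.DevissageGen.range_subset_support z I ι hI0).trans hsupp
    have hker : i.ker ≤ z.ker := by
      refine le_trans ?_ (Groth.L18.vanishingIdeal_le_ker z ⟨Set.range i, i.isClosedEmbedding.isClosed_range⟩ hrange)
      refine Scheme.IdealSheafData.le_support_iff_le_vanishingIdeal.1 ?_
      intro x hx
      show x ∈ (i.ker.support : Set X)
      rw [Scheme.Hom.support_ker, i.isClosedEmbedding.isClosed_range.closure_eq]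
      exact hx
    let k : Z ⟶ X' := IsClosedImmersion.lift i z hker
    have hk : k ≫ i = z := IsClosedImmersion.lift_fac _ _ _
    haveI : IsClosedImmersion (k ≫ i) := hk ▸ hz
    haveI : IsClosedImmersion k := IsClosedImmersion.of_comp k i
    haveI : IsLocallyNoetherian Z := LocallyOfFiniteType.isLocallyNoetherian z
    have hIc : Coh.IsCoh I := by
      haveI : Coh.IsQCoh I := hI
      exact Groth.L16.Rees.RelVanish.isCoh_of_mono ι Groth.L16.CohClosedPush.isCoh_structure
    have hJ : Coh.IsCoh ((Scheme.Modules.pushforward k).obj I) := Groth.L16.CohClosedPush.isCoh_push k hIc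
    let e : (Coh.push z).obj I ≅ (Scheme.Modules.pushforward i).obj ((Scheme.Modules.pushforward k).obj I) :=
      (Scheme.Modules.pushforwardCongr hk.symm).app I ≪≫ (Scheme.Modules.pushforwardComp k i).symm.app I
    rw [Groth.L13.KcohNilp.cl_iso e hcoh]
    exact ⟨cl ((Scheme.Modules.pushforward k).obj I), mapSub_cl _ hi hJ⟩

theorem S_le_range : Groth.L13.KcohNilp.S (Set.range i) ≤
    (SGA6.mapSub (Scheme.Modules.pushforward i) (fun M : X'.Modules => Coh.IsCoh M)
      (fun M : X.Modules => Coh.IsCoh M) hi).range := by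
  refine (AddSubgroup.closure_le _).2 ?_
  rintro _ ⟨M, hM, hs, rfl⟩
  exact cl_mem_range i hi hM hs

end Closed

section Open

variable (j : U ⟶ X) [IsOpenImmersion j]

local notation "R" => Scheme.Modules.restrictFunctor j

theorem quasiCompact_open : QuasiCompact j := by
  refine ⟨fun V hV hVc => ?_⟩
  refine j.isOpenEmbedding.toIsEmbedding.isCompact_iff.2 ?_
  exact TopologicalSpace.NoetherianSpace.isCompact _

include j in
theorem isNoetherian_open : IsNoetherian U := by
  haveI : IsLocallyNoetherian U := isLocallyNoetherian_of_isOpenImmersion j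
  haveI := quasiCompact_open j
  haveI : CompactSpace U := QuasiCompact.compactSpace_of_compactSpace j
  exact { }

/-- restriction along `j` through its range -/
noncomputable def resIso : Scheme.Modules.restrictFunctor j ≅
    Scheme.Modules.restrictFunctor j.opensRange.ι ⋙ Scheme.Modules.restrictFunctor j.isoOpensRange.hom :=
  Scheme.Modules.restrictFunctorCongr j.isoOpensRange_hom_ι.symm ≪≫ Scheme.Modules.restrictFunctorComp _ _

/-- a module over `U` is the restriction of a coherent submodule of its direct image -/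
theorem exists_lift {F : U.Modules} (hF : Coh.IsCoh F) :
    ∃ (G : X.Modules), Coh.IsCoh G ∧ Nonempty ((R).obj G ≅ F) := by
  haveI := quasiCompact_open j
  haveI := hF.1
  let M := (Scheme.Modules.pushforward j).obj F
  haveI : Coh.IsQCoh M := Groth.L16.QcqsPush.isQCoh_push F j
  let e : (R).obj M ≅ F := (asIso (Scheme.Modules.restrictAdjunction j).counit).app F
  have hM : Coh.IsCoh (M.restrict j.opensRange.ι) := by
    haveI : IsLocallyNoetherian U := isLocallyNoetherian_of_isOpenImmersion j
    let M' := M.restrict j.opensRange.ι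
    have h : Coh.IsCoh (M'.restrict j.isoOpensRange.hom) :=
      Groth.L16.CohSupport.isCoh_of_iso (e.symm ≪≫ (resIso j).app M) hF
    exact Groth.L16.CohSupport.isCoh_of_iso
      ((Scheme.Modules.restrictFunctorComp j.isoOpensRange.inv j.isoOpensRange.hom).symm.app M' ≪≫
        (Scheme.Modules.restrictFunctorCongr j.isoOpensRange.inv_hom_id).app M' ≪≫
        Scheme.Modules.restrictFunctorId.app M')
      (Groth.L29.DC.RHomC.isCoh_restrict j.isoOpensRange.inv h)
  obtain ⟨P, a, hP, ha⟩ := Groth.L29.DC.ExtendOpen.exists_coh_extension j.opensRange M hM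
  refine ⟨Abelian.image a, Groth.L16.CohSupport.isCoh_image hP a, ⟨?_⟩⟩
  haveI : Epi ((R).map a) := by
    haveI := ha
    have h := (resIso j).hom.naturality a
    haveI : Epi ((R).map a ≫ (resIso j).hom.app M) := by
      rw [h]
      dsimp
      infer_instance
    have e' : (R).map a = ((R).map a ≫ (resIso j).hom.app M) ≫ (resIso j).inv.app M :=
      ((Category.assoc _ _ _).trans ((congrArg _ (Iso.hom_inv_id_app _ _)).trans (Category.comp_id _))).symm
    rw [e']
    infer_instance
  haveI : Epi ((R).map (Abelian.image.ι a)) :=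
    epi_of_epi_fac (f := (R).map (Abelian.factorThruImage a)) (h := (R).map a)
      (by rw [← Functor.map_comp, Abelian.image.fac])
  haveI : IsIso ((R).map (Abelian.image.ι a)) := isIso_of_mono_of_epi _
  exact asIso ((R).map (Abelian.image.ι a)) ≪≫ e

variable (Z : Set X) (hU : Set.range j = Zᶜ) (Im : AddSubgroup (SGA6.Kcoh X)) (hS : Groth.L13.KcohNilp.S Z ≤ Im)

include hU hS in
/-- extensions of the same module agree modulo the image -/
theorem mk_eq {G G' : X.Modules} (hG : Coh.IsCoh G) (hG' : Coh.IsCoh G') (e : (R).obj G ≅ (R).obj G') :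
    (QuotientAddGroup.mk (cl G) : SGA6.Kcoh X ⧸ Im) = QuotientAddGroup.mk (cl G') := by
  rw [QuotientAddGroup.eq, ← neg_mem_iff, neg_add, neg_neg, ← sub_eq_add_neg]
  refine hS ?_
  have h := Groth.L13.KcohNilp.sub_mem_of_iso j.opensRange (T := Set.univ) hG hG' (Set.subset_univ _)
    (Set.subset_univ _)
    ((Scheme.Modules.restrictFunctorId.app _).symm ≪≫
      (Scheme.Modules.restrictFunctorCongr j.isoOpensRange.inv_hom_id.symm).app _ ≪≫
      (Scheme.Modules.restrictFunctorComp j.isoOpensRange.inv j.isoOpensRange.hom).app _ ≪≫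
      (Scheme.Modules.restrictFunctor j.isoOpensRange.inv).mapIso
        (((resIso j).app G).symm ≪≫ e ≪≫ (resIso j).app G') ≪≫
      (Scheme.Modules.restrictFunctorComp j.isoOpensRange.inv j.isoOpensRange.hom).symm.app _ ≪≫
      (Scheme.Modules.restrictFunctorCongr j.isoOpensRange.inv_hom_id).app _ ≪≫
      Scheme.Modules.restrictFunctorId.app _)
  have hZ : (Set.univ : Set X) \ (j.opensRange : Set X) = Z := by
    rw [Scheme.Hom.coe_opensRange, hU, Set.sdiff_eq, Set.univ_inter, compl_compl]
  exact hZ ▸ h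

/-- the chosen extension -/
noncomputable def ext (F : U.Modules) (hF : Coh.IsCoh F) : X.Modules := (exists_lift j hF).choose

theorem isCoh_ext (F : U.Modules) (hF : Coh.IsCoh F) : Coh.IsCoh (ext j F hF) :=
  (exists_lift j hF).choose_spec.1

/-- it extends -/
noncomputable def extIso (F : U.Modules) (hF : Coh.IsCoh F) : (R).obj (ext j F hF) ≅ F :=
  (exists_lift j hF).choose_spec.2.some

include hU hS in
/-- the inverse of restriction modulo the image -/
theorem exists_inverse [PreservesFiniteLimits (Scheme.Modules.restrictFunctor j)] :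
    ∃ ν : SGA6.Kcoh U →+ SGA6.Kcoh X ⧸ Im,
      ∀ M : X.Modules, Coh.IsCoh M → Coh.IsCoh ((Scheme.Modules.restrictFunctor j).obj M) →
        ν (KZero.clSub (fun F : U.Modules => Coh.IsCoh F) ((Scheme.Modules.restrictFunctor j).obj M)) =
          QuotientAddGroup.mk (KZero.clSub (fun F : X.Modules => Coh.IsCoh F) M) := by
  classical
  haveI := quasiCompact_open j
  let f : U.Modules → SGA6.Kcoh X ⧸ Im := fun F =>
    if h : Coh.IsCoh F then QuotientAddGroup.mk (cl (ext j F h)) else 0
  have hf : ∀ {F : U.Modules} (G : X.Modules), Coh.IsCoh F → Coh.IsCoh G → ((R).obj G ≅ F) →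
      f F = QuotientAddGroup.mk (cl G) := fun {F} G hF hG e => by
    simp only [f, dif_pos hF]
    exact mk_eq j Z hU Im hS (isCoh_ext j F hF) hG (extIso j F hF ≪≫ e.symm)
  refine ⟨Groth.L29.KSub.lift (P := (fun F : U.Modules => Coh.IsCoh F : ObjectProperty U.Modules)) f
    fun S hS' h1 h2 h3 => ?_, fun M hM hM' => ?_⟩
  · haveI := hS'.mono_f
    haveI := hS'.epi_g
    haveI := h3.1
    let G := ext j S.X₂ h2
    let e := extIso j S.X₂ h2
    have hG := isCoh_ext j S.X₂ h2
    let adj := Scheme.Modules.restrictAdjunction j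
    let q : G ⟶ (Scheme.Modules.pushforward j).obj S.X₃ := adj.homEquiv _ _ (e.hom ≫ S.g)
    haveI : Coh.IsQCoh ((Scheme.Modules.pushforward j).obj S.X₃) := Groth.L16.QcqsPush.isQCoh_push S.X₃ j
    have hq : (R).map q ≫ adj.counit.app S.X₃ = e.hom ≫ S.g :=
      (adj.homEquiv_counit _ _ q).symm.trans (Equiv.symm_apply_apply _ _)
    have hK : Coh.IsCoh (kernel q) := Groth.L16.CohSupport.isCoh_kernel hG q
    have hI : Coh.IsCoh (Abelian.image q) := Groth.L16.CohSupport.isCoh_image hG q
    haveI : Epi ((R).map q) := by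
      have : (R).map q = (e.hom ≫ S.g) ≫ inv (adj.counit.app S.X₃) := by rw [← hq]; simp
      rw [this]
      infer_instance
    haveI : Epi ((R).map (Abelian.image.ι q)) :=
      epi_of_epi_fac (f := (R).map (Abelian.factorThruImage q)) (h := (R).map q)
        (by rw [← Functor.map_comp, Abelian.image.fac])
    haveI : IsIso ((R).map (Abelian.image.ι q)) := isIso_of_mono_of_epi _
    rw [hf (Abelian.image q) h3 hI (asIso ((R).map (Abelian.image.ι q)) ≪≫
      (asIso adj.counit).app S.X₃),
      hf (kernel q) h1 hK (PreservesKernel.iso (R) q ≪≫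
        kernel.mapIso ((R).map q) S.g e ((asIso adj.counit).app S.X₃) (by simpa using hq) ≪≫
        IsLimit.conePointUniqueUpToIso (kernelIsKernel S.g) hS'.exact.fIsKernel),
      hf G h2 hG e, ← QuotientAddGroup.mk_add]
    exact congrArg _ (Groth.L29.KSub.clSub_shortExact (fun M : X.Modules => Coh.IsCoh M)
      (Groth.L16.Devissage.shortExact_kernel_image q) hK hG hI)
  · rw [Groth.L29.KSub.lift_clSub _ _ hM']
    exact hf M hM' hM (Iso.refl _)

include hU in
theorem main (i : X' ⟶ X) [IsClosedImmersion i]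
    (hij : Z = Set.range i) [(Scheme.Modules.pushforward i).Additive]
    [PreservesFiniteLimits (Scheme.Modules.pushforward i)] [PreservesFiniteColimits (Scheme.Modules.pushforward i)]
    [PreservesFiniteColimits (R)]
    (hi : ∀ M : X'.Modules, Coh.IsCoh M → Coh.IsCoh ((Scheme.Modules.pushforward i).obj M))
    (hj : ∀ M : X.Modules, Coh.IsCoh M → Coh.IsCoh ((R).obj M)) :
    Function.Surjective (SGA6.mapSub (R) (fun M : X.Modules => Coh.IsCoh M) (fun M : U.Modules => Coh.IsCoh M) hj) ∧
      (SGA6.mapSub (R) (fun M : X.Modules => Coh.IsCoh M) (fun M : U.Modules => Coh.IsCoh M) hj).ker =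
        (SGA6.mapSub (Scheme.Modules.pushforward i) (fun M : X'.Modules => Coh.IsCoh M)
          (fun M : X.Modules => Coh.IsCoh M) hi).range := by
  haveI := isNoetherian_open j
  haveI : IsLocallyNoetherian X' := LocallyOfFiniteType.isLocallyNoetherian i
  haveI : CompactSpace X' := QuasiCompact.compactSpace_of_compactSpace i
  haveI : IsNoetherian X' := { }
  let φ := SGA6.mapSub (R) (fun M : X.Modules => Coh.IsCoh M) (fun M : U.Modules => Coh.IsCoh M) hj
  let ψ := SGA6.mapSub (Scheme.Modules.pushforward i) (fun M : X'.Modules => Coh.IsCoh M)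
    (fun M : X.Modules => Coh.IsCoh M) hi
  refine ⟨fun y => mem_of_cl φ.range (fun F hF => ?_) y, le_antisymm (fun x hx => ?_) ?_⟩
  · refine ⟨cl (ext j F hF), (mapSub_cl _ hj (isCoh_ext j F hF)).trans ?_⟩
    exact Groth.L13.KcohNilp.cl_iso (extIso j F hF) (hj _ (isCoh_ext j F hF))
  · obtain ⟨ν, hν⟩ := exists_inverse j Z hU ψ.range (hij ▸ S_le_range i hi)
    have h : ν.comp φ = QuotientAddGroup.mk' ψ.range := Groth.L29.KSub.hom_ext fun M hM => by
      rw [AddMonoidHom.comp_apply, mapSub_cl _ hj hM]
      exact hν M hM (hj M hM)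
    have h' := DFunLike.congr_fun h x
    rw [AddMonoidHom.comp_apply, (hx : φ x = 0), map_zero] at h'
    exact (QuotientAddGroup.eq_zero_iff _).1 h'.symm
  · rintro _ ⟨y, rfl⟩
    refine mem_of_cl (φ.comp ψ).ker (fun M hM => ?_) y
    rw [AddMonoidHom.mem_ker, AddMonoidHom.comp_apply, mapSub_cl _ hi hM, mapSub_cl _ hj (hi M hM)]
    refine Groth.L29.KSub.clSub_zero _ ?_ (hj _ (hi M hM))
    rw [Groth.L21.Mod.isZero_iff_support_eq_empty]
    refine Set.eq_empty_of_forall_notMem fun x hx => ?_
    change x ∈ CohB1.support (((Scheme.Modules.pushforward i).obj M).restrict j) at hx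
    rw [Groth.L21.Mod.support_restrict] at hx
    have h1 : j x ∈ Set.range i := by
      by_contra h
      exact hx (Groth.L17.ClosedPush.subsingleton_stalk_push i M h)
    exact (hU.le ⟨x, rfl⟩ : j x ∈ Zᶜ) (hij ▸ h1)

end Open

end Groth.L29.KcohLoc
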