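import Groth.Agent.L29.K.Sub
import Mathlib.CategoryTheory.Abelian.Refinements
import Mathlib.CategoryTheory.Abelian.Images

/-!
Dévissage: an additive function on a class `A` closed under subobjects and quotients extends uniquely to objects
with a finite filtration with subquotients in `A`.
-/

set_option autoImplicit false
set_option backward.defeqAttrib.useBackward true
set_option backward.isDefEq.respectTransparency false
set_option linter.style.haveILetI false

universe v u

open CategoryTheory CategoryTheory.Limits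

namespace Groth.L29.DevFil

variable {C : Type u} [Category.{v} C] [Abelian C] {G : Type*} [AddCommGroup G]

/-- `g` is the sum of the values of `f` on the pieces of some filtration -/
inductive Val (W A : C → Prop) (f : C → G) : C → G → Prop
  | zero {X : C} : IsZero X → W X → Val W A f X 0
  | step {S : ShortComplex C} {g : G} :
      S.ShortExact → Val W A f S.X₁ g → A S.X₃ → W S.X₂ → Val W A f S.X₂ (g + f S.X₃)

/-- the hypotheses -/
structure Data (W A : C → Prop) (f : C → G) : Prop where
  w_zero {X : C} : IsZero X → W X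
  w_iso {X Y : C} : (X ≅ Y) → W X → W Y
  w_kernel {X Y : C} (a : X ⟶ Y) : W X → W Y → W (kernel a)
  w_image {X Y : C} (a : X ⟶ Y) : W X → W Y → W (Abelian.image a)
  a_w {X : C} : A X → W X
  a_zero {X : C} : IsZero X → A X
  a_sub {S : ShortComplex C} : S.ShortExact → A S.X₂ → W S.X₁ → A S.X₁ ∧ A S.X₃
  f_add {S : ShortComplex C} : S.ShortExact → A S.X₁ → A S.X₂ → A S.X₃ → f S.X₂ = f S.X₁ + f S.X₃

variable {W A : C → Prop} {f : C → G}

theorem shortExact_kernel_image {X Y : C} (a : X ⟶ Y) :
    (ShortComplex.mk (kernel.ι a) (Abelian.factorThruImage a)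
      (by rw [← cancel_mono (Abelian.image.ι a), Category.assoc, Abelian.image.fac, kernel.condition, zero_comp])).ShortExact where
  exact := ShortComplex.exact_of_f_is_kernel _ <| KernelFork.IsLimit.ofι' _ _ fun {T} k hk =>
    ⟨kernel.lift a k (by
      rw [← Abelian.image.fac a, ← Category.assoc]
      exact (congrArg (· ≫ _) hk).trans zero_comp), kernel.lift_ι _ _ _⟩

theorem shortExact_image_cokernel {X Y : C} (a : X ⟶ Y) :
    (ShortComplex.mk (Abelian.image.ι a) (cokernel.π a) (kernel.condition _)).ShortExact where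
  exact := ShortComplex.exact_of_f_is_kernel _ (kernelIsKernel _)

theorem Val.mem_w (D : Data W A f) {X : C} {g : G} (h : Val W A f X g) : W X := by
  cases h with
  | zero _ hW => exact hW
  | step _ _ _ hW => exact hW

theorem f_zero (D : Data W A f) {Z : C} (hZ : IsZero Z) : f Z = 0 := by
  have := D.f_add (Groth.L29.KSub.shortExact_of_iso (Iso.refl Z) hZ) (D.a_zero hZ) (D.a_zero hZ) (D.a_zero hZ)
  simpa using this

theorem Val.iso (D : Data W A f) {X Y : C} {g : G} (h : Val W A f X g) (e : X ≅ Y) : Val W A f Y g := by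
  cases h with
  | zero hZ hW => exact .zero (hZ.of_iso e.symm) (D.w_iso e hW)
  | @step S g₀ hS hN hQ hW =>
    have hS' : (ShortComplex.mk (S.f ≫ e.hom) (e.inv ≫ S.g) (by simp)).ShortExact :=
      ShortComplex.shortExact_of_iso (ShortComplex.isoMk (S₁ := S) (Iso.refl _) e (Iso.refl _) (by simp) (by simp)) hS
    exact Val.step (S := ShortComplex.mk (S.f ≫ e.hom) (e.inv ≫ S.g) (by simp)) hS' hN hQ (D.w_iso e hW)

theorem Val.of_mem (D : Data W A f) {X : C} (hX : A X) : ∃ g, g = f X ∧ Val W A f X g := by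
  obtain ⟨Z, hZ⟩ : ∃ Z : C, IsZero Z := ⟨_, isZero_zero C⟩
  exact ⟨0 + f X, zero_add _, Val.step (Groth.L29.KSub.shortExact_of_iso (Iso.refl X) hZ)
    (.zero hZ (D.w_zero hZ)) hX (D.a_w hX)⟩

/-- a filtration of the middle term induces filtrations of the outer terms -/
theorem Val.split (D : Data W A f) {X : C} {g : G} (h : Val W A f X g) :
    ∀ {Y Z : C} (a : Y ⟶ X) (b : X ⟶ Z) (w : a ≫ b = 0), (ShortComplex.mk a b w).ShortExact → W Y → W Z →
      ∃ g₁ g₃, Val W A f Y g₁ ∧ Val W A f Z g₃ ∧ g = g₁ + g₃ := by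
  induction h with
  | @zero X hX hW =>
    intro Y Z a b w hS hY hZ
    haveI : Mono a := hS.mono_f
    haveI : Epi b := hS.epi_g
    exact ⟨0, 0, .zero (IsZero.of_mono a hX) hY, .zero (IsZero.of_epi b hX) hZ, (add_zero _).symm⟩
  | @step T g₀ hT hN hQ hX ih =>
    intro Y Z a b w hS hY hZ
    haveI : Mono a := hS.mono_f
    haveI : Epi b := hS.epi_g
    haveI : Mono T.f := hT.mono_f
    haveI : Epi T.g := hT.epi_g
    have hWN : W T.X₁ := hN.mem_w D
    have hWQ : W T.X₃ := D.a_w hQ
    -- the intersection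
    let lN : kernel (T.f ≫ b) ⟶ Y := hS.exact.lift (kernel.ι (T.f ≫ b) ≫ T.f)
      (by simp)
    have hlN : lN ≫ a = kernel.ι (T.f ≫ b) ≫ T.f := hS.exact.lift_f _ _
    let lY : kernel (a ≫ T.g) ⟶ T.X₁ := hT.exact.lift (kernel.ι (a ≫ T.g) ≫ a) (by simp)
    have hlY : lY ≫ T.f = kernel.ι (a ≫ T.g) ≫ a := hT.exact.lift_f _ _
    let eK : kernel (T.f ≫ b) ≅ kernel (a ≫ T.g) :=
      { hom := kernel.lift _ lN (by rw [← Category.assoc, hlN, Category.assoc, T.zero, comp_zero])
        inv := kernel.lift _ lY (by rw [← Category.assoc, hlY, Category.assoc, w, comp_zero])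
        hom_inv_id := by
          rw [← cancel_mono (kernel.ι _), ← cancel_mono T.f]
          simp [hlY, hlN]
        inv_hom_id := by
          rw [← cancel_mono (kernel.ι _), ← cancel_mono a]
          simp [hlN, hlY] }
    -- the cokernels
    let dN : T.X₃ ⟶ cokernel (T.f ≫ b) := hT.exact.desc (b ≫ cokernel.π (T.f ≫ b))
      (by rw [← Category.assoc, cokernel.condition])
    have hdN : T.g ≫ dN = b ≫ cokernel.π (T.f ≫ b) := hT.exact.g_desc _ _
    let dY : Z ⟶ cokernel (a ≫ T.g) := hS.exact.desc (T.g ≫ cokernel.π (a ≫ T.g))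
      (by rw [← Category.assoc, cokernel.condition])
    have hdY : b ≫ dY = T.g ≫ cokernel.π (a ≫ T.g) := hS.exact.g_desc _ _
    let eC : cokernel (a ≫ T.g) ≅ cokernel (T.f ≫ b) :=
      { hom := cokernel.desc _ dN (by rw [Category.assoc, hdN, ← Category.assoc, w, zero_comp])
        inv := cokernel.desc _ dY (by rw [Category.assoc, hdY, ← Category.assoc, T.zero, zero_comp])
        hom_inv_id := by
          rw [← cancel_epi (cokernel.π _), ← cancel_epi T.g]
          simp [reassoc_of% hdN, hdY]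
        inv_hom_id := by
          rw [← cancel_epi (cokernel.π _), ← cancel_epi b]
          simp [reassoc_of% hdY, hdN] }
    obtain ⟨p, q, hp, hq, rfl⟩ := ih _ _ _ (shortExact_kernel_image (T.f ≫ b)) (D.w_kernel _ hWN hZ)
      (D.w_image _ hWN hZ)
    have hWI : W (Abelian.image (a ≫ T.g)) := D.w_image _ hY hWQ
    obtain ⟨hAI, hAC⟩ := D.a_sub (shortExact_image_cokernel (a ≫ T.g)) hQ hWI
    have hs3 : (ShortComplex.mk (Abelian.image.ι (T.f ≫ b)) (cokernel.π (T.f ≫ b) ≫ eC.inv)
        (by rw [← Category.assoc]; exact (congrArg (· ≫ _) (kernel.condition _)).trans zero_comp)).ShortExact :=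
      ShortComplex.shortExact_of_iso (ShortComplex.isoMk (S₁ := ShortComplex.mk (Abelian.image.ι (T.f ≫ b)) (cokernel.π (T.f ≫ b)) (kernel.condition _)) (Iso.refl _) (Iso.refl _) eC.symm (by simp) (by simp))
        (shortExact_image_cokernel (T.f ≫ b))
    refine ⟨p + f (Abelian.image (a ≫ T.g)), q + f (cokernel (a ≫ T.g)), ?_, ?_, ?_⟩
    · exact Val.step (shortExact_kernel_image (a ≫ T.g)) (hp.iso D eK) hAI hY
    · exact Val.step hs3 hq hAC hZ
    · rw [D.f_add (shortExact_image_cokernel (a ≫ T.g)) hAI hQ hAC]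
      abel

theorem Val.of_mem_eq (D : Data W A f) {X : C} {g : G} (h : Val W A f X g) : A X → g = f X := by
  induction h with
  | @zero X hX hW => exact fun _ => (f_zero D hX).symm
  | @step S g₀ hS hN hQ hX ih =>
    intro hA
    rw [ih (D.a_sub hS hA (hN.mem_w D)).1, D.f_add hS (D.a_sub hS hA (hN.mem_w D)).1 hA hQ]

theorem Val.unique (D : Data W A f) {X : C} {g : G} (h : Val W A f X g) :
    ∀ {g' : G}, Val W A f X g' → g = g' := by
  induction h with
  | @zero X hX hW => exact fun h' => ((h'.of_mem_eq D (D.a_zero hX)).trans (f_zero D hX)).symm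
  | @step S g₀ hS hN hQ hX ih =>
    intro g' h'
    obtain ⟨p, q, hp, hq, rfl⟩ := h'.split D S.f S.g S.zero hS (hN.mem_w D) (D.a_w hQ)
    rw [ih hp, hq.of_mem_eq D hQ]

/-- objects with a filtration are closed under extensions -/
theorem Val.extend (D : Data W A f) {Z : C} {q : G} (h : Val W A f Z q) :
    ∀ {Y X : C} (a : Y ⟶ X) (b : X ⟶ Z) (w : a ≫ b = 0), (ShortComplex.mk a b w).ShortExact → W X →
      ∀ {p : G}, Val W A f Y p → ∃ g, Val W A f X g := by
  induction h with
  | @zero Z hZ hW =>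
    intro Y X a b w hS hX p hp
    haveI : Mono a := hS.mono_f
    haveI : Epi a := hS.exact.epi_f (hZ.eq_of_tgt _ _)
    haveI := isIso_of_mono_of_epi a
    exact ⟨p, hp.iso D (asIso a)⟩
  | @step T q₀ hT hN hQ hZ ih =>
    intro Y X a b w hS hX p hp
    haveI : Mono a := hS.mono_f
    haveI : Epi b := hS.epi_g
    haveI : Mono T.f := hT.mono_f
    haveI : Epi T.g := hT.epi_g
    have hWK : W (kernel (b ≫ T.g)) := D.w_kernel _ hX (D.a_w hQ)
    let k : kernel (b ≫ T.g) ⟶ T.X₁ := hT.exact.lift (kernel.ι (b ≫ T.g) ≫ b) (by simp)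
    have hk : k ≫ T.f = kernel.ι (b ≫ T.g) ≫ b := hT.exact.lift_f _ _
    let a' : Y ⟶ kernel (b ≫ T.g) := kernel.lift _ a (by rw [← Category.assoc, w, zero_comp])
    have w' : a' ≫ k = 0 := by
      rw [← cancel_mono T.f, Category.assoc, hk, ← Category.assoc, kernel.lift_ι, w, zero_comp]
    haveI : Mono a' := mono_of_mono_fac (kernel.lift_ι _ _ _ : a' ≫ kernel.ι _ = a)
    haveI : Epi k := by
      rw [epi_iff_surjective_up_to_refinements]
      intro V y
      obtain ⟨V', π, hπ, x, hx⟩ := surjective_up_to_refinements_of_epi b (y ≫ T.f)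
      refine ⟨V', π, hπ, kernel.lift _ x ?_, ?_⟩
      · rw [← Category.assoc, ← hx]
        simp
      · rw [← cancel_mono T.f, Category.assoc, Category.assoc, hk, kernel.lift_ι_assoc, hx]
    have hex : (ShortComplex.mk a' k w').Exact := ShortComplex.exact_of_f_is_kernel _ <|
      KernelFork.IsLimit.ofι' _ _ fun {V} y hy => by
        have h0 : (y ≫ kernel.ι (b ≫ T.g)) ≫ b = 0 := by
          rw [Category.assoc, ← hk, ← Category.assoc]
          exact (congrArg (· ≫ T.f) hy).trans zero_comp
        refine ⟨hS.exact.lift (y ≫ kernel.ι (b ≫ T.g)) h0, ?_⟩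
        rw [← cancel_mono (kernel.ι (b ≫ T.g)), Category.assoc, kernel.lift_ι]
        exact hS.exact.lift_f _ _
    obtain ⟨g, hg⟩ := ih a' k w' { exact := hex } hWK hp
    exact ⟨g + f T.X₃, Val.step (S := ShortComplex.mk (kernel.ι (b ≫ T.g)) (b ≫ T.g) (kernel.condition _))
      { exact := ShortComplex.exact_of_f_is_kernel _ (kernelIsKernel _) } hg hQ hX⟩

/-- dévissage: the additive extension of `f` -/
theorem exists_hom (D : Data W A f) {P : ObjectProperty C} (hP : ∀ {X : C}, P X → ∃ g, Val W A f X g) :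
    ∃ ν : KZero.K0sub P →+ G, ∀ {X : C}, P X → A X → ν (KZero.clSub P X) = f X := by
  classical
  let F : C → G := fun X => if h : P X then (hP h).choose else 0
  have hF : ∀ {X : C} (h : P X), Val W A f X (F X) := fun {X} h => by
    simp only [F, dif_pos h]
    exact (hP h).choose_spec
  refine ⟨Groth.L29.KSub.lift F fun S hS h1 h2 h3 => ?_, fun {X} hX hA => ?_⟩
  · obtain ⟨p, q, hp, hq, he⟩ := (hF h2).split D S.f S.g S.zero hS ((hF h1).mem_w D) ((hF h3).mem_w D)
    rw [he, hp.unique D (hF h1), hq.unique D (hF h3)]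
  · rw [Groth.L29.KSub.lift_clSub _ _ hX]
    exact (hF hX).of_mem_eq D hA

end Groth.L29.DevFil
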