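import Groth.Agent.L29.K.SuppFilt

/-!
`K₀` of coherent modules on a closed subscheme is `K₀` of coherent modules supported there.
-/

set_option autoImplicit false
set_option backward.defeqAttrib.useBackward true
set_option backward.isDefEq.respectTransparency false
set_option backward.isDefEq.respectTransparency.types false
set_option linter.style.haveILetI false

universe u

open CategoryTheory CategoryTheory.Limits AlgebraicGeometry

namespace Groth.L29.KcohSupp

open Groth.L29.SuppFilt
open Groth.L29.KcohNil (A f)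

variable {X Z : Scheme.{u}} (i : Z ⟶ X) [IsClosedImmersion i]
  [(Scheme.Modules.pushforward i).Additive] [PreservesFiniteLimits (Scheme.Modules.pushforward i)]
  [PreservesFiniteColimits (Scheme.Modules.pushforward i)] [IsLocallyNoetherian X]

omit [(Scheme.Modules.pushforward i).Additive] [PreservesFiniteLimits (Scheme.Modules.pushforward i)]
  [PreservesFiniteColimits (Scheme.Modules.pushforward i)] in
theorem w_of_a {M : X.Modules} (h : A i M) : W i M := by
  haveI := h.2
  refine (w_iff i M).2 ⟨h.1, ?_⟩
  exact (Groth.L17.KilledUnit.support_congr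
    (asIso ((Scheme.Modules.pullbackPushforwardAdjunction i).unit.app M))).le.trans
      (Groth.L16.CohClosedPush.support_push_subset i _)

omit [(Scheme.Modules.pushforward i).Additive] [PreservesFiniteLimits (Scheme.Modules.pushforward i)]
  [PreservesFiniteColimits (Scheme.Modules.pushforward i)] in
theorem a_sigma {M : ℕ → X.Modules} (h : Groth.L29.DevLF.LF CohB1.support M) (hM : ∀ k, A i (M k)) :
    A i (∐ M) := by
  refine ⟨isCoh_sigma h fun k => (hM k).1, ?_⟩
  let u := (Scheme.Modules.pullbackPushforwardAdjunction i).unit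
  let F := Scheme.Modules.pullback i ⋙ Scheme.Modules.pushforward i
  haveI : PreservesColimitsOfSize.{u, u} (Scheme.Modules.pushforward i) :=
    Groth.L17.ClosedPush.preservesColimits_push i
  haveI : PreservesColimitsOfSize.{u, u} (Scheme.Modules.pullback i) :=
    (Scheme.Modules.pullbackPushforwardAdjunction i).leftAdjoint_preservesColimits
  haveI : PreservesColimitsOfSize.{0, 0} F := preservesColimitsOfSize_shrink.{0, u, 0, u} _
  haveI : ∀ k, IsIso (u.app (M k)) := fun k => (hM k).2
  have he : u.app (∐ M) = Limits.Sigma.map (fun k => u.app (M k)) ≫ sigmaComparison F M := by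
    refine Limits.Sigma.hom_ext _ _ fun k => ?_
    rw [Limits.Sigma.ι_map_assoc, ι_comp_sigmaComparison]
    exact u.naturality (Limits.Sigma.ι M k)
  show IsIso (u.app (∐ M))
  rw [he]
  infer_instance

theorem data : Groth.L29.DevLF.Data (W i) (A i) CohB1.support (f i) where
  w_zero h := (w_iff i _).2 ⟨Groth.L29.DC.RHomC.isCoh_of_isZero h, by
    rw [(Groth.L21.Mod.isZero_iff_support_eq_empty _).1 h]; exact Set.empty_subset _⟩
  w_iso e h := by
    rw [w_iff] at h ⊢
    exact ⟨Groth.L16.CohSupport.isCoh_of_iso e h.1, (Groth.L17.KilledUnit.support_congr e).symm.le.trans h.2⟩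
  w_pullback {A' B' C'} a b ha hb hc := by
    rw [w_iff] at ha hb hc ⊢
    have hbi : Coh.IsCoh (A' ⊞ B') := Groth.L16.CohSupport.isCoh_of_iso
      (biprod.uniqueUpToIso _ _ (BinaryBiproduct.isBilimit A' B')).symm (Groth.L16.Devissage.isCoh_biprod ha.1 hb.1)
    have hk := (Groth.L16.CohKernel.isCoh_kernel_cokernel hbi hc.1 (biprod.desc a (-b))).1
    refine ⟨Groth.L16.CohSupport.isCoh_of_iso ?_ hk, ?_⟩
    · exact {
        hom := pullback.lift (kernel.ι _ ≫ biprod.fst) (kernel.ι _ ≫ biprod.snd) (by
          rw [← sub_eq_zero]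
          have := kernel.condition (biprod.desc a (-b))
          simpa [biprod.desc_eq, Preadditive.comp_add, ← sub_eq_add_neg] using this)
        inv := kernel.lift _ (biprod.lift (pullback.fst a b) (pullback.snd a b)) (by
          simp [pullback.condition])
        hom_inv_id := by
          rw [← cancel_mono (kernel.ι _)]
          apply biprod.hom_ext <;> simp
        inv_hom_id := by apply pullback.hom_ext <;> simp }
    · have hS : (ShortComplex.mk (kernel.ι (pullback.fst a b)) (Abelian.factorThruImage (pullback.fst a b))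
          (by rw [← cancel_mono (Abelian.image.ι (pullback.fst a b)), Category.assoc, Abelian.image.fac,
            kernel.condition, zero_comp])).ShortExact := Groth.L16.Devissage.shortExact_kernel_image _
      show CohB1.support (pullback a b) ⊆ _
      rw [show CohB1.support (pullback a b) = _ from Groth.L21.Mod.support_of_shortExact hS]
      refine Set.union_subset ?_ ((Groth.L21.Mod.support_mono (Abelian.image.ι _)).trans ha.2)
      haveI : Mono (kernel.ι (pullback.fst a b) ≫ pullback.snd a b) := by
        refine Preadditive.mono_of_cancel_zero _ fun {V} x hx => ?_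
        rw [← cancel_mono (kernel.ι _), zero_comp]
        apply pullback.hom_ext <;> simp only [Category.assoc, zero_comp, hx]
        rw [kernel.condition, comp_zero]
      exact (Groth.L21.Mod.support_mono (kernel.ι (pullback.fst a b) ≫ pullback.snd a b)).trans hb.2
  w_image a ha hb := by
    haveI := hb.1.1
    rw [w_iff] at ha hb ⊢
    exact ⟨Groth.L16.CohSupport.isCoh_image ha.1 a, (Groth.L21.Mod.support_mono (Abelian.image.ι a)).trans hb.2⟩
  w_coker a ha hb := by
    rw [w_iff] at ha hb ⊢
    exact ⟨(Groth.L16.CohKernel.isCoh_kernel_cokernel ha.1 hb.1 a).2,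
      (Groth.L21.Mod.support_epi (cokernel.π a)).trans hb.2⟩
  w_sigma h hM := by
    rw [w_iff]
    exact ⟨isCoh_sigma h fun k => (hM k).1,
      (support_sigma _).trans (Set.iUnion_subset fun k => ((w_iff i _).1 (hM k)).2)⟩
  a_w h := w_of_a i h
  a_sub hS h h1 := Groth.L29.KcohNil.sub_quot i hS h h1.1
  a_sigma h hM := a_sigma i h hM
  s_mono a h := @Groth.L21.Mod.support_mono _ _ _ a h
  s_epi a h := @Groth.L21.Mod.support_epi _ _ _ a h
  s_sigma M := support_sigma M
  f_add hS h1 h2 h3 := Groth.L29.KcohNil.f_add i hS h1 h2 h3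

/-- the filtration by kernels of units -/
noncomputable def fil {M : X.Modules} (hM : W i M) : Groth.L29.DevLF.Fil (W i) (A i) CohB1.support M where
  obj := seq i M
  ι := inc i M
  e := Iso.refl _
  mono := inferInstance
  w k := (w_iff i _).2 ⟨isCoh_seq i hM.1 k, (support_seq i M k).trans ((w_iff i M).1 hM).2⟩
  lf := lf_seq i hM
  a k := a_gr i hM.1 k

/-- the isomorphism -/
theorem exists_equiv : ∃ φ : KZero.K0sub (fun F : Z.Modules => Coh.IsCoh F) ≃+ KZero.K0sub (W i),
    ∀ F : Z.Modules, Coh.IsCoh F → φ (KZero.clSub (fun F : Z.Modules => Coh.IsCoh F) F) =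
      KZero.clSub (W i) ((Coh.push i).obj F) := by
  haveI : IsLocallyNoetherian Z := LocallyOfFiniteType.isLocallyNoetherian i
  have D := data i
  let P : X.Modules ⥤ _ := Scheme.Modules.pullback i
  let Q : Z.Modules ⥤ X.Modules := Scheme.Modules.pushforward i
  have hA : ∀ F : Z.Modules, Coh.IsCoh F → A i (Q.obj F) := fun F hF =>
    ⟨Groth.L16.CohClosedPush.isCoh_push i hF, Groth.L29.KcohNil.isIso_unit_push i F⟩
  let ψ : KZero.K0sub (fun F : Z.Modules => Coh.IsCoh F) →+ KZero.K0sub (W i) :=
    Groth.L29.KSub.lift (P := (fun F : Z.Modules => Coh.IsCoh F : ObjectProperty Z.Modules))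
      (fun F => KZero.clSub (W i) (Q.obj F)) fun S hS h1 h2 h3 =>
        Groth.L29.KSub.clSub_shortExact (W i) (hS.map_of_exact Q) (w_of_a i (hA _ h1)) (w_of_a i (hA _ h2))
          (w_of_a i (hA _ h3))
  have hψ : ∀ F : Z.Modules, Coh.IsCoh F →
      ψ (KZero.clSub (fun F : Z.Modules => Coh.IsCoh F) F) = KZero.clSub (W i) (Q.obj F) :=
    fun F hF => Groth.L29.KSub.lift_clSub _ _ hF
  obtain ⟨ν, hν⟩ := Groth.L29.DevLF.exists_hom D (P := W i) (fun h => h) fun h => ⟨fil i h⟩
  haveI := Groth.L17.ClosedPush.isIso_counit i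
  haveI : ObjectProperty.IsClosedUnderIsomorphisms (fun F : Z.Modules => Coh.IsCoh F) :=
    ⟨fun e h => Groth.L16.CohSupport.isCoh_of_iso e h⟩
  haveI : ObjectProperty.IsClosedUnderIsomorphisms (W i) := ⟨fun e h => D.w_iso e h⟩
  have h : ν.comp ψ = AddMonoidHom.id _ := Groth.L29.KSub.hom_ext fun F hF => by
    rw [AddMonoidHom.comp_apply, hψ F hF, hν (w_of_a i (hA F hF)) (hA F hF)]
    exact Groth.L29.KSub.clSub_iso _ ((asIso (Scheme.Modules.pullbackPushforwardAdjunction i).counit).app F)
      (isZero_zero _) (Groth.L29.DC.RHomC.isCoh_of_isZero (isZero_zero _)) (Groth.L29.KcohNil.isCoh_pull i (hA F hF))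
  have hsurj : ∀ M, W i M → KZero.clSub (W i) M ∈ ψ.range := fun M hM => by
    let F := fil i hM
    have hgr : A i (∐ F.gr) := F.a_gr D
    haveI := hgr.2
    refine ⟨KZero.clSub _ (P.obj (∐ F.gr)), ?_⟩
    rw [hψ _ (Groth.L29.KcohNil.isCoh_pull i hgr)]
    refine ((Groth.L29.DevLF.clSub_eq_gr F (F.w 0) (D.w_sigma F.lf F.w)
      (D.w_sigma F.lf.shift fun k => F.w (k + 1)) (w_of_a i hgr)).trans ?_).symm
    exact Groth.L29.KSub.clSub_iso _ (asIso ((Scheme.Modules.pullbackPushforwardAdjunction i).unit.app (∐ F.gr)))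
      (isZero_zero _) (D.w_zero (isZero_zero _)) (w_of_a i hgr)
  refine ⟨AddEquiv.ofBijective ψ ⟨Function.LeftInverse.injective (g := ν) (DFunLike.congr_fun h), fun x => ?_⟩,
    fun F hF => hψ F hF⟩
  induction x using QuotientAddGroup.induction_on with
  | H x =>
    induction x using FreeAbelianGroup.induction_on with
    | zero => exact ⟨0, map_zero _⟩
    | of M => exact (Groth.L29.KSub.clSub_of (W i) M.2) ▸ hsurj M.1 M.2
    | neg M hM =>
      obtain ⟨a, ha⟩ := hM
      exact ⟨-a, by rw [map_neg, ha, QuotientAddGroup.mk_neg]⟩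
    | add a b ha hb =>
      obtain ⟨p, hp⟩ := ha
      obtain ⟨q, hq⟩ := hb
      exact ⟨p + q, by rw [map_add, hp, hq, QuotientAddGroup.mk_add]⟩

end Groth.L29.KcohSupp
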