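import Groth.Agent.L29.K.Sub
import Groth.Agent.L16.Devissage
import Groth.Agent.L22.Cyc.ClosedSub
import Groth.Agent.L03.Euler.Dim
import Groth.Agent.L13.KcohNilp
import Groth.Agent.L17.KilledUnit
import Groth.Prelude.Def_ChowK

/-!
The filtration of `K₀` of coherent modules by the dimension of the support.
-/

set_option autoImplicit false
set_option backward.defeqAttrib.useBackward true
set_option backward.isDefEq.respectTransparency false
set_option backward.isDefEq.respectTransparency.types false
set_option linter.style.haveILetI false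

universe u

open CategoryTheory CategoryTheory.Limits AlgebraicGeometry TopologicalSpace
open Groth.L16.CohSupport (len len_eq_zero_iff)

namespace Groth.L29.KFilt

variable {X : Scheme.{u}} [AlgebraicGeometry.IsNoetherian X]

local notation "cl" => KZero.clSub (fun M : Scheme.Modules _ => Coh.IsCoh M)

theorem coh_css (y : X) : Coh.IsCoh (Cyc.closureStructureSheaf y) := by
  haveI := Groth.L22.Cyc.isLocallyNoetherian_clSub y
  exact Groth.L16.CohClosedPush.isCoh_push (Groth.L22.Cyc.clι y) Groth.L16.CohClosedPush.isCoh_structure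

theorem support_css_subset (y : X) : CohB1.support (Cyc.closureStructureSheaf y) ⊆ closure {y} :=
  (Groth.L16.CohClosedPush.support_push_subset (Groth.L22.Cyc.clι y) _).trans (Groth.L22.Cyc.range_clι y).le

theorem len_css (y : X) : len y (Cyc.closureStructureSheaf y) = 1 := by
  have h := Groth.L16.CohClosedPush.len_push_structure (Groth.L22.Cyc.clι y)
  rwa [Groth.L22.Cyc.clι_genericPoint] at h

/-- a point of a closed set of dimension `≤ n` whose closure has dimension `n` is maximal -/
theorem eq_of_specializes {T : Set X} {n : ℕ} (hd : topologicalKrullDim T ≤ (n : WithBot ℕ∞)) {x z : X}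
    (hx : topologicalKrullDim (closure ({x} : Set X)) = (n : WithBot ℕ∞)) (hT : IsClosed T) (hz : z ∈ T)
    (h : z ⤳ x) : z = x := by
  by_contra hne
  have h1 := Groth.L03.Euler.topologicalKrullDim_add_one_le (S := closure {x}) isClosed_closure
    (isIrreducible_singleton.closure (s := {z}))
    (closure_minimal (Set.singleton_subset_iff.2 (specializes_iff_mem_closure.1 h)) isClosed_closure)
    fun he => hne (h.antisymm (specializes_iff_mem_closure.2 (he ▸ subset_closure rfl))).eq
  rw [hx] at h1
  have h2 := h1.trans ((Groth.L03.Euler.topologicalKrullDim_set_mono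
    (closure_minimal (Set.singleton_subset_iff.2 hz) hT)).trans hd)
  have h3 : n + 1 ≤ n := by exact_mod_cast h2
  omega

theorem finite_top (T : Set X) (hT : IsClosed T) (n : ℕ) (hd : topologicalKrullDim T ≤ (n : WithBot ℕ∞)) :
    {x : X | x ∈ T ∧ topologicalKrullDim (closure ({x} : Set X)) = (n : WithBot ℕ∞)}.Finite := by
  classical
  obtain ⟨S, hSf, hSc, hSi, hS⟩ := NoetherianSpace.exists_finite_set_isClosed_irreducible hT
  refine ((hSf.dependent_image (fun C hC => (hSi C hC).genericPoint))).subset ?_
  rintro x ⟨hxT, hx⟩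
  rw [hS] at hxT
  obtain ⟨C, hC, hxC⟩ := hxT
  have hg := (hSi C hC).isGenericPoint_genericPoint (hSc C hC)
  exact ⟨C, hC, eq_of_specializes hd hx hT (hS ▸ ⟨C, hC, hg.mem⟩) (hg.specializes hxC)⟩

/-- classes of coherent modules whose support has dimension less than `n` -/
noncomputable def Lt (n : ℕ) : AddSubgroup (SGA6.Kcoh X) :=
  AddSubgroup.closure {c | ∃ G : X.Modules, Coh.IsCoh G ∧
    topologicalKrullDim ↥(CohB1.support G) < (n : WithBot ℕ∞) ∧ c = cl G}

/-- the leading term -/
noncomputable def lead (n : ℕ) (M : X.Modules) (x : X) : SGA6.Kcoh X :=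
  if topologicalKrullDim ↥(closure ({x} : Set X)) = (n : WithBot ℕ∞) then
    (len x M).toNat • cl (Cyc.closureStructureSheaf x) else 0

theorem sum_lead_mem {F : X.Modules} (hF : Coh.IsCoh F) (n : ℕ)
    (hd : topologicalKrullDim ↥(CohB1.support F) ≤ (n : WithBot ℕ∞)) :
    cl F - finsum (lead n F) ∈ Lt n := by
  classical
  let T := CohB1.support F
  have hT : IsClosed T := Groth.L16.CohSupport.isClosed_support F hF.2
  let s := (finite_top T hT n hd).toFinset
  have hsum : ∀ M : X.Modules, CohB1.support M ⊆ T → finsum (lead n M) = ∑ x ∈ s, lead n M x := by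
    intro M hM
    refine finsum_eq_sum_of_support_subset _ fun x hx => ?_
    rw [Finset.mem_coe, Set.Finite.mem_toFinset]
    rw [Function.mem_support, lead] at hx
    by_cases h : topologicalKrullDim ↥(closure ({x} : Set X)) = (n : WithBot ℕ∞)
    · refine ⟨hM ?_, h⟩
      by_contra hn
      rw [if_pos h, (len_eq_zero_iff x M).2 hn, ENat.toNat_zero, zero_smul] at hx
      exact hx rfl
    · rw [if_neg h] at hx
      exact absurd rfl hx
  suffices h : CohB1.support F ⊆ T → cl F - ∑ x ∈ s, lead n F x ∈ Lt n by
    rw [hsum F subset_rfl]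
    exact h subset_rfl
  refine Groth.L16.Devissage.devissage
    (P := fun M => CohB1.support M ⊆ T → cl M - ∑ x ∈ s, lead n M x ∈ Lt n) hT ?_ ?_ ?_ ?_ hF subset_rfl
  · rintro M N ⟨e⟩ hP hN
    by_cases hc : Coh.IsCoh M
    · have h := hP ((Groth.L17.KilledUnit.support_congr e).le.trans hN)
      rw [← Groth.L13.KcohNilp.cl_iso e hc, ← Finset.sum_congr rfl fun x _ => (show lead n M x = lead n N x by
        simp only [lead, Groth.L16.CohSupport.len_congr e x])]
      exact h
    · have hc' : ¬ Coh.IsCoh N := fun h => hc (Groth.L16.CohSupport.isCoh_of_iso e.symm h)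
      have h := hP ((Groth.L17.KilledUnit.support_congr e).le.trans hN)
      rw [KZero.clSub, dif_neg hc] at h
      rw [KZero.clSub, dif_neg hc', ← Finset.sum_congr rfl fun x _ => (show lead n M x = lead n N x by
        simp only [lead, Groth.L16.CohSupport.len_congr e x])]
      exact h
  · intro M hz _
    have h0 : ∀ x, lead n M x = 0 := fun x => by
      have : len x M = 0 := (len_eq_zero_iff x M).2 (by
        rw [(Groth.L21.Mod.isZero_iff_support_eq_empty M).1 hz]; exact Set.notMem_empty _)
      simp [lead, this]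
    rw [Groth.L29.KSub.clSub_zero _ hz (Groth.L16.Devissage.isCoh_of_isZero hz),
      Finset.sum_eq_zero fun x _ => h0 x, sub_zero]
    exact zero_mem _
  · intro S hS h1 h2 h3 hs2
    have hsupp := Groth.L16.Devissage.support_union hS
    have hadd : cl S.X₂ - ∑ x ∈ s, lead n S.X₂ x =
        (cl S.X₁ - ∑ x ∈ s, lead n S.X₁ x) + (cl S.X₃ - ∑ x ∈ s, lead n S.X₃ x) := by
      rw [Groth.L29.KSub.clSub_shortExact (fun M : X.Modules => Coh.IsCoh M) hS h1 h2 h3,
        sub_add_sub_comm, ← Finset.sum_add_distrib]
      refine congrArg _ (Finset.sum_congr rfl fun x hx => ?_)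
      rw [Set.Finite.mem_toFinset] at hx
      have hl : ∀ {M : X.Modules}, Coh.IsCoh M → CohB1.support M ⊆ T → len x M ≠ ⊤ := fun hM hsM =>
        Groth.L16.CohSupport.len_ne_top hM fun z hz hzx => eq_of_specializes hd hx.2 hT (hsM hz) hzx
      simp only [lead, if_pos hx.2]
      rw [← add_smul, ← ENat.toNat_add (hl h1 (hsupp.1.trans hs2)) (hl h3 (hsupp.2.trans hs2)),
        Groth.L16.CohSupport.len_add hS x]
    refine ⟨fun p1 p2 _ => ?_, fun p1 p3 _ => ?_, fun p2 p3 _ => ?_⟩
    · have := sub_mem (hadd ▸ p2 hs2) (p1 (hsupp.1.trans hs2))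
      rwa [add_sub_cancel_left] at this
    · rw [hadd]; exact add_mem (p1 (hsupp.1.trans hs2)) (p3 (hsupp.2.trans hs2))
    · have := sub_mem (hadd ▸ p2 hs2) (p3 (hsupp.2.trans hs2))
      rwa [add_sub_cancel_right] at this
  · intro y hy
    refine ⟨Cyc.closureStructureSheaf y, coh_css y, fun _ => ?_, support_css_subset y, len_css y⟩
    have hsub : closure ({y} : Set X) ⊆ T := closure_minimal (Set.singleton_subset_iff.2 hy) hT
    have hzero : ∀ x ∈ s, x ≠ y → lead n (Cyc.closureStructureSheaf y) x = 0 := fun x hx hne => by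
      rw [Set.Finite.mem_toFinset] at hx
      have : len x (Cyc.closureStructureSheaf y) = 0 := (len_eq_zero_iff x _).2 fun h =>
        hne (eq_of_specializes hd hx.2 hT hy (specializes_iff_mem_closure.2 (support_css_subset y h))).symm
      simp [lead, this]
    by_cases hn : topologicalKrullDim ↥(closure ({y} : Set X)) = (n : WithBot ℕ∞)
    · have hys : y ∈ s := by rw [Set.Finite.mem_toFinset]; exact ⟨hy, hn⟩
      rw [Finset.sum_eq_single_of_mem y hys hzero, lead, if_pos hn, len_css]
      simp
    · rw [Finset.sum_eq_zero fun x hx => hzero x hx fun h => hn (by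
        rw [Set.Finite.mem_toFinset] at hx; exact h ▸ hx.2), sub_zero]
      exact AddSubgroup.subset_closure ⟨_, coh_css y,
        ((Groth.L03.Euler.topologicalKrullDim_set_mono (support_css_subset y)).trans_lt
          (lt_of_le_of_ne ((Groth.L03.Euler.topologicalKrullDim_set_mono hsub).trans hd) hn)), rfl⟩

theorem closure_eq (n : ℕ) :
    AddSubgroup.closure {c : SGA6.Kcoh X |
        ∃ G : X.Modules, Coh.IsCoh G ∧ topologicalKrullDim ↥(CohB1.support G) ≤ (n : WithBot ℕ∞) ∧ c = cl G} =
      AddSubgroup.closure {c : SGA6.Kcoh X |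
        ∃ x : X, topologicalKrullDim ↥(closure ({x} : Set X)) ≤ (n : WithBot ℕ∞) ∧
          c = cl (Cyc.closureStructureSheaf x)} := by
  refine le_antisymm ((AddSubgroup.closure_le _).2 ?_) ((AddSubgroup.closure_le _).2 ?_)
  · rintro _ ⟨G, hG, hd, rfl⟩
    let R := AddSubgroup.closure {c : SGA6.Kcoh X |
        ∃ x : X, topologicalKrullDim ↥(closure ({x} : Set X)) ≤ (n : WithBot ℕ∞) ∧
          c = cl (Cyc.closureStructureSheaf x)}
    have hT : IsClosed (CohB1.support G) := Groth.L16.CohSupport.isClosed_support G hG.2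
    refine Groth.L16.Devissage.devissage (P := fun M => cl M ∈ R) hT ?_ ?_ ?_ ?_ hG subset_rfl
    · rintro M N ⟨e⟩ hP
      by_cases hc : Coh.IsCoh M
      · exact Groth.L13.KcohNilp.cl_iso e hc ▸ hP
      · show cl N ∈ R
        rw [KZero.clSub, dif_neg fun h => hc (Groth.L16.CohSupport.isCoh_of_iso e.symm h)]
        exact R.zero_mem
    · intro M hz
      show cl M ∈ R
      rw [Groth.L29.KSub.clSub_zero _ hz (Groth.L16.Devissage.isCoh_of_isZero hz)]
      exact R.zero_mem
    · intro S hS h1 h2 h3 _
      have e := Groth.L29.KSub.clSub_shortExact (fun M : X.Modules => Coh.IsCoh M) hS h1 h2 h3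
      refine ⟨fun p1 p2 => ?_, fun p1 p3 => ?_, fun p2 p3 => ?_⟩
      · have := R.sub_mem (e ▸ (show cl S.X₂ ∈ R from p2)) p1
        rwa [add_sub_cancel_left] at this
      · show cl S.X₂ ∈ R
        rw [e]; exact R.add_mem p1 p3
      · have := R.sub_mem (e ▸ (show cl S.X₂ ∈ R from p2)) p3
        rwa [add_sub_cancel_right] at this
    · intro y hy
      exact ⟨_, coh_css y, AddSubgroup.subset_closure ⟨y, (Groth.L03.Euler.topologicalKrullDim_set_mono
        (closure_minimal (Set.singleton_subset_iff.2 hy) hT)).trans hd, rfl⟩, support_css_subset y, len_css y⟩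
  · rintro _ ⟨x, hx, rfl⟩
    exact AddSubgroup.subset_closure
      ⟨_, coh_css x, (Groth.L03.Euler.topologicalKrullDim_set_mono (support_css_subset x)).trans hx, rfl⟩

end Groth.L29.KFilt
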