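import Groth.Agent.L29.K.DevFil
import Groth.Agent.L29.K.KcohLoc
import Groth.Agent.L17.KilledUnit
import Groth.Agent.L19.ProjBdl.KerSect

/-!
`K₀` of coherent modules is invariant under surjective closed immersions.
-/

set_option autoImplicit false
set_option backward.defeqAttrib.useBackward true
set_option backward.isDefEq.respectTransparency false
set_option backward.isDefEq.respectTransparency.types false
set_option linter.style.haveILetI false

universe u

open CategoryTheory CategoryTheory.Limits AlgebraicGeometry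

namespace Groth.L29.KcohNil

variable {X X' : Scheme.{u}} (i : X' ⟶ X) [IsClosedImmersion i]
  [(Scheme.Modules.pushforward i).Additive] [PreservesFiniteLimits (Scheme.Modules.pushforward i)]
  [PreservesFiniteColimits (Scheme.Modules.pushforward i)]

/-- coherent and coming from the subscheme -/
def A (M : X.Modules) : Prop :=
  Coh.IsCoh M ∧ IsIso ((Scheme.Modules.pullbackPushforwardAdjunction i).unit.app M)

omit [(Scheme.Modules.pushforward i).Additive] [PreservesFiniteLimits (Scheme.Modules.pushforward i)]
  [PreservesFiniteColimits (Scheme.Modules.pushforward i)] in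
/-- direct images come from the subscheme -/
theorem isIso_unit_push (N : X'.Modules) :
    IsIso ((Scheme.Modules.pullbackPushforwardAdjunction i).unit.app ((Scheme.Modules.pushforward i).obj N)) := by
  haveI := Groth.L17.ClosedPush.isIso_counit i
  let adj := Scheme.Modules.pullbackPushforwardAdjunction i
  have h := adj.right_triangle_components N
  haveI : IsIso ((Scheme.Modules.pushforward i).map (adj.counit.app N)) := inferInstance
  exact IsIso.of_isIso_fac_right h

omit [(Scheme.Modules.pushforward i).Additive] [PreservesFiniteLimits (Scheme.Modules.pushforward i)]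
  [PreservesFiniteColimits (Scheme.Modules.pushforward i)] in
theorem push_faithful : (Scheme.Modules.pushforward i).Faithful :=
  haveI := Groth.L17.ClosedPush.isIso_counit i
  (Scheme.Modules.pullbackPushforwardAdjunction i).fullyFaithfulROfIsIsoCounit.faithful

omit [(Scheme.Modules.pushforward i).Additive] [PreservesFiniteLimits (Scheme.Modules.pushforward i)]
  [PreservesFiniteColimits (Scheme.Modules.pushforward i)] in
theorem push_full : (Scheme.Modules.pushforward i).Full :=
  haveI := Groth.L17.ClosedPush.isIso_counit i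
  (Scheme.Modules.pullbackPushforwardAdjunction i).fullyFaithfulROfIsIsoCounit.full

/-- an additive function: the class of the restriction -/
noncomputable def f (M : X.Modules) : SGA6.Kcoh X' :=
  KZero.clSub (fun N : X'.Modules => Coh.IsCoh N) ((Scheme.Modules.pullback i).obj M)


omit [PreservesFiniteLimits (Scheme.Modules.pushforward i)] in
theorem sub_quot {S : ShortComplex X.Modules} [IsLocallyNoetherian X] (hS : S.ShortExact) (h : A i S.X₂)
    (h1 : Coh.IsCoh S.X₁) : A i S.X₁ ∧ A i S.X₃ := by
  haveI := h.2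
  haveI := hS.mono_f
  haveI := hS.epi_g
  haveI : Coh.IsQCoh S.X₁ := h1.1
  have hk1 : ClSub.KilledByIdeal i.ker S.X₁ := fun U a ha m => by
    refine (Groth.L19.ProjBdl.injective_app_of_mono S.f U.1) ?_
    rw [map_zero]
    refine (Scheme.Modules.Hom.app_smul S.f a m).trans ?_
    exact Groth.L17.KilledUnit.killed_of_isIso i S.X₂ h.2 U a ha _
  haveI := Groth.L17.KilledUnit.isIso_of_killed i S.X₁ hk1
  refine ⟨⟨h1, inferInstance⟩, ?_, ?_⟩
  · exact Groth.L16.CohSupport.isCoh_of_iso
      (IsColimit.coconePointUniqueUpToIso (cokernelIsCokernel S.f) hS.gIsCokernel)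
      (Groth.L16.CohKernel.isCoh_kernel_cokernel h1 h.1 S.f).2
  · let F := Scheme.Modules.pullback i ⋙ Scheme.Modules.pushforward i
    let η := (Scheme.Modules.pullbackPushforwardAdjunction i).unit
    haveI : PreservesFiniteColimits (Scheme.Modules.pullback i) :=
      (Scheme.Modules.pullbackPushforwardAdjunction i).leftAdjoint_preservesColimits.preservesFiniteColimits
    haveI : (Scheme.Modules.pullback i).PreservesZeroMorphisms :=
      Functor.preservesZeroMorphisms_of_map_zero_object ((Scheme.Modules.pullback i).mapZeroObject)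
    haveI : Epi (F.map S.g) := inferInstance
    have hc := isColimitCoforkMapOfIsColimit' F S.zero hS.gIsCokernel
    have hn := η.naturality S.g
    haveI : Epi (η.app S.X₃) := by
      refine @epi_of_epi _ _ _ _ _ S.g _ ?_
      rw [show S.g ≫ η.app S.X₃ = η.app S.X₂ ≫ F.map S.g from hn]
      infer_instance
    have hh : ∃ s : F.obj S.X₃ ⟶ S.X₃, F.map S.g ≫ s = inv (η.app S.X₂) ≫ S.g := by
      refine ⟨hc.desc (CokernelCofork.ofπ (inv (η.app S.X₂) ≫ S.g) ?_),
        hc.fac (CokernelCofork.ofπ (inv (η.app S.X₂) ≫ S.g) _) WalkingParallelPair.one⟩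
      rw [← cancel_epi (η.app S.X₁), comp_zero, ← Category.assoc,
        show η.app S.X₁ ≫ F.map S.f = S.f ≫ η.app S.X₂ from (η.naturality S.f).symm]
      simp
    obtain ⟨s, hs⟩ := hh
    have h1' : η.app S.X₃ ≫ s = 𝟙 _ := by
      rw [← cancel_epi S.g, ← Category.assoc, show S.g ≫ η.app S.X₃ = η.app S.X₂ ≫ F.map S.g from hn,
        Category.assoc, hs, IsIso.hom_inv_id_assoc]
      exact (Category.comp_id _).symm
    refine ⟨s, h1', ?_⟩
    rw [← cancel_epi (η.app S.X₃), ← Category.assoc, h1', Category.id_comp, Category.comp_id]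

theorem isCoh_pull [IsLocallyNoetherian X] {M : X.Modules} (h : A i M) : Coh.IsCoh ((Scheme.Modules.pullback i).obj M) :=
  Groth.L17.KilledUnit.isCoh_pullback_of_killed i M h.1 (Groth.L17.KilledUnit.killed_of_isIso i M h.2)

theorem f_add [IsLocallyNoetherian X] {S : ShortComplex X.Modules} (hS : S.ShortExact) (h1 : A i S.X₁) (h2 : A i S.X₂) (h3 : A i S.X₃) :
    f i S.X₂ = f i S.X₁ + f i S.X₃ := by
  haveI := h1.2
  haveI := h2.2
  haveI := h3.2
  let P := Scheme.Modules.pullback i
  let Q := Scheme.Modules.pushforward i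
  haveI : P.PreservesZeroMorphisms :=
    Functor.preservesZeroMorphisms_of_map_zero_object P.mapZeroObject
  haveI : Q.Faithful := push_faithful i
  let η := (Scheme.Modules.pullbackPushforwardAdjunction i).unit
  let e : S ≅ (S.map P).map Q := ShortComplex.isoMk (asIso (η.app S.X₁)) (asIso (η.app S.X₂)) (asIso (η.app S.X₃))
    (η.naturality S.f).symm (η.naturality S.g).symm
  have h : ((S.map P).map Q).ShortExact := ShortComplex.shortExact_of_iso e hS
  haveI := h.mono_f
  haveI := h.epi_g
  haveI : Mono (S.map P).f := Q.mono_of_mono_map h.mono_f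
  haveI : Epi (S.map P).g := Q.epi_of_epi_map h.epi_g
  have hP : (S.map P).ShortExact := { exact := ((S.map P).exact_map_iff_of_faithful Q).1 h.exact }
  exact Groth.L29.KSub.clSub_shortExact (fun N : X'.Modules => Coh.IsCoh N) hP (isCoh_pull i h1) (isCoh_pull i h2)
    (isCoh_pull i h3)

variable [AlgebraicGeometry.IsNoetherian X]

theorem data : Groth.L29.DevFil.Data (Coh.IsCoh (X := X)) (A i) (f i) where
  w_zero h := Groth.L29.DC.RHomC.isCoh_of_isZero h
  w_iso e h := Groth.L16.CohSupport.isCoh_of_iso e h
  w_kernel a h h' := by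
    haveI := h'.1
    exact Groth.L16.CohSupport.isCoh_kernel h a
  w_image a h h' := by
    haveI := h'.1
    exact Groth.L16.CohSupport.isCoh_image h a
  a_w h := h.1
  a_zero {M} h := by
    refine ⟨Groth.L29.DC.RHomC.isCoh_of_isZero h, ?_⟩
    haveI : (Scheme.Modules.pullback i).PreservesZeroMorphisms :=
      Functor.preservesZeroMorphisms_of_map_zero_object (Scheme.Modules.pullback i).mapZeroObject
    have h' := (Scheme.Modules.pushforward i).map_isZero ((Scheme.Modules.pullback i).map_isZero h)
    exact ⟨h'.to_ _, h.eq_of_src _ _, h'.eq_of_src _ _⟩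
  a_sub hS h h1 := sub_quot i hS h h1
  f_add hS h1 h2 h3 := f_add i hS h1 h2 h3


/-- coherent modules are filtered by modules coming from the subscheme -/
theorem exists_val [Surjective i] {M : X.Modules} (hM : Coh.IsCoh M) :
    ∃ g, Groth.L29.DevFil.Val (Coh.IsCoh (X := X)) (A i) (f i) M g := by
  have D := data i
  refine Groth.L16.Devissage.devissage_ideals
    (P := fun M => Coh.IsCoh M → ∃ g, Groth.L29.DevFil.Val (Coh.IsCoh (X := X)) (A i) (f i) M g) ?_ ?_ ?_ ?_ hM hM
  · rintro M N ⟨e⟩ hP hN
    obtain ⟨g, hg⟩ := hP (Groth.L16.CohSupport.isCoh_of_iso e.symm hN)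
    exact ⟨g, hg.iso D e⟩
  · exact fun M hz hM => ⟨0, .zero hz hM⟩
  · intro S hS h1 h2 h3 hP1 hP3 _
    obtain ⟨p, hp⟩ := hP1 h1
    obtain ⟨q, hq⟩ := hP3 h3
    exact hq.extend D S.f S.g S.zero hS h2 hp
  · intro Z z hz hZ I ι hι hI hcoh
    haveI := hz
    haveI := hZ
    have hker : i.ker ≤ z.ker := by
      refine le_trans ?_ (Groth.L18.vanishingIdeal_le_ker z ⟨Set.range i, i.isClosedEmbedding.isClosed_range⟩
        (fun x _ => i.surjective x))
      refine Scheme.IdealSheafData.le_support_iff_le_vanishingIdeal.1 ?_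
      intro x hx
      show x ∈ (i.ker.support : Set X)
      rw [Scheme.Hom.support_ker, i.isClosedEmbedding.isClosed_range.closure_eq]
      exact hx
    let k : Z ⟶ X' := IsClosedImmersion.lift i z hker
    have hk : k ≫ i = z := IsClosedImmersion.lift_fac _ _ _
    let e : (Coh.push z).obj I ≅ (Scheme.Modules.pushforward i).obj ((Scheme.Modules.pushforward k).obj I) :=
      (Scheme.Modules.pushforwardCongr hk.symm).app I ≪≫ (Scheme.Modules.pushforwardComp k i).symm.app I
    haveI := isIso_unit_push i ((Scheme.Modules.pushforward k).obj I)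
    obtain ⟨g, -, hg⟩ := Groth.L29.DevFil.Val.of_mem D (X := (Scheme.Modules.pushforward i).obj
      ((Scheme.Modules.pushforward k).obj I)) ⟨Groth.L16.CohSupport.isCoh_of_iso e hcoh, inferInstance⟩
    exact ⟨g, hg.iso D e.symm⟩

theorem bijective [Surjective i]
    (hi : ∀ M : X'.Modules, Coh.IsCoh M → Coh.IsCoh ((Scheme.Modules.pushforward i).obj M)) :
    Function.Bijective (SGA6.mapSub (Scheme.Modules.pushforward i) (fun M : X'.Modules => Coh.IsCoh M)
      (fun M : X.Modules => Coh.IsCoh M) hi) := by
  haveI : IsLocallyNoetherian X' := LocallyOfFiniteType.isLocallyNoetherian i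
  haveI : CompactSpace X' := QuasiCompact.compactSpace_of_compactSpace i
  haveI : AlgebraicGeometry.IsNoetherian X' := { }
  let ψ := SGA6.mapSub (Scheme.Modules.pushforward i) (fun M : X'.Modules => Coh.IsCoh M)
    (fun M : X.Modules => Coh.IsCoh M) hi
  obtain ⟨ν, hν⟩ := Groth.L29.DevFil.exists_hom (data i) (P := fun M : X.Modules => Coh.IsCoh M)
    (fun hM => exists_val i hM)
  haveI := Groth.L17.ClosedPush.isIso_counit i
  have h : ν.comp ψ = AddMonoidHom.id _ := Groth.L29.KSub.hom_ext fun N hN => by
    rw [AddMonoidHom.comp_apply, Groth.L29.KcohLoc.mapSub_cl _ hi hN,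
      hν (hi N hN) ⟨hi N hN, isIso_unit_push i N⟩]
    exact Groth.L13.KcohNilp.cl_iso ((asIso (Scheme.Modules.pullbackPushforwardAdjunction i).counit).app N)
      (isCoh_pull i ⟨hi N hN, isIso_unit_push i N⟩)
  refine ⟨Function.LeftInverse.injective (g := ν) (DFunLike.congr_fun h), fun y => ?_⟩
  have := Groth.L29.KcohLoc.S_le_range i hi
  rw [Set.range_eq_univ.2 i.surjective, Groth.L13.KcohNilp.S_univ] at this
  exact this (show y ∈ (⊤ : AddSubgroup _) from trivial)

end Groth.L29.KcohNil
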