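import Groth.Agent.L29.K.DevLF
import Groth.Agent.L29.K.KcohNil
import Groth.Agent.L16.DevissageKilled
import Groth.Agent.L16.SchSupport
import Groth.Agent.L16.AffineBC.Pullback
import Groth.Agent.L17.ClosedPush
import Mathlib.RingTheory.Finiteness.Ideal

/-!
Coherent modules supported in a closed subscheme have a locally finite filtration with killed subquotients.
-/

set_option autoImplicit false
set_option backward.defeqAttrib.useBackward true
set_option backward.isDefEq.respectTransparency false
set_option backward.isDefEq.respectTransparency.types false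
set_option linter.style.haveILetI false

universe u

open CategoryTheory CategoryTheory.Limits AlgebraicGeometry Topology Opposite
open Groth.L00 Groth.L00.StalkTensor Groth.L00.PullStalk
open Groth.L00.Tensor (pre)

namespace Groth.L29.SuppFilt

variable {X Z : Scheme.{u}} (i : Z ⟶ X) [IsClosedImmersion i]

/-- coherent and supported in the subscheme -/
def W (M : X.Modules) : Prop := Coh.IsCoh M ∧ ∀ x : X, Nontrivial (M.presheaf.stalk x) → x ∈ Set.range ⇑i

omit [IsClosedImmersion i] in
theorem w_iff (M : X.Modules) : W i M ↔ Coh.IsCoh M ∧ CohB1.support M ⊆ Set.range i :=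
  and_congr_right fun _ => ⟨fun h x hx => h x (not_subsingleton_iff_nontrivial.1 hx),
    fun h x hx => h (not_subsingleton_iff_nontrivial.2 hx)⟩

theorem support_sigma (M : ℕ → X.Modules) : CohB1.support (∐ M) ⊆ ⋃ k, CohB1.support (M k) := by
  intro x hx
  by_contra h
  rw [Set.mem_iUnion, not_exists] at h
  refine hx ?_
  haveI : PreservesColimitsOfSize.{0, 0} (Groth.L00.Stk.F X x) := preservesColimitsOfSize_shrink.{0, u, 0, u} _
  have hz : ∀ k, IsZero ((Groth.L00.Stk.F X x).obj (M k)) := fun k => by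
    haveI : Subsingleton ((Groth.L00.Stk.F X x).obj (M k)) := not_not.1 (h k)
    exact ModuleCat.isZero_of_subsingleton _
  have hzc : IsZero (∐ fun k => (Groth.L00.Stk.F X x).obj (M k)) := by
    rw [IsZero.iff_id_eq_zero]
    ext k : 1
    exact (hz k).eq_of_src _ _
  exact ModuleCat.subsingleton_of_isZero (hzc.of_iso (PreservesCoproduct.iso (Groth.L00.Stk.F X x) M))

theorem isCoh_sigma [IsLocallyNoetherian X] {M : ℕ → X.Modules} (h : Groth.L29.DevLF.LF CohB1.support M)
    (hM : ∀ k, Coh.IsCoh (M k)) : Coh.IsCoh (∐ M) := by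
  refine Groth.L29.DC.RHomC.isCoh_of_cover fun x => ?_
  obtain ⟨U, hU, n, hn⟩ := h x
  obtain ⟨V, hVU, hV, hxV⟩ := mem_nhds_iff.1 hU
  let V' : X.Opens := ⟨V, hV⟩
  refine ⟨V', hxV, ?_⟩
  let R := Scheme.Modules.restrictFunctor V'.ι
  haveI : PreservesColimitsOfSize.{u, u} R :=
    (Scheme.Modules.restrictAdjunction V'.ι).leftAdjoint_preservesColimits
  haveI : PreservesColimitsOfSize.{0, 0} R := preservesColimitsOfSize_shrink.{0, u, 0, u} _
  let N : ℕ → (V' : Scheme.{u}).Modules := fun k => R.obj (M k)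
  have hz : ∀ k, n ≤ k → IsZero (N k) := fun k hk => by
    rw [Groth.L21.Mod.isZero_iff_support_eq_empty]
    show CohB1.support ((M k).restrict V'.ι) = ∅
    rw [Groth.L21.Mod.support_restrict]
    refine Set.eq_empty_of_forall_notMem fun y hy => ?_
    exact Set.disjoint_left.1 (hn k hk) (hVU y.2) hy
  haveI : IsLocallyNoetherian (V' : Scheme.{u}) := isLocallyNoetherian_of_isOpenImmersion V'.ι
  let e : (∐ fun j : Fin n => N j) ≅ ∐ N :=
    { hom := Limits.Sigma.desc fun j => Limits.Sigma.ι N j
      inv := Limits.Sigma.desc fun k => if hk : k < n then Limits.Sigma.ι (fun j : Fin n => N j) ⟨k, hk⟩ else 0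
      hom_inv_id := by ext j : 1; simp [j.2]
      inv_hom_id := by
        ext k : 1
        by_cases hk : k < n
        · simp [hk]
        · exact (hz k (not_lt.1 hk)).eq_of_src _ _ }
  exact Groth.L16.CohSupport.isCoh_of_iso (e ≪≫ (PreservesCoproduct.iso R M).symm)
    (Groth.L16.Devissage.isCoh_sigma (fun j : Fin n => N j) fun j => Groth.L29.DC.RHomC.isCoh_restrict _ (hM j))

theorem isIso_app_of_iso {C D : Type*} [Category C] [Category D] {F G : C ⥤ D} (u : F ⟶ G) {A B : C} (e : A ≅ B)
    (h : IsIso (u.app A)) : IsIso (u.app B) := by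
  have h' : u.app B = F.map e.inv ≫ u.app A ≫ G.map e.hom := by
    rw [← u.naturality, ← Category.assoc, ← F.map_comp, e.inv_hom_id, F.map_id, Category.id_comp]
  rw [h']
  infer_instance

/-- the kernel of the unit -/
noncomputable def step (M : X.Modules) : X.Modules :=
  kernel ((Scheme.Modules.pullbackPushforwardAdjunction i).unit.app M)

/-- the filtration -/
noncomputable def seq (M : X.Modules) : ℕ → X.Modules
  | 0 => M
  | k + 1 => step i (seq M k)

/-- its inclusions -/
noncomputable def inc (M : X.Modules) (k : ℕ) : seq i M (k + 1) ⟶ seq i M k :=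
  kernel.ι ((Scheme.Modules.pullbackPushforwardAdjunction i).unit.app (seq i M k))

instance mono_inc (M : X.Modules) (k : ℕ) : Mono (inc i M k) :=
  inferInstanceAs (Mono (kernel.ι _))

/-- the unit is an epimorphism -/
theorem epi_unit (M : X.Modules) : Epi ((Scheme.Modules.pullbackPushforwardAdjunction i).unit.app M) := by
  refine (Groth.L21.Mod.epi_iff_stalk _).2 fun x => ?_
  refine (AddCommGrpCat.epi_iff_surjective _).2 ?_
  show Function.Surjective ((Groth.L00.Stk.F X x).map ((Scheme.Modules.pullbackPushforwardAdjunction i).unit.app M))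
  by_cases hx : x ∈ Set.range i
  · obtain ⟨z, rfl⟩ := hx
    intro p
    obtain ⟨q, hq⟩ := Groth.L17.ClosedPush.unit_extend_surjective i z _
      (((stalkIso i z).hom.app M) (Groth.L17.ClosedPush.c₀ i _ z p))
    refine ⟨q, (Groth.L17.ClosedPush.c₀_bijective i _ z).1 ?_⟩
    apply (ConcreteCategory.bijective_of_isIso ((stalkIso i z).hom.app M)).1
    exact (Groth.L17.ClosedPush.stalkIso_unit i M z q).trans hq
  · intro p
    refine ⟨(0 : (Groth.L00.Stk.F X x).obj M), ?_⟩
    exact @Subsingleton.elim _ (show Subsingleton ((Groth.L00.Stk.F X x).obj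
        ((Scheme.Modules.pushforward i).obj ((Scheme.Modules.pullback i).obj M))) from
      Groth.L17.ClosedPush.subsingleton_stalk_push i _ hx) _ _

variable [IsLocallyNoetherian X]

theorem isCoh_pushPull {M : X.Modules} (hM : Coh.IsCoh M) :
    Coh.IsCoh ((Scheme.Modules.pushforward i).obj ((Scheme.Modules.pullback i).obj M)) := by
  haveI : IsLocallyNoetherian Z := LocallyOfFiniteType.isLocallyNoetherian i
  exact Groth.L16.CohClosedPush.isCoh_push i (Groth.L16.AffineBC.isCoh_pullback i hM)

theorem isCoh_seq {M : X.Modules} (hM : Coh.IsCoh M) : ∀ k, Coh.IsCoh (seq i M k)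
  | 0 => hM
  | k + 1 => (Groth.L16.CohKernel.isCoh_kernel_cokernel (isCoh_seq hM k) (isCoh_pushPull i (isCoh_seq hM k)) _).1

omit [IsLocallyNoetherian X] in
theorem support_seq (M : X.Modules) : ∀ k, CohB1.support (seq i M k) ⊆ CohB1.support M
  | 0 => subset_rfl
  | k + 1 => (Groth.L21.Mod.support_mono (inc i M k)).trans (support_seq M k)

theorem a_gr {M : X.Modules} (hM : Coh.IsCoh M) (k : ℕ) : Groth.L29.KcohNil.A i (cokernel (inc i M k)) := by
  let η := (Scheme.Modules.pullbackPushforwardAdjunction i).unit.app (seq i M k)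
  haveI : Epi η := epi_unit i _
  let e : cokernel (inc i M k) ≅
      (Scheme.Modules.pushforward i).obj ((Scheme.Modules.pullback i).obj (seq i M k)) :=
    (cokernelIsCokernel (kernel.ι η)).coconePointUniqueUpToIso (Abelian.epiIsCokernelOfKernel (KernelFork.ofι (kernel.ι η) (kernel.condition η)) (kernelIsKernel η))
  refine ⟨Groth.L16.CohSupport.isCoh_of_iso e.symm (isCoh_pushPull i (isCoh_seq i hM k)), ?_⟩
  exact isIso_app_of_iso _ e.symm (Groth.L29.KcohNil.isIso_unit_push i _)

/-- into the module -/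
noncomputable def cinc (M : X.Modules) : ∀ k, seq i M k ⟶ M
  | 0 => 𝟙 _
  | k + 1 => inc i M k ≫ cinc M k

omit [IsLocallyNoetherian X] in
theorem mono_cinc (M : X.Modules) : ∀ k, Mono (cinc i M k)
  | 0 => inferInstanceAs (Mono (𝟙 M))
  | k + 1 => by haveI := mono_cinc M k; unfold cinc; exact mono_comp _ _

/-- if `1 ⊗ m = 0` after a surjective change of rings, `m` is in the kernel times the module -/
theorem mem_smul_of_mk_one {R S M : Type u} [CommRing R] [CommRing S] [Algebra R S] [AddCommGroup M] [Module R M]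
    (hs : Function.Surjective (algebraMap R S)) {m : M} (hm : TensorProduct.mk R S M 1 m = 0) :
    m ∈ RingHom.ker (algebraMap R S) • (⊤ : Submodule R M) := by
  let N : Submodule R M := RingHom.ker (algebraMap R S) • ⊤
  rw [← Submodule.Quotient.mk_eq_zero]
  refine Groth.L17.KilledUnit.injective_mk_one (M := M ⧸ N) hs (fun r hr x => ?_) ?_
  · obtain ⟨y, rfl⟩ := Submodule.Quotient.mk_surjective N x
    rw [← Submodule.Quotient.mk_smul, Submodule.Quotient.mk_eq_zero]
    exact Submodule.smul_mem_smul hr trivial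
  · have h := congrArg (N.mkQ.lTensor S) hm
    rw [map_zero] at h
    simpa using h

omit [IsLocallyNoetherian X] in
/-- the image of the filtration in a stalk -/
theorem stalk_seq_mem (M : X.Modules) (z : Z) : ∀ (k : ℕ) (q : (Groth.L00.Stk.F X (i z)).obj (seq i M k)),
    (Groth.L00.Stk.F X (i z)).map (cinc i M k) q ∈
      (RingHom.ker (φ i z) ^ k : Ideal (X.presheaf.stalk (i z))) • (⊤ : Submodule (X.presheaf.stalk (i z)) ((Groth.L00.Stk.F X (i z)).obj M))
  | 0, q => by rw [pow_zero, Ideal.one_eq_top, Submodule.top_smul]; trivial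
  | k + 1, q => by
    haveI : (Groth.L00.Stk.F X (i z)).PreservesZeroMorphisms :=
      Functor.preservesZeroMorphisms_of_map_zero_object (Groth.L00.Stk.F X (i z)).mapZeroObject
    let η := (Scheme.Modules.pullbackPushforwardAdjunction i).unit.app (seq i M k)
    let p : (Groth.L00.Stk.F X (i z)).obj (seq i M k) := (Groth.L00.Stk.F X (i z)).map (inc i M k) q
    have hp : (Groth.L00.Stk.F X (i z)).map η p = 0 := by
      show ((Groth.L00.Stk.F X (i z)).map (inc i M k) ≫ (Groth.L00.Stk.F X (i z)).map η) q = 0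
      rw [← Functor.map_comp, show inc i M k ≫ η = 0 from kernel.condition _, Functor.map_zero]
      rfl
    have hu : (ModuleCat.extendRestrictScalarsAdj (φ i z)).unit.app ((Groth.L00.Stk.F X (i z)).obj (seq i M k)) p = 0 := by
      refine (Groth.L17.ClosedPush.stalkIso_unit i (seq i M k) z p).symm.trans ?_
      refine (congrArg (fun t => ((stalkIso i z).hom.app (seq i M k)) (Groth.L17.ClosedPush.c₀ i _ z t)) hp).trans ?_
      simp
      exact map_zero _
    have hmem : p ∈ RingHom.ker (φ i z) • (⊤ : Submodule (X.presheaf.stalk (i z)) ((Groth.L00.Stk.F X (i z)).obj (seq i M k))) := by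
      letI := (φ i z).toAlgebra
      exact mem_smul_of_mk_one (R := X.presheaf.stalk (i z)) (S := Z.presheaf.stalk z)
        (Groth.L17.ClosedPush.φ_surjective i z) hu
    rw [cinc, Functor.map_comp, ModuleCat.comp_apply]
    refine Submodule.smul_induction_on (p := fun t => (Groth.L00.Stk.F X (i z)).map (cinc i M k) t ∈ (RingHom.ker (φ i z) ^ (k + 1) : Ideal (X.presheaf.stalk (i z))) • (⊤ : Submodule (X.presheaf.stalk (i z)) ((Groth.L00.Stk.F X (i z)).obj M))) hmem (fun r hr y _ => ?_) fun a b ha hb => ?_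
    · rw [map_smul, pow_succ', Submodule.mul_smul]
      exact Submodule.smul_mem_smul hr (stalk_seq_mem M z k y)
    · rw [map_add]
      exact add_mem ha hb

omit [IsClosedImmersion i] in
theorem map_annihilator_smul {M : X.Modules} (hM : Coh.IsCoh M) {U : X.Opens} (hU : IsAffineOpen U) {x : X}
    (hx : x ∈ U) {r : X.presheaf.stalk x}
    (hr : r ∈ (Module.annihilator Γ(X, U) Γ(M, U)).map (X.presheaf.germ U x hx).hom)
    (q : (Groth.L00.Stk.F X x).obj M) : r • q = 0 := by
  haveI : Coh.IsQCoh M := hM.1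
  refine Submodule.span_induction ?_ (zero_smul _ _) (fun a b _ _ ha hb => by rw [add_smul, ha, hb, add_zero])
    (fun a b _ hb => by rw [smul_eq_mul, mul_smul, hb, smul_zero]) hr
  rintro _ ⟨a, ha, rfl⟩
  letI := Groth.L20.ModStalk.stalkModule M hx
  haveI := Groth.L20.ModStalk.isLocalizedModule_germ M hU hx
  letI := X.presheaf.algebra_section_stalk ⟨x, hx⟩
  haveI := hU.isLocalization_stalk ⟨x, hx⟩
  obtain ⟨⟨m, s⟩, hs⟩ := IsLocalizedModule.surj (hU.primeIdealOf ⟨x, hx⟩).asIdeal.primeCompl
    (Groth.L20.ModStalk.germₗ M hx) q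
  have hsu : IsUnit (X.presheaf.germ U x hx s.1) := IsLocalization.map_units (X.presheaf.stalk x) s
  rw [← hsu.smul_eq_zero, smul_comm]
  refine (congrArg _ (show (X.presheaf.germ U x hx s : X.presheaf.stalk x) • q =
    Groth.L20.ModStalk.germₗ M hx m from hs)).trans ?_
  refine (Groth.L20.ModStalk.germ_smul M hx a m).symm.trans ?_
  rw [Module.mem_annihilator.1 ha m]
  exact map_zero _

theorem exists_pow_kills {M : X.Modules} (hM : Coh.IsCoh M) (hs : CohB1.support M ⊆ Set.range i) (z : Z) :
    ∃ n, ∀ r ∈ RingHom.ker (φ i z) ^ n, ∀ q : (Groth.L00.Stk.F X (i z)).obj M, r • q = 0 := by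
  obtain ⟨_, ⟨U, hU, rfl⟩, hxU, -⟩ :=
    X.isBasis_affineOpens.exists_subset_of_mem_open (Set.mem_univ (i z)) isOpen_univ
  let J := Groth.L16.SchSupport.annIdeal hM
  have hle : i.ker ≤ J.radical := by
    rw [← Scheme.IdealSheafData.vanishingIdeal_support]
    refine Scheme.IdealSheafData.le_support_iff_le_vanishingIdeal.1 ?_
    intro x hx
    show x ∈ (i.ker.support : Set X)
    rw [Scheme.Hom.support_ker, i.isClosedEmbedding.isClosed_range.closure_eq]
    exact hs ((Groth.L16.SchSupport.mem_support_annIdeal hM x).1 hx)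
  haveI : IsNoetherianRing Γ(X, U) := IsLocallyNoetherian.component_noetherian ⟨U, hU⟩
  obtain ⟨n, hn⟩ := Ideal.exists_pow_le_of_le_radical_of_fg (hle ⟨U, hU⟩)
    (IsNoetherian.noetherian (i.ker.ideal ⟨U, hU⟩))
  refine ⟨n, fun r hr q => map_annihilator_smul hM hU hxU (Ideal.map_mono hn ?_) q⟩
  rw [Ideal.map_pow]
  refine Ideal.pow_right_mono ?_ n hr
  intro r hr
  letI := X.presheaf.algebra_section_stalk ⟨i z, hxU⟩
  haveI := hU.isLocalization_stalk ⟨i z, hxU⟩
  have hzU : z ∈ i ⁻¹ᵁ U := hxU
  have hV : IsAffineOpen (i ⁻¹ᵁ U) := hU.preimage i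
  letI := Z.presheaf.algebra_section_stalk ⟨z, hzU⟩
  haveI := hV.isLocalization_stalk ⟨z, hzU⟩
  obtain ⟨⟨a, t⟩, hat⟩ := IsLocalization.surj (hU.primeIdealOf ⟨i z, hxU⟩).asIdeal.primeCompl r
  have hφa : algebraMap Γ(Z, i ⁻¹ᵁ U) (Z.presheaf.stalk z) (i.app U a) = 0 := by
    refine (Scheme.Hom.germ_stalkMap_apply i U z hxU a).symm.trans ?_
    show φ i z (algebraMap Γ(X, U) (X.presheaf.stalk (i z)) a) = (0 : Z.presheaf.stalk z)
    rw [← hat, map_mul, RingHom.mem_ker.1 hr, zero_mul]
  obtain ⟨c, hc⟩ := (IsLocalization.map_eq_zero_iff (hV.primeIdealOf ⟨z, hzU⟩).asIdeal.primeCompl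
    (Z.presheaf.stalk z) (i.app U a)).1 hφa
  obtain ⟨b, hb⟩ := i.app_surjective U hU c.1
  have hbu : IsUnit (X.presheaf.germ U (i z) hxU b) := by
    refine isUnit_of_map_unit (i.stalkMap z).hom _ ?_
    rw [show (i.stalkMap z).hom (X.presheaf.germ U (i z) hxU b) = Z.presheaf.germ (i ⁻¹ᵁ U) z hzU (i.app U b) from
      Scheme.Hom.germ_stalkMap_apply i U z hxU b, hb]
    exact IsLocalization.map_units (Z.presheaf.stalk z) c
  have hba : b * a ∈ i.ker.ideal ⟨U, hU⟩ := by
    rw [Scheme.Hom.ker_apply, RingHom.mem_ker, map_mul]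
    exact (congrArg (· * _) hb).trans hc
  have ht : IsUnit (X.presheaf.germ U (i z) hxU t.1) := IsLocalization.map_units (X.presheaf.stalk (i z)) t
  refine (Ideal.mul_unit_mem_iff_mem _ (ht.mul hbu)).1 ?_
  have hat' : r * X.presheaf.germ U (i z) hxU t.1 = X.presheaf.germ U (i z) hxU a := hat
  rw [← mul_assoc, hat', ← map_mul, mul_comm a b]
  exact Ideal.mem_map_of_mem _ hba

/-- the filtration is locally finite -/
theorem lf_seq {M : X.Modules} (hM : W i M) : Groth.L29.DevLF.LF CohB1.support (seq i M) := by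
  intro x
  have hs := ((w_iff i M).1 hM).2
  by_cases hx : x ∈ Set.range i
  swap
  · refine ⟨(Set.range i)ᶜ, i.isClosedEmbedding.isClosed_range.isOpen_compl.mem_nhds hx, 0, fun k _ => ?_⟩
    exact Set.disjoint_left.2 fun y hy hy' => hy (hs (support_seq i M k hy'))
  obtain ⟨z, rfl⟩ := hx
  obtain ⟨n, hn⟩ := exists_pow_kills i hM.1 hs z
  have hc := Groth.L16.CohSupport.isClosed_support (seq i M n) (isCoh_seq i hM.1 n).2
  refine ⟨(CohB1.support (seq i M n))ᶜ, hc.isOpen_compl.mem_nhds (not_not.2 ?_), n, fun k hk => ?_⟩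
  · show Subsingleton ((Groth.L00.Stk.F X (i z)).obj (seq i M n))
    refine subsingleton_of_forall_eq 0 fun q => ?_
    have hinj : Function.Injective ((Groth.L00.Stk.F X (i z)).map (cinc i M n)) :=
      (AddCommGrpCat.mono_iff_injective _).1 ((Groth.L21.Mod.mono_iff_stalk (cinc i M n)).1 (mono_cinc i M n) (i z))
    apply hinj
    rw [map_zero]
    refine Submodule.smul_induction_on (stalk_seq_mem i M z n q) (fun r hr y _ => hn r hr y)
      fun a b ha hb => ?_
    rw [ha, hb, add_zero]
  · have hsub : CohB1.support (seq i M k) ⊆ CohB1.support (seq i M n) := by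
      induction k, hk using Nat.le_induction with
      | base => exact subset_rfl
      | succ k _ ih => exact (Groth.L21.Mod.support_mono (inc i M k)).trans ih
    exact Set.disjoint_left.2 fun y hy hy' => hy (hsub hy')

end Groth.L29.SuppFilt
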