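import Groth.Agent.L29.K.Sub
import Mathlib.CategoryTheory.Abelian.Refinements
import Mathlib.CategoryTheory.Abelian.Images
import Mathlib.CategoryTheory.Abelian.GrothendieckAxioms.Basic
import Mathlib.Topology.Constructions

/-!
Dévissage for `K₀` along filtrations which are only locally finite.
-/

set_option autoImplicit false
set_option backward.defeqAttrib.useBackward true
set_option backward.isDefEq.respectTransparency false
set_option linter.style.haveILetI false

universe v u w

open CategoryTheory CategoryTheory.Limits Topology ZeroObject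

namespace Groth.L29.DevLF

variable {C : Type u} [Category.{v} C] [Abelian C] {T : Type w} [TopologicalSpace T] {G : Type*} [AddCommGroup G]
  [HasColimitsOfShape (Discrete ℕ) C] [HasExactColimitsOfShape (Discrete ℕ) C]

/-- sums of short exact sequences are short exact -/
theorem sigma_shortExact {X Y Z : ℕ → C} (a : ∀ k, X k ⟶ Y k) (b : ∀ k, Y k ⟶ Z k) (w : ∀ k, a k ≫ b k = 0)
    (h : ∀ k, (ShortComplex.mk (a k) (b k) (w k)).ShortExact) :
    ∃ w' : Limits.Sigma.map a ≫ Limits.Sigma.map b = 0, (ShortComplex.mk (Limits.Sigma.map a) (Limits.Sigma.map b) w').ShortExact := by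
  haveI := fun k => (h k).mono_f
  haveI := fun k => (h k).epi_g
  have w' : Limits.Sigma.map a ≫ Limits.Sigma.map b = 0 := by
    ext k
    simp [reassoc_of% (w k)]
  refine ⟨w', ?_⟩
  haveI : Mono (Limits.Sigma.map a) := by
    haveI : Mono (Discrete.natTrans (fun j : Discrete ℕ => a j.as) :
        Discrete.functor X ⟶ Discrete.functor Y) := by
      haveI : ∀ j : Discrete ℕ, Mono ((Discrete.natTrans (fun j : Discrete ℕ => a j.as) :
          Discrete.functor X ⟶ Discrete.functor Y).app j) := fun j => (h j.as).mono_f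
      exact NatTrans.mono_of_mono_app _
    haveI : (colim (J := Discrete ℕ) (C := C)).PreservesMonomorphisms := inferInstance
    exact (colim (J := Discrete ℕ) (C := C)).map_mono
      (Discrete.natTrans (fun j : Discrete ℕ => a j.as) : Discrete.functor X ⟶ Discrete.functor Y)
  haveI : Epi (Limits.Sigma.map b) := by
    refine ⟨fun p q hpq => ?_⟩
    ext k
    rw [← cancel_epi (b k)]
    simpa using congrArg (fun t => Limits.Sigma.ι Y k ≫ t) hpq
  exact { exact := ShortComplex.exact_of_g_is_cokernel _ <| CokernelCofork.IsColimit.ofπ' _ _ fun {W} t ht =>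
    ⟨Limits.Sigma.desc fun k => (h k).exact.desc (Limits.Sigma.ι Y k ≫ t)
        (by simpa using congrArg (fun s => Limits.Sigma.ι X k ≫ s) ht),
      Limits.Sigma.hom_ext _ _ fun k => by simpa using (h k).exact.g_desc _ _⟩ }

/-- a family vanishes eventually near every point -/
def LF (supp : C → Set T) (M : ℕ → C) : Prop :=
  ∀ x : T, ∃ U ∈ 𝓝 x, ∃ n, ∀ k, n ≤ k → Disjoint U (supp (M k))

theorem LF.mono {supp : C → Set T} {M N : ℕ → C} (h : LF supp N) (hs : ∀ k, supp (M k) ⊆ supp (N k)) :
    LF supp M := fun x => by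
  obtain ⟨U, hU, n, hn⟩ := h x
  exact ⟨U, hU, n, fun k hk => (hn k hk).mono_right (hs k)⟩

theorem LF.shift {supp : C → Set T} {M : ℕ → C} (h : LF supp M) : LF supp (fun k => M (k + 1)) := fun x => by
  obtain ⟨U, hU, n, hn⟩ := h x
  exact ⟨U, hU, n, fun k hk => hn _ (hk.trans k.le_succ)⟩

/-- the hypotheses -/
structure Data (W A : C → Prop) (supp : C → Set T) (f : C → G) : Prop where
  w_zero {X : C} : IsZero X → W X
  w_iso {X Y : C} : (X ≅ Y) → W X → W Y
  w_pullback {X Y Z : C} (a : X ⟶ Z) (b : Y ⟶ Z) : W X → W Y → W Z → W (pullback a b)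
  w_image {X Y : C} (a : X ⟶ Y) : W X → W Y → W (Abelian.image a)
  w_coker {X Y : C} (a : X ⟶ Y) : W X → W Y → W (cokernel a)
  w_sigma {M : ℕ → C} : LF supp M → (∀ k, W (M k)) → W (∐ M)
  a_w {X : C} : A X → W X
  a_sub {S : ShortComplex C} : S.ShortExact → A S.X₂ → W S.X₁ → A S.X₁ ∧ A S.X₃
  a_sigma {M : ℕ → C} : LF supp M → (∀ k, A (M k)) → A (∐ M)
  s_mono {X Y : C} (a : X ⟶ Y) : Mono a → supp X ⊆ supp Y
  s_epi {X Y : C} (a : X ⟶ Y) : Epi a → supp Y ⊆ supp X
  s_sigma (M : ℕ → C) : supp (∐ M) ⊆ ⋃ k, supp (M k)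
  f_add {S : ShortComplex C} : S.ShortExact → A S.X₁ → A S.X₂ → A S.X₃ → f S.X₂ = f S.X₁ + f S.X₃

variable {W A : C → Prop} {supp : C → Set T} {f : C → G}

theorem a_iso (D : Data W A supp f) {X Y : C} (e : X ≅ Y) (h : A X) : A Y := by
  have h0 := isZero_zero C
  have hs : (ShortComplex.mk (h0.to_ X) e.hom (h0.eq_of_src _ _)).ShortExact :=
    Groth.L29.KSub.shortExact_of_iso e h0
  exact (D.a_sub hs h (D.w_zero h0)).2

theorem f_iso (D : Data W A supp f) {X Y : C} (e : X ≅ Y) (h : A X) : f X = f Y := by
  have h0 := isZero_zero C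
  have hs : (ShortComplex.mk (h0.to_ X) e.hom (h0.eq_of_src _ _)).ShortExact :=
    Groth.L29.KSub.shortExact_of_iso e h0
  have hA0 := (D.a_sub hs h (D.w_zero h0)).1
  have := D.f_add (Groth.L29.KSub.shortExact_of_iso (Iso.refl (0 : C)) h0) hA0 hA0 hA0
  dsimp only at this
  rw [left_eq_add] at this
  rw [D.f_add hs hA0 h (a_iso D e h), this, zero_add]

/-- telescoping -/
theorem telescope {K : Type*} [AddCommGroup K] (P : C → Prop) (φ : C → K)
    (hadd : ∀ {S : ShortComplex C}, S.ShortExact → P S.X₁ → P S.X₂ → P S.X₃ → φ S.X₂ = φ S.X₁ + φ S.X₃)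
    (obj : ℕ → C) (ι : ∀ k, obj (k + 1) ⟶ obj k) (hι : ∀ k, Mono (ι k)) (h0 : P (obj 0)) (h1 : P (∐ obj))
    (h2 : P (∐ fun k => obj (k + 1))) (h3 : P (∐ fun k => cokernel (ι k))) :
    φ (obj 0) = φ (∐ fun k => cokernel (ι k)) := by
  obtain ⟨w', hs⟩ := sigma_shortExact ι (fun k => cokernel.π (ι k)) (fun k => cokernel.condition _) fun k =>
    haveI := hι k
    { exact := ShortComplex.exact_cokernel _ }
  let j : (∐ fun k => obj (k + 1)) ⟶ ∐ obj := Limits.Sigma.desc fun k => Limits.Sigma.ι obj (k + 1)
  let p : ∐ obj ⟶ obj 0 := Limits.Sigma.desc fun k => match k with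
    | 0 => 𝟙 _
    | _ + 1 => 0
  let r : ∐ obj ⟶ ∐ fun k => obj (k + 1) := Limits.Sigma.desc fun k => match k with
    | 0 => 0
    | m + 1 => Limits.Sigma.ι (fun k => obj (k + 1)) m
  have hsp : (ShortComplex.mk j p (by ext k; simp [j, p])).ShortExact :=
    (ShortComplex.Splitting.mk r (Limits.Sigma.ι obj 0) (by ext k; simp [j, r]) (by simp [p]) (by
      dsimp only
      refine Limits.Sigma.hom_ext _ _ fun k => ?_
      match k with
      | 0 => simp [r, p]
      | m + 1 => simp [r, p, j])).shortExact
  have e1 := hadd hs h2 h1 h3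
  have e2 := hadd hsp h2 h1 h0
  dsimp only at e1 e2
  exact add_left_cancel (e2.symm.trans e1)

variable (W A supp)

/-- a locally finite filtration with subquotients in `A` -/
structure Fil (M : C) where
  /-- the steps -/
  obj : ℕ → C
  /-- the inclusions -/
  ι : ∀ k, obj (k + 1) ⟶ obj k
  /-- the start -/
  e : obj 0 ≅ M
  mono : ∀ k, Mono (ι k)
  w : ∀ k, W (obj k)
  lf : LF supp obj
  a : ∀ k, A (cokernel (ι k))

variable {W A supp}

namespace Fil

variable {M : C} (F : Fil W A supp M)

attribute [instance] Fil.mono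

/-- the graded pieces -/
noncomputable abbrev gr (k : ℕ) : C := cokernel (F.ι k)

/-- the inclusion in the module -/
def incl : ∀ k, F.obj k ⟶ M
  | 0 => F.e.hom
  | k + 1 => F.ι k ≫ incl k

instance mono_incl : ∀ k, Mono (F.incl k)
  | 0 => by unfold incl; infer_instance
  | k + 1 => by haveI := mono_incl k; unfold incl; infer_instance

instance isIso_incl_zero : IsIso (F.incl 0) := by unfold incl; infer_instance

theorem lf_gr (D : Data W A supp f) : LF supp F.gr := F.lf.mono fun k => D.s_epi (cokernel.π (F.ι k)) inferInstance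

theorem a_gr (D : Data W A supp f) : A (∐ F.gr) := D.a_sigma (F.lf_gr D) F.a

end Fil

/-- the value -/
noncomputable def val (f : C → G) {M : C} (F : Fil W A supp M) : G := f (∐ F.gr)

theorem val_eq_of_mem (D : Data W A supp f) {M : C} (F : Fil W A supp M) (hM : A M) : val f F = f M := by
  have hobj : ∀ k, A (F.obj k) := fun k =>
    (D.a_sub (S := ShortComplex.mk (F.incl k) (cokernel.π _) (cokernel.condition _))
      { exact := ShortComplex.exact_cokernel _ } hM (F.w k)).1
  refine Eq.trans ?_ (f_iso D F.e (hobj 0))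
  exact (telescope A f D.f_add F.obj F.ι F.mono (hobj 0) (D.a_sigma F.lf hobj)
    (D.a_sigma F.lf.shift fun k => hobj (k + 1)) (F.a_gr D)).symm

section Schreier

variable {M : C} (F E : Fil W A supp M)

/-- intersections -/
noncomputable abbrev I (k l : ℕ) : C := pullback (F.incl k) (E.incl l)

/-- decreasing the first index -/
noncomputable def hI (k l : ℕ) : I F E (k + 1) l ⟶ I F E k l :=
  pullback.lift (pullback.fst _ _ ≫ F.ι k) (pullback.snd _ _) (by rw [Category.assoc]; exact pullback.condition)

/-- decreasing the second index -/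
noncomputable def vI (k l : ℕ) : I F E k (l + 1) ⟶ I F E k l :=
  pullback.lift (pullback.fst _ _) (pullback.snd _ _ ≫ E.ι l) (by rw [Category.assoc]; exact pullback.condition)

/-- common refinement -/
noncomputable abbrev Q (k l : ℕ) : C := cokernel (biprod.desc (hI F E k l) (vI F E k l))

/-- to the graded piece -/
noncomputable def π (k l : ℕ) : I F E k l ⟶ F.gr k := pullback.fst _ _ ≫ cokernel.π (F.ι k)

theorem vI_π (k l : ℕ) : vI F E k l ≫ π F E k l = π F E k (l + 1) := by simp [vI, π]

/-- the induced filtration of the graded piece -/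
noncomputable abbrev Gf (k l : ℕ) : C := Abelian.image (π F E k l)

/-- its inclusions -/
noncomputable def gmap (k l : ℕ) : Gf F E k (l + 1) ⟶ Gf F E k l :=
  kernel.lift _ (Abelian.image.ι (π F E k (l + 1))) (by
    rw [← cancel_epi (Abelian.factorThruImage (π F E k (l + 1))), comp_zero, ← Category.assoc, Abelian.image.fac,
      ← vI_π, Category.assoc, cokernel.condition, comp_zero])

theorem gmap_ι (k l : ℕ) : gmap F E k l ≫ Abelian.image.ι (π F E k l) = Abelian.image.ι (π F E k (l + 1)) :=
  kernel.lift_ι _ _ _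

instance mono_gmap (k l : ℕ) : Mono (gmap F E k l) := mono_of_mono_fac (gmap_ι F E k l)

theorem fac_gmap (k l : ℕ) : Abelian.factorThruImage (π F E k (l + 1)) ≫ gmap F E k l =
    vI F E k l ≫ Abelian.factorThruImage (π F E k l) := by
  rw [← cancel_mono (Abelian.image.ι (π F E k l)), Category.assoc, gmap_ι, Abelian.image.fac, Category.assoc,
    Abelian.image.fac, vI_π]

theorem exists_qiso (k l : ℕ) : Nonempty (cokernel (gmap F E k l) ≅ Q F E k l) := by
  let p : I F E k l ⟶ cokernel (gmap F E k l) := Abelian.factorThruImage (π F E k l) ≫ cokernel.π _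
  have hp : biprod.desc (hI F E k l) (vI F E k l) ≫ p = 0 := by
    apply biprod.hom_ext'
    · rw [biprod.inl_desc_assoc, comp_zero]
      have : hI F E k l ≫ Abelian.factorThruImage (π F E k l) = 0 := by
        rw [← cancel_mono (Abelian.image.ι (π F E k l)), Category.assoc, Abelian.image.fac, zero_comp]
        simp [hI, π]
      rw [← Category.assoc, this, zero_comp]
    · rw [biprod.inr_desc_assoc, comp_zero, ← Category.assoc, ← fac_gmap, Category.assoc, cokernel.condition,
        comp_zero]
  have hker : kernel.ι (π F E k l) ≫ cokernel.π (biprod.desc (hI F E k l) (vI F E k l)) = 0 := by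
    have he : (ShortComplex.mk (F.ι k) (cokernel.π (F.ι k)) (cokernel.condition _)).Exact :=
      ShortComplex.exact_cokernel _
    let a := he.lift (kernel.ι (π F E k l) ≫ pullback.fst _ _) (by
      rw [Category.assoc]; exact kernel.condition (π F E k l))
    have ha : a ≫ F.ι k = kernel.ι (π F E k l) ≫ pullback.fst _ _ := he.lift_f _ _
    let b : kernel (π F E k l) ⟶ I F E (k + 1) l :=
      pullback.lift a (kernel.ι (π F E k l) ≫ pullback.snd _ _) (by
        show a ≫ F.ι k ≫ F.incl k = _
        rw [reassoc_of% ha, Category.assoc, pullback.condition])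
    have hb : b ≫ hI F E k l = kernel.ι (π F E k l) := by
      apply pullback.hom_ext <;> simp [b, hI, ha]
    rw [← hb, Category.assoc, ← biprod.inl_desc_assoc (hI F E k l) (vI F E k l), cokernel.condition, comp_zero,
      comp_zero]
  haveI : Epi (Abelian.factorThruImage (π F E k l)) := inferInstance
  have hse : (ShortComplex.mk (kernel.ι (π F E k l)) (Abelian.factorThruImage (π F E k l))
      (by rw [← cancel_mono (Abelian.image.ι (π F E k l)), Category.assoc, Abelian.image.fac, kernel.condition,
        zero_comp])).Exact :=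
    ShortComplex.exact_of_f_is_kernel _ <| KernelFork.IsLimit.ofι' _ _ fun {V} t ht =>
      ⟨kernel.lift _ t (by
        rw [← Abelian.image.fac (π F E k l), ← Category.assoc]
        exact (congrArg (· ≫ _) ht).trans zero_comp), kernel.lift_ι _ _ _⟩
  let q : Gf F E k l ⟶ Q F E k l := hse.desc (cokernel.π _) hker
  have hq : Abelian.factorThruImage (π F E k l) ≫ q = cokernel.π _ := hse.g_desc _ _
  refine ⟨{ hom := cokernel.desc _ q ?_, inv := cokernel.desc _ p hp, hom_inv_id := ?_, inv_hom_id := ?_ }⟩
  · rw [← cancel_epi (Abelian.factorThruImage (π F E k (l + 1))), comp_zero, ← Category.assoc, fac_gmap,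
      Category.assoc, hq, ← biprod.inr_desc_assoc (hI F E k l) (vI F E k l), cokernel.condition, comp_zero]
  · rw [← cancel_epi (cokernel.π _), cokernel.π_desc_assoc, Category.comp_id,
      ← cancel_epi (Abelian.factorThruImage (π F E k l)), reassoc_of% hq, cokernel.π_desc]
  · rw [← cancel_epi (cokernel.π _), cokernel.π_desc_assoc, Category.comp_id, Category.assoc, cokernel.π_desc, hq]

/-- symmetry of the refinement -/
theorem exists_qswap (k l : ℕ) : Nonempty (Q F E k l ≅ Q E F l k) := by
  refine ⟨cokernel.mapIso _ _ (biprod.mapIso (pullbackSymmetry _ _) (pullbackSymmetry _ _) ≪≫ biprod.braiding _ _)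
    (pullbackSymmetry _ _) ?_⟩
  apply biprod.hom_ext' <;> apply pullback.hom_ext <;> simp [hI, vI]

theorem w_I (D : Data W A supp f) (hM : W M) (k l : ℕ) : W (I F E k l) := D.w_pullback _ _ (F.w k) (E.w l) hM

theorem a_G (D : Data W A supp f) (hM : W M) (k l : ℕ) : A (Gf F E k l) :=
  (D.a_sub (S := ShortComplex.mk (Abelian.image.ι (π F E k l)) (cokernel.π _) (kernel.condition _))
    { exact := ShortComplex.exact_of_f_is_kernel _ (kernelIsKernel _) }
    (F.a k) (D.w_image _ (w_I F E D hM k l) (D.a_w (F.a k)))).1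

theorem a_coker_gmap (D : Data W A supp f) (hM : W M) (k l : ℕ) : A (cokernel (gmap F E k l)) :=
  (D.a_sub (S := ShortComplex.mk (gmap F E k l) (cokernel.π _) (cokernel.condition _))
    { exact := ShortComplex.exact_cokernel _ }
    (a_G F E D hM k l) (D.a_w (a_G F E D hM k (l + 1)))).2

theorem supp_G_fst (D : Data W A supp f) (k l : ℕ) : supp (Gf F E k l) ⊆ supp (F.obj k) :=
  (D.s_epi (Abelian.factorThruImage _) inferInstance).trans (D.s_mono (pullback.fst (F.incl k) (E.incl l)) inferInstance)

theorem supp_G_snd (D : Data W A supp f) (k l : ℕ) : supp (Gf F E k l) ⊆ supp (E.obj l) :=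
  (D.s_epi (Abelian.factorThruImage _) inferInstance).trans (D.s_mono (pullback.snd (F.incl k) (E.incl l)) inferInstance)

theorem val_eq_sigma (D : Data W A supp f) (hM : W M) :
    val f F = f (∐ fun l => ∐ fun k => Q F E k l) := by
  have hG : ∀ l, LF supp (fun k => Gf F E k l) := fun l => F.lf.mono fun k => supp_G_fst F E D k l
  let obj : ℕ → C := fun l => ∐ fun k => Gf F E k l
  let ι : ∀ l, obj (l + 1) ⟶ obj l := fun l => Limits.Sigma.map fun k => gmap F E k l
  have hA : ∀ l, A (obj l) := fun l => D.a_sigma (hG l) fun k => a_G F E D hM k l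
  have hlf : LF supp obj := E.lf.mono fun l =>
    (D.s_sigma _).trans (Set.iUnion_subset fun k => supp_G_snd F E D k l)
  have hcl : ∀ l, LF supp (fun k => cokernel (gmap F E k l)) := fun l =>
    (hG l).mono fun k => D.s_epi (cokernel.π _) inferInstance
  have hses : ∀ l, ∃ w' : ι l ≫ Limits.Sigma.map (fun k => cokernel.π (gmap F E k l)) = 0,
      (ShortComplex.mk (ι l) (Limits.Sigma.map fun k => cokernel.π (gmap F E k l)) w').ShortExact := fun l =>
    sigma_shortExact (fun k => gmap F E k l) (fun k => cokernel.π (gmap F E k l))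
      (fun k => cokernel.condition _) fun k => { exact := ShortComplex.exact_cokernel _ }
  haveI : ∀ l, Mono (ι l) := fun l => (hses l).2.mono_f
  have eC : ∀ l, Nonempty (cokernel (ι l) ≅ ∐ fun k => Q F E k l) := fun l => by
    haveI := (hses l).2.epi_g
    let e := IsColimit.coconePointUniqueUpToIso (cokernelIsCokernel (ι l)) (hses l).2.gIsCokernel
    exact ⟨e ≪≫
      Limits.Sigma.mapIso fun k => (exists_qiso F E k l).some⟩
  have hclf : LF supp (fun l => cokernel (ι l)) := hlf.mono fun l => D.s_epi (cokernel.π _) inferInstance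
  have hca : A (∐ fun l => cokernel (ι l)) := D.a_sigma hclf fun l =>
    (D.a_sub (S := ShortComplex.mk (ι l) (cokernel.π _) (cokernel.condition _))
      { exact := ShortComplex.exact_cokernel _ } (hA l) (D.a_w (hA (l + 1)))).2
  have t := telescope A f D.f_add obj ι inferInstance (hA 0) (D.a_sigma hlf hA)
    (D.a_sigma hlf.shift fun l => hA (l + 1)) hca
  rw [f_iso D (Limits.Sigma.mapIso fun l => (eC l).some) hca] at t
  rw [← t]
  haveI : ∀ k, IsIso (Abelian.image.ι (π F E k 0)) := fun k => by
    haveI : Epi (π F E k 0) := epi_comp _ _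
    haveI : Epi (Abelian.image.ι (π F E k 0)) := epi_of_epi_fac (Abelian.image.fac (π F E k 0))
    exact isIso_of_mono_of_epi _
  exact (f_iso D (Limits.Sigma.mapIso fun k => asIso (Abelian.image.ι (π F E k 0))) (hA 0)).symm

theorem a_Q (D : Data W A supp f) (hM : W M) (k l : ℕ) : A (Q F E k l) :=
  a_iso D (exists_qiso F E k l).some (a_coker_gmap F E D hM k l)

theorem val_unique (D : Data W A supp f) (hM : W M) : val f F = val f E := by
  rw [val_eq_sigma F E D hM, val_eq_sigma E F D hM]
  let e : (∐ fun l => ∐ fun k => Q F E k l) ≅ ∐ fun k => ∐ fun l => Q E F l k :=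
    { hom := Limits.Sigma.desc fun l => Limits.Sigma.desc fun k =>
        (exists_qswap F E k l).some.hom ≫ Limits.Sigma.ι (fun l => Q E F l k) l ≫
          Limits.Sigma.ι (fun k => ∐ fun l => Q E F l k) k
      inv := Limits.Sigma.desc fun k => Limits.Sigma.desc fun l =>
        (exists_qswap F E k l).some.inv ≫ Limits.Sigma.ι (fun k => Q F E k l) k ≫
          Limits.Sigma.ι (fun l => ∐ fun k => Q F E k l) l
      hom_inv_id := by ext l k; simp
      inv_hom_id := by ext k l; simp }
  refine f_iso D e (D.a_sigma (E.lf.mono fun l => (D.s_sigma _).trans (Set.iUnion_subset fun k => ?_))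
    fun l => D.a_sigma (F.lf.mono fun k => ?_) fun k => a_Q F E D hM k l)
  · exact (D.s_epi (cokernel.π _) inferInstance).trans (D.s_mono (pullback.snd (F.incl k) (E.incl l)) inferInstance)
  · exact (D.s_epi (cokernel.π _) inferInstance).trans (D.s_mono (pullback.fst (F.incl k) (E.incl l)) inferInstance)

end Schreier

/-- a filtration of the middle induces filtrations of the ends -/
theorem exists_split (D : Data W A supp f) {S : ShortComplex C} (hS : S.ShortExact) (h₁ : W S.X₁) (h₂ : W S.X₂)
    (h₃ : W S.X₃) (F : Fil W A supp S.X₂) :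
    ∃ (F₁ : Fil W A supp S.X₁) (F₃ : Fil W A supp S.X₃), val f F = val f F₁ + val f F₃ := by
  haveI := hS.mono_f
  haveI := hS.epi_g
  let I : ℕ → C := fun k => pullback S.f (F.incl k)
  let iI : ∀ k, I (k + 1) ⟶ I k := fun k =>
    pullback.lift (pullback.fst _ _) (pullback.snd _ _ ≫ F.ι k) (by rw [Category.assoc]; exact pullback.condition)
  haveI : ∀ k, Mono (iI k) := fun k => mono_of_mono_fac (pullback.lift_fst _ _ _ : iI k ≫ pullback.fst _ _ = _)
  let m : ∀ k, F.obj k ⟶ S.X₃ := fun k => F.incl k ≫ S.g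
  let J : ℕ → C := fun k => Abelian.image (m k)
  let iJ : ∀ k, J (k + 1) ⟶ J k := fun k => kernel.lift _ (Abelian.image.ι (m (k + 1))) (by
    rw [← cancel_epi (Abelian.factorThruImage (m (k + 1))), comp_zero, ← Category.assoc, Abelian.image.fac,
      show m (k + 1) = F.ι k ≫ m k by simp [m, Fil.incl], Category.assoc, cokernel.condition, comp_zero])
  have hiJ : ∀ k, iJ k ≫ Abelian.image.ι (m k) = Abelian.image.ι (m (k + 1)) := fun k => kernel.lift_ι _ _ _
  haveI : ∀ k, Mono (iJ k) := fun k => mono_of_mono_fac (hiJ k)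
  have hfJ : ∀ k, Abelian.factorThruImage (m (k + 1)) ≫ iJ k = F.ι k ≫ Abelian.factorThruImage (m k) := fun k => by
    rw [← cancel_mono (Abelian.image.ι (m k)), Category.assoc, hiJ, Abelian.image.fac, Category.assoc,
      Abelian.image.fac]
    simp [m, Fil.incl]
  -- the sequences of the steps
  have hw : ∀ k, pullback.snd S.f (F.incl k) ≫ Abelian.factorThruImage (m k) = 0 := fun k => by
    rw [← cancel_mono (Abelian.image.ι (m k)), Category.assoc, Abelian.image.fac, zero_comp]
    simp [m, ← pullback.condition_assoc, S.zero]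
  have hrow : ∀ k, (ShortComplex.mk (pullback.snd S.f (F.incl k)) (Abelian.factorThruImage (m k)) (hw k)).ShortExact :=
    fun k => by
      refine { exact := ShortComplex.exact_of_f_is_kernel _ <| KernelFork.IsLimit.ofι' _ _ fun {V} t ht => ?_ }
      have h0 : (t ≫ F.incl k) ≫ S.g = 0 := by
        rw [Category.assoc]
        show t ≫ m k = 0
        exact (congrArg (t ≫ ·) (Abelian.image.fac (m k))).symm.trans
          ((Category.assoc _ _ _).symm.trans ((congrArg (· ≫ _) ht).trans zero_comp))
      exact ⟨pullback.lift (hS.exact.lift _ h0) t (hS.exact.lift_f _ _), pullback.lift_snd _ _ _⟩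
  -- the graded pieces
  let a : ∀ k, cokernel (iI k) ⟶ F.gr k := fun k => cokernel.map _ _ (pullback.snd _ _) (pullback.snd _ _)
    (pullback.lift_snd _ _ _)
  let b : ∀ k, F.gr k ⟶ cokernel (iJ k) := fun k => cokernel.map _ _ (Abelian.factorThruImage (m (k + 1)))
    (Abelian.factorThruImage (m k)) (hfJ k).symm
  have hab : ∀ k, a k ≫ b k = 0 := fun k => by
    rw [← cancel_epi (cokernel.π _)]
    simp [a, b, reassoc_of% (hw k)]
  have hgr : ∀ k, (ShortComplex.mk (a k) (b k) (hab k)).ShortExact := fun k => by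
    haveI : Epi (b k) := by
      haveI : Epi (cokernel.π (F.ι k) ≫ b k) := by
        simp only [b, cokernel.π_desc]
        exact epi_comp _ _
      exact epi_of_epi (cokernel.π (F.ι k)) _
    haveI : Mono (a k) := by
      refine Preadditive.mono_of_cancel_zero _ fun {V} x hx => ?_
      obtain ⟨V', p, hp, y, hy⟩ := surjective_up_to_refinements_of_epi (cokernel.π (iI k)) x
      rw [← cancel_epi p, comp_zero, hy]
      have hz : (y ≫ pullback.snd _ _) ≫ cokernel.π (F.ι k) = 0 := by
        have h := congrArg (p ≫ ·) hx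
        simp only [comp_zero, ← Category.assoc, hy] at h
        simpa [a] using h
      let he := ShortComplex.exact_cokernel (F.ι k)
      let z := he.lift _ hz
      have hz' : z ≫ F.ι k = y ≫ pullback.snd _ _ := he.lift_f _ _
      let q : V' ⟶ I (k + 1) := pullback.lift (y ≫ pullback.fst _ _) z (by
        show _ = z ≫ F.ι k ≫ F.incl k
        rw [reassoc_of% hz', Category.assoc, pullback.condition])
      have hq : q ≫ iI k = y := by apply pullback.hom_ext <;> simp [q, iI, hz']
      rw [← hq, Category.assoc, cokernel.condition, comp_zero]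
    refine { exact := ShortComplex.exact_of_g_is_cokernel _ <| CokernelCofork.IsColimit.ofπ' _ _ fun {V} t ht => ?_ }
    have h1 : pullback.snd S.f (F.incl k) ≫ cokernel.π (F.ι k) ≫ t = 0 := by
      have := congrArg (cokernel.π (iI k) ≫ ·) ht
      simpa [a] using this
    let u := (hrow k).exact.desc (cokernel.π (F.ι k) ≫ t) h1
    have hu : Abelian.factorThruImage (m k) ≫ u = cokernel.π (F.ι k) ≫ t := (hrow k).exact.g_desc _ _
    refine ⟨cokernel.desc _ u ?_, ?_⟩
    · rw [← cancel_epi (Abelian.factorThruImage (m (k + 1))), reassoc_of% (hfJ k), hu, cokernel.condition_assoc,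
        zero_comp, comp_zero]
    · rw [← cancel_epi (cokernel.π (F.ι k))]
      simp [b, hu]
  have hwI : ∀ k, W (I k) := fun k => D.w_pullback _ _ h₁ (F.w k) h₂
  have hwJ : ∀ k, W (J k) := fun k => D.w_image _ (F.w k) h₃
  have hA : ∀ k, A (cokernel (iI k)) ∧ A (cokernel (iJ k)) := fun k => by
    have := D.a_sub (hgr k) (F.a k) (D.w_coker _ (hwI (k + 1)) (hwI k))
    exact ⟨this.1, this.2⟩
  haveI : IsIso (Abelian.image.ι (m 0)) := by
    haveI : Epi (m 0) := epi_comp _ _
    haveI : Epi (Abelian.image.ι (m 0)) := epi_of_epi_fac (Abelian.image.fac (m 0))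
    exact isIso_of_mono_of_epi _
  let F₁ : Fil W A supp S.X₁ :=
    { obj := I, ι := iI, e := asIso (pullback.fst S.f (F.incl 0)), mono := inferInstance, w := hwI,
      lf := F.lf.mono fun k => D.s_mono (pullback.snd S.f (F.incl k)) inferInstance, a := fun k => (hA k).1 }
  let F₃ : Fil W A supp S.X₃ :=
    { obj := J, ι := iJ, e := asIso (Abelian.image.ι (m 0)), mono := inferInstance, w := hwJ,
      lf := F.lf.mono fun k => D.s_epi (Abelian.factorThruImage (m k)) inferInstance, a := fun k => (hA k).2 }
  refine ⟨F₁, F₃, ?_⟩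
  obtain ⟨w', hs⟩ := sigma_shortExact a b hab hgr
  exact D.f_add hs (F₁.a_gr D) (F.a_gr D) (F₃.a_gr D)

/-- dévissage along locally finite filtrations -/
theorem exists_hom (D : Data W A supp f) {P : ObjectProperty C} (hPW : ∀ {X : C}, P X → W X)
    (hP : ∀ {X : C}, P X → Nonempty (Fil W A supp X)) :
    ∃ ν : KZero.K0sub P →+ G, ∀ {X : C}, P X → A X → ν (KZero.clSub P X) = f X := by
  classical
  let φ : C → G := fun X => if h : P X then val f (hP h).some else 0
  refine ⟨Groth.L29.KSub.lift φ fun S hS h1 h2 h3 => ?_, fun {X} hX hA => ?_⟩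
  · simp only [φ, dif_pos h1, dif_pos h2, dif_pos h3]
    obtain ⟨F₁, F₃, he⟩ := exists_split D hS (hPW h1) (hPW h2) (hPW h3) (hP h2).some
    rw [he, val_unique F₁ (hP h1).some D (hPW h1), val_unique F₃ (hP h3).some D (hPW h3)]
  · rw [Groth.L29.KSub.lift_clSub _ _ hX]
    simp only [φ, dif_pos hX]
    exact val_eq_of_mem D _ hA

/-- classes are sums of graded pieces -/
theorem clSub_eq_gr {P : ObjectProperty C} {X : C} (F : Fil W A supp X) (h0 : P (F.obj 0))
    (h1 : P (∐ F.obj)) (h2 : P (∐ fun k => F.obj (k + 1))) (h3 : P (∐ F.gr)) :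
    KZero.clSub P (F.obj 0) = KZero.clSub P (∐ F.gr) :=
  telescope P (KZero.clSub P) (fun hS a b c => Groth.L29.KSub.clSub_shortExact P hS a b c) F.obj F.ι F.mono
    h0 h1 h2 h3

end Groth.L29.DevLF
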