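import Groth.Agent.L29.K.SerreQuot
import Groth.Agent.L29.K.KcohLoc
import Groth.Agent.L29.RelPC.FlatPull
import Groth.Agent.L19.LimMod.Lift
import Groth.Agent.L07.ParaF.FlatDescent
import Groth.Agent.L16.Exist.OpenPush
import Groth.Agent.L17.FlatBase.CxTools
import Groth.Agent.L16.AffineBC.Pullback

/-!
`K₀` of coherent modules along an affine flat monomorphism, e.g. the inclusion of a generic fibre.
-/

set_option autoImplicit false
set_option backward.defeqAttrib.useBackward true
set_option backward.isDefEq.respectTransparency false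
set_option backward.isDefEq.respectTransparency.types false
set_option linter.style.haveILetI false

universe u

open CategoryTheory CategoryTheory.Limits AlgebraicGeometry

noncomputable section

namespace Groth.L29.KGenFibre

local notation "cl" => KZero.clSub (fun M : Scheme.Modules _ => Coh.IsCoh M)

variable {X W : Scheme.{u}} (j : W ⟶ X) [Flat j] [IsAffineHom j] [Mono j]

/-- the counit is an isomorphism on quasi-coherent modules -/
theorem isIso_counit (F : W.Modules) [Coh.IsQCoh F] :
    IsIso ((Scheme.Modules.pullbackPushforwardAdjunction j).counit.app F) := by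
  let adj := Scheme.Modules.pullbackPushforwardAdjunction j
  let pb : IsPullback (𝟙 W) (𝟙 W) j j := IsPullback.of_isLimit' ⟨rfl⟩ (PullbackCone.isLimitMkIdId j)
  haveI hb := Groth.L07.ParaF.isIso_bc0_of_qs pb F
  haveI : IsIso ((Scheme.Modules.pullbackPushforwardAdjunction (𝟙 W)).unit.app F) := by
    haveI := Groth.L16.Exist.isIso_counit_open (𝟙 W)
    let adj1 := Scheme.Modules.pullbackPushforwardAdjunction (𝟙 W)
    haveI : (Scheme.Modules.pullback (𝟙 W)).Full := (Functor.Full.of_iso (Scheme.Modules.pullbackId W).symm :)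
    haveI : (Scheme.Modules.pullback (𝟙 W)).Faithful := Functor.Faithful.of_iso (Scheme.Modules.pullbackId W).symm
    infer_instance
  haveI : IsIso (CohBC.bc0Adj j j (𝟙 W) (𝟙 W) pb.w F) := by
    unfold CohBC.bc0Adj
    infer_instance
  let Y := (Scheme.Modules.pushforward (𝟙 W)).obj ((Scheme.Modules.pullback (𝟙 W)).obj F)
  haveI : IsIso (adj.counit.app Y) := by
    have h : CohBC.bc0 j j (𝟙 W) (𝟙 W) pb.w F =
        (Scheme.Modules.pullback j).map (CohBC.bc0Adj j j (𝟙 W) (𝟙 W) pb.w F) ≫ adj.counit.app Y :=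
      adj.homEquiv_counit _ _ _
    rw [h] at hb
    exact IsIso.of_isIso_comp_left ((Scheme.Modules.pullback j).map (CohBC.bc0Adj j j (𝟙 W) (𝟙 W) pb.w F)) _
  exact (NatTrans.isIso_app_iff_of_iso adj.counit
    (asIso ((Scheme.Modules.pullbackPushforwardAdjunction (𝟙 W)).unit.app F))).2 ‹IsIso (adj.counit.app Y)›

variable [IsNoetherian X]

local notation "R" => Scheme.Modules.pullback j

/-- a coherent module upstairs is the restriction of a coherent module -/
theorem exists_lift {F : W.Modules} (hF : Coh.IsCoh F) :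
    ∃ (G : X.Modules) (ι : G ⟶ (Scheme.Modules.pushforward j).obj F), Coh.IsCoh G ∧
      IsIso (((Scheme.Modules.pullbackPushforwardAdjunction j).homEquiv G F).symm ι) := by
  haveI := hF.1
  let adj := Scheme.Modules.pullbackPushforwardAdjunction j
  haveI := Groth.L17.CxTools.preservesFiniteLimits_pullback j
  haveI : Coh.IsQCoh ((Scheme.Modules.pushforward j).obj F) := Groth.L16.QcqsPush.isQCoh_push F j
  obtain ⟨H, q, hH, hq⟩ := Groth.L19.LimMod.exists_pull_epi j F hF
  haveI := Groth.L05.Prufer.isQCoh_of_isFP hH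
  let θ := adj.homEquiv H F q
  let I := Abelian.image θ
  have hI : Coh.IsCoh I :=
    Groth.L16.CohSupport.isCoh_image ⟨inferInstance, Groth.L19.LimMod.isFT_of_isFP hH⟩ θ
  haveI : Mono ((R).map (Abelian.image.ι θ)) := inferInstance
  haveI := isIso_counit j F
  have hc : (adj.homEquiv I F).symm (Abelian.image.ι θ) = (R).map (Abelian.image.ι θ) ≫ adj.counit.app F :=
    adj.homEquiv_counit _ _ _
  haveI : Mono ((adj.homEquiv I F).symm (Abelian.image.ι θ)) := by rw [hc]; infer_instance
  haveI : Epi ((adj.homEquiv I F).symm (Abelian.image.ι θ)) := by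
    haveI := hq
    refine epi_of_epi_fac (f := (R).map (Abelian.factorThruImage θ)) (h := q) ?_
    rw [← adj.homEquiv_naturality_left_symm, Abelian.image.fac]
    exact Equiv.symm_apply_apply _ _
  exact ⟨I, Abelian.image.ι θ, hI, isIso_of_mono_of_epi _⟩

variable (Im : AddSubgroup (SGA6.Kcoh X))
  (hIm : ∀ K : X.Modules, Coh.IsCoh K → IsZero ((Scheme.Modules.pullback j).obj K) → KZero.clSub (fun M : X.Modules => Coh.IsCoh M) K ∈ Im)

include hIm in
/-- maps inducing isomorphisms upstairs do not change the class modulo the subgroup -/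
theorem mk_eq_of_map {G H : X.Modules} (hG : Coh.IsCoh G) (hH : Coh.IsCoh H) (a : G ⟶ H)
    (ha : IsIso ((R).map a)) :
    (QuotientAddGroup.mk (KZero.clSub (fun M : X.Modules => Coh.IsCoh M) G) : SGA6.Kcoh X ⧸ Im) = QuotientAddGroup.mk (KZero.clSub (fun M : X.Modules => Coh.IsCoh M) H) := by
  haveI := ha
  haveI := hG.1
  haveI := hH.1
  haveI := Groth.L17.CxTools.preservesFiniteLimits_pullback j
  haveI := Groth.L17.CxTools.preservesFiniteColimits_pullback j
  have hk := Groth.L16.CohSupport.isCoh_kernel hG a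
  haveI := hH.1
  have hc : Coh.IsCoh (cokernel a) := (Groth.L16.CohKernel.isCoh_kernel_cokernel hG hH a).2
  have hi := Groth.L16.CohSupport.isCoh_image hG a
  have h1 := Groth.L29.KSub.clSub_shortExact (fun M : X.Modules => Coh.IsCoh M)
    (Groth.L16.Devissage.shortExact_kernel_image a) hk hG hi
  have h2 := Groth.L29.KSub.clSub_shortExact (fun M : X.Modules => Coh.IsCoh M)
    (Groth.L29.SerreK.shortExact_coker a) hi hH hc
  dsimp at h1 h2
  have hk' := hIm _ hk ((isZero_kernel_of_mono ((R).map a)).of_iso (PreservesKernel.iso (R) a))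
  have hc' := hIm _ hc ((isZero_cokernel_of_epi ((R).map a)).of_iso (PreservesCokernel.iso (R) a))
  rw [h1, h2, QuotientAddGroup.mk_add, QuotientAddGroup.mk_add, (QuotientAddGroup.eq_zero_iff _).2 hk',
    (QuotientAddGroup.eq_zero_iff _).2 hc', zero_add, add_zero]

include hIm in
/-- lifts of the same module agree modulo the subgroup -/
theorem mk_eq {G G' : X.Modules} (hG : Coh.IsCoh G) (hG' : Coh.IsCoh G') (e : (R).obj G ≅ (R).obj G') :
    (QuotientAddGroup.mk (KZero.clSub (fun M : X.Modules => Coh.IsCoh M) G) : SGA6.Kcoh X ⧸ Im) = QuotientAddGroup.mk (KZero.clSub (fun M : X.Modules => Coh.IsCoh M) G') := by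
  let adj := Scheme.Modules.pullbackPushforwardAdjunction j
  let F := (R).obj G
  have hF : Coh.IsCoh F := Groth.L16.AffineBC.isCoh_pullback j hG
  haveI := hF.1
  haveI := Groth.L17.CxTools.preservesFiniteLimits_pullback j
  let a : G ⊞ G' ⟶ (Scheme.Modules.pushforward j).obj F :=
    biprod.desc (adj.homEquiv G F (𝟙 F)) (adj.homEquiv G' F e.inv)
  haveI : Coh.IsQCoh ((Scheme.Modules.pushforward j).obj F) := Groth.L16.QcqsPush.isQCoh_push F j
  have hI := Groth.L16.CohSupport.isCoh_image (Groth.L16.Devissage.isCoh_biprod hG hG') a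
  haveI := isIso_counit j F
  haveI : Mono ((R).map (Abelian.image.ι a)) := inferInstance
  have hc : (adj.homEquiv (Abelian.image a) F).symm (Abelian.image.ι a) =
      (R).map (Abelian.image.ι a) ≫ adj.counit.app F := adj.homEquiv_counit _ _ _
  haveI : Mono ((adj.homEquiv (Abelian.image a) F).symm (Abelian.image.ι a)) := by rw [hc]; infer_instance
  have key : ∀ {H : X.Modules} (b : H ⟶ G ⊞ G') (φ : (R).obj H ⟶ F), IsIso φ → b ≫ a = adj.homEquiv H F φ →
      IsIso ((R).map (b ≫ Abelian.factorThruImage a)) := by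
    intro H b φ hφ hb
    have h : (R).map (b ≫ Abelian.factorThruImage a) ≫ (adj.homEquiv (Abelian.image a) F).symm (Abelian.image.ι a) = φ := by
      rw [← adj.homEquiv_naturality_left_symm, Category.assoc, Abelian.image.fac, hb, Equiv.symm_apply_apply]
    haveI := hφ
    haveI : IsIso ((R).map (b ≫ Abelian.factorThruImage a) ≫
        (adj.homEquiv (Abelian.image a) F).symm (Abelian.image.ι a)) := h ▸ hφ
    haveI : Epi ((adj.homEquiv (Abelian.image a) F).symm (Abelian.image.ι a)) :=
      epi_of_epi ((R).map (b ≫ Abelian.factorThruImage a)) _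
    haveI := isIso_of_mono_of_epi ((adj.homEquiv (Abelian.image a) F).symm (Abelian.image.ι a))
    exact IsIso.of_isIso_comp_right _ ((adj.homEquiv (Abelian.image a) F).symm (Abelian.image.ι a))
  exact (mk_eq_of_map j Im hIm hG hI _ (key biprod.inl (𝟙 F) inferInstance (biprod.inl_desc _ _))).trans
    (mk_eq_of_map j Im hIm hG' hI _ (key biprod.inr e.inv inferInstance (biprod.inr_desc _ _))).symm

/-- the chosen extension -/
def ext (F : W.Modules) (hF : Coh.IsCoh F) : X.Modules := (exists_lift j hF).choose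

theorem isCoh_ext (F : W.Modules) (hF : Coh.IsCoh F) : Coh.IsCoh (ext j F hF) :=
  (exists_lift j hF).choose_spec.choose_spec.1

/-- it extends -/
def extIso (F : W.Modules) (hF : Coh.IsCoh F) : (R).obj (ext j F hF) ≅ F :=
  @asIso _ _ _ _ (((Scheme.Modules.pullbackPushforwardAdjunction j).homEquiv _ F).symm (exists_lift j hF).choose_spec.choose)
    (exists_lift j hF).choose_spec.choose_spec.2

include hIm in
/-- the inverse of restriction modulo the subgroup -/
theorem exists_inverse :
    ∃ ν : SGA6.Kcoh W →+ SGA6.Kcoh X ⧸ Im,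
      ∀ M : X.Modules, Coh.IsCoh M → ∀ F : W.Modules, Coh.IsCoh F → ((R).obj M ≅ F) →
        ν (KZero.clSub (fun F : W.Modules => Coh.IsCoh F) F) =
          QuotientAddGroup.mk (KZero.clSub (fun F : X.Modules => Coh.IsCoh F) M) := by
  classical
  haveI := Groth.L17.CxTools.preservesFiniteLimits_pullback j
  let adj := Scheme.Modules.pullbackPushforwardAdjunction j
  let f : W.Modules → SGA6.Kcoh X ⧸ Im := fun F =>
    if h : Coh.IsCoh F then QuotientAddGroup.mk (cl (ext j F h)) else 0
  have hf : ∀ {F : W.Modules} (G : X.Modules), Coh.IsCoh F → Coh.IsCoh G → ((R).obj G ≅ F) →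
      f F = QuotientAddGroup.mk (cl G) := fun {F} G hF hG e => by
    simp only [f, dif_pos hF]
    exact mk_eq j Im hIm (isCoh_ext j F hF) hG (extIso j F hF ≪≫ e.symm)
  refine ⟨Groth.L29.KSub.lift (P := (fun F : W.Modules => Coh.IsCoh F : ObjectProperty W.Modules)) f
    fun S hS' h1 h2 h3 => ?_, fun M hM F hF e => ?_⟩
  · haveI := hS'.mono_f
    haveI := hS'.epi_g
    haveI := h3.1
    let G := ext j S.X₂ h2
    let e := extIso j S.X₂ h2
    have hG := isCoh_ext j S.X₂ h2
    let q : G ⟶ (Scheme.Modules.pushforward j).obj S.X₃ := adj.homEquiv _ _ (e.hom ≫ S.g)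
    haveI : Coh.IsQCoh ((Scheme.Modules.pushforward j).obj S.X₃) := Groth.L16.QcqsPush.isQCoh_push S.X₃ j
    haveI := isIso_counit j S.X₃
    have hq : (R).map q ≫ adj.counit.app S.X₃ = e.hom ≫ S.g :=
      (adj.homEquiv_counit _ _ q).symm.trans (Equiv.symm_apply_apply _ _)
    have hK : Coh.IsCoh (kernel q) := Groth.L16.CohSupport.isCoh_kernel hG q
    have hI : Coh.IsCoh (Abelian.image q) := Groth.L16.CohSupport.isCoh_image hG q
    haveI : Epi ((R).map q) := by
      have : (R).map q = (e.hom ≫ S.g) ≫ inv (adj.counit.app S.X₃) := by rw [← hq]; simp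
      rw [this]
      infer_instance
    haveI : Epi ((R).map (Abelian.image.ι q)) :=
      epi_of_epi_fac (f := (R).map (Abelian.factorThruImage q)) (h := (R).map q)
        (by rw [← Functor.map_comp, Abelian.image.fac])
    haveI : IsIso ((R).map (Abelian.image.ι q)) := isIso_of_mono_of_epi _
    rw [hf (Abelian.image q) h3 hI (asIso ((R).map (Abelian.image.ι q)) ≪≫ asIso (adj.counit.app S.X₃)),
      hf (kernel q) h1 hK (PreservesKernel.iso (R) q ≪≫
        kernel.mapIso ((R).map q) S.g e (asIso (adj.counit.app S.X₃)) (by simpa using hq) ≪≫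
        IsLimit.conePointUniqueUpToIso (kernelIsKernel S.g) hS'.exact.fIsKernel),
      hf G h2 hG e, ← QuotientAddGroup.mk_add]
    exact congrArg _ (Groth.L29.KSub.clSub_shortExact (fun M : X.Modules => Coh.IsCoh M)
      (Groth.L16.Devissage.shortExact_kernel_image q) hK hG hI)
  · rw [Groth.L29.KSub.lift_clSub _ _ hF]
    exact hf M hF hM e

end Groth.L29.KGenFibre
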