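import Groth.Agent.L29.K.GenFibre
import Groth.Agent.L17.AffineBCTwists
import Groth.Agent.L19.SupportPullback
import Groth.Agent.L05.Point.UnramFlat
import Groth.Agent.L16.NegPow.Gen
import Mathlib.AlgebraicGeometry.FunctionField
import Mathlib.AlgebraicGeometry.Fiber
import Mathlib.Topology.Sober

/-!
`K₀` of coherent modules on the source of a flat morphism is generated by classes generating the fibres.
-/

set_option autoImplicit false
set_option backward.defeqAttrib.useBackward true
set_option backward.isDefEq.respectTransparency false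
set_option backward.isDefEq.respectTransparency.types false
set_option linter.style.haveILetI false

universe u

open CategoryTheory CategoryTheory.Limits AlgebraicGeometry TopologicalSpace

noncomputable section

namespace Groth.L29.KGenSurj

/-- the residue field of the generic point of an integral scheme is its local ring -/
theorem flat_fromSpecResidueField (Z : Scheme.{u}) [IsIntegral Z] :
    Flat (Z.fromSpecResidueField (genericPoint Z)) := by
  haveI : Flat (Z.fromSpecStalk (genericPoint Z)) := Groth.L05.Point.flat_fromSpecStalk _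
  let hF : IsField (Z.presheaf.stalk (genericPoint Z)) := (Semifield.toIsField Z.functionField :)
  haveI : IsIso (Z.residue (genericPoint Z)) := by
    letI := hF.toField
    refine (ConcreteCategory.isIso_iff_bijective _).2 ⟨?_, Ideal.Quotient.mk_surjective⟩
    exact RingHom.injective (Z.residue (genericPoint Z)).hom
  rw [Scheme.fromSpecResidueField]
  infer_instance

/-- a point of a scheme is an affine morphism as soon as it is quasi-compact -/
theorem isAffineHom_fromSpecResidueField (Z : Scheme.{u}) (z : Z) : IsAffineHom (Z.fromSpecResidueField z) := by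
  refine ⟨fun U hU => ?_⟩
  by_cases h : z ∈ U
  · have : (Z.fromSpecResidueField z) ⁻¹ᵁ U = ⊤ := by
      ext s
      simp [Scheme.fromSpecResidueField_apply, h]
    rw [this]
    exact isAffineOpen_top _
  · have : (Z.fromSpecResidueField z) ⁻¹ᵁ U = ⊥ := by
      ext s
      simp [Scheme.fromSpecResidueField_apply, h]
    rw [this]
    exact isAffineOpen_bot _

variable {X S : Scheme.{u}} [IsNoetherian X] [IsNoetherian S] (f : X ⟶ S) [Flat f]
  {m : ℕ} (E : Fin m → X.Modules) (hE : ∀ i, FlatMod.IsFinLocFree (E i))
  (Im : AddSubgroup (SGA6.Kcoh X))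
  (hmem : ∀ (i : Fin m) (M : S.Modules), Coh.IsCoh M →
    KZero.clSub (fun N : X.Modules => Coh.IsCoh N) (CohB1.tensorMod (E i) ((Scheme.Modules.pullback f).obj M)) ∈ Im)
  (hfib : ∀ s : S, AddSubgroup.closure (Set.range (fun i : Fin m =>
    KZero.clSub (fun M : (f.fiber s).Modules => Coh.IsCoh M) ((Scheme.Modules.pullback (f.fiberι s)).obj (E i)))) = ⊤)

include hE hmem in
/-- the structure module of a closed subscheme of the base, twisted by the generators -/
theorem mem_push_structure {Z : Scheme.{u}} (i : Z ⟶ S) [IsClosedImmersion i] (c : Fin m) :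
    KZero.clSub (fun N : X.Modules => Coh.IsCoh N) ((Scheme.Modules.pushforward (pullback.fst f i)).obj
      ((Scheme.Modules.pullback (pullback.fst f i)).obj (E c))) ∈ Im := by
  haveI : IsLocallyNoetherian Z := LocallyOfFiniteType.isLocallyNoetherian i
  let O := Coh.structureModule Z
  have hO : Coh.IsCoh O := Groth.L16.Rees.RelVanish.isCoh_structureModule Z
  haveI := hO.1
  have hiO : Coh.IsCoh ((Scheme.Modules.pushforward i).obj O) := Groth.L16.CohClosedPush.isCoh_push i hO
  let pb : IsPullback (pullback.snd f i) (pullback.fst f i) i f := (IsPullback.of_hasPullback f i).flip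
  haveI := Groth.L07.ParaF.isIso_bc0_of_qs pb O
  let e1 : (Scheme.Modules.pullback f).obj ((Scheme.Modules.pushforward i).obj O) ≅
      (Scheme.Modules.pushforward (pullback.fst f i)).obj (Coh.structureModule (pullback f i)) :=
    asIso (CohBC.bc0 i f (pullback.fst f i) (pullback.snd f i) pb.w O) ≪≫
      (Scheme.Modules.pushforward (pullback.fst f i)).mapIso (Groth.L29.LocFree.pullbackUnitIso (pullback.snd f i))
  have hEc := Groth.L16.NegPow.isCoh_of_isFinLocFree (hE c)
  haveI := hEc.1
  haveI : IsLocallyNoetherian (pullback f i) := LocallyOfFiniteType.isLocallyNoetherian (pullback.fst f i)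
  haveI : Coh.IsQCoh (Coh.structureModule (pullback f i)) :=
    (Groth.L16.Rees.RelVanish.isCoh_structureModule (pullback f i)).1
  obtain ⟨e2⟩ := Groth.L17.AffineBCTwists.nonempty_projection (pullback.fst f i) (E c)
    (Coh.structureModule (pullback f i))
  let e : CohB1.tensorMod (E c) ((Scheme.Modules.pullback f).obj ((Scheme.Modules.pushforward i).obj O)) ≅
      (Scheme.Modules.pushforward (pullback.fst f i)).obj ((Scheme.Modules.pullback (pullback.fst f i)).obj (E c)) :=
    Groth.L00.Tensor.tensorComm _ _ ≪≫ Groth.L00.Tensor.tensorIso e1 (Iso.refl _) ≪≫ e2 ≪≫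
      (Scheme.Modules.pushforward (pullback.fst f i)).mapIso (Groth.L00.Tensor.tensorUnitLeft _)
  have hcoh : Coh.IsCoh ((Scheme.Modules.pushforward (pullback.fst f i)).obj
      ((Scheme.Modules.pullback (pullback.fst f i)).obj (E c))) :=
    Groth.L16.CohClosedPush.isCoh_push (pullback.fst f i) (Groth.L16.AffineBC.isCoh_pullback _ hEc)
  rw [← Groth.L13.KcohNilp.cl_iso e (Groth.L16.CohSupport.isCoh_of_iso e.symm hcoh)]
  exact hmem c _ hiO

include hE hmem hfib in
/-- classes supported over the closure of a point, given those over smaller closed sets -/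
theorem mem_of_integral {Z : Scheme.{u}} [IsIntegral Z] (i : Z ⟶ S) [IsClosedImmersion i]
    (ih : ∀ T : Closeds S, (T : Set S) ⊆ Set.range i → (i (genericPoint Z)) ∉ T →
      ∀ M : X.Modules, Coh.IsCoh M → CohB1.support M ⊆ f ⁻¹' T →
        KZero.clSub (fun N : X.Modules => Coh.IsCoh N) M ∈ Im)
    {M : X.Modules} (hM : Coh.IsCoh M) (hs : CohB1.support M ⊆ f ⁻¹' Set.range i) :
    KZero.clSub (fun N : X.Modules => Coh.IsCoh N) M ∈ Im := by
  classical
  let a := pullback.fst f i
  let g := pullback.snd f i
  have hpush : ∀ N : (pullback f i).Modules, Coh.IsCoh N → Coh.IsCoh ((Scheme.Modules.pushforward a).obj N) :=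
    fun N hN => Groth.L16.CohClosedPush.isCoh_push a hN
  haveI : IsLocallyNoetherian (pullback f i) := LocallyOfFiniteType.isLocallyNoetherian a
  haveI : CompactSpace (pullback f i : Scheme.{u}) := QuasiCompact.compactSpace_of_compactSpace a
  haveI : IsNoetherian (pullback f i) := { }
  haveI := Groth.L17.PushQCoh.additive_push a
  haveI := Groth.L17.ClosedPush.preservesColimits_push a
  haveI : PreservesFiniteLimits (Scheme.Modules.pushforward a) :=
    haveI := (Scheme.Modules.pullbackPushforwardAdjunction a).isRightAdjoint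
    inferInstance
  let φ := SGA6.mapSub (Scheme.Modules.pushforward a) (fun N : (pullback f i).Modules => Coh.IsCoh N)
    (fun N : X.Modules => Coh.IsCoh N) hpush
  suffices hQ : ∀ x, φ x ∈ Im by
    obtain ⟨y, hy⟩ := Groth.L29.KcohLoc.cl_mem_range a hpush hM (by rwa [Scheme.Pullback.range_fst])
    exact hy ▸ hQ y
  let Q := Im.comap φ
  let η := genericPoint Z
  haveI : IsIso (i.residueFieldMap η) := by
    refine (ConcreteCategory.isIso_iff_bijective _).2 ⟨RingHom.injective _, ?_⟩
    intro y
    obtain ⟨y, rfl⟩ := Ideal.Quotient.mk_surjective y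
    obtain ⟨z, rfl⟩ := i.stalkMap_surjective η y
    exact ⟨Ideal.Quotient.mk _ z, rfl⟩
  haveI := flat_fromSpecResidueField Z
  haveI := isAffineHom_fromSpecResidueField Z η
  let σ : Spec (S.residueField (i η)) ⟶ Z := inv (Spec.map (i.residueFieldMap η)) ≫ Z.fromSpecResidueField η
  have hσ : σ ≫ i = S.fromSpecResidueField (i η) := by
    rw [Category.assoc, IsIso.inv_comp_eq, Scheme.Hom.SpecMap_residueFieldMap_fromSpecResidueField]
  have hw : (f.fiberι (i η)) ≫ f = (f.fiberToSpecResidueField (i η) ≫ σ) ≫ i := by
    rw [Category.assoc, hσ]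
    exact f.fiber_fac (i η)
  let j : f.fiber (i η) ⟶ pullback f i := pullback.lift _ _ hw
  have hj : j ≫ a = f.fiberι (i η) := pullback.lift_fst _ _ _
  have pbj : IsPullback j (f.fiberToSpecResidueField (i η)) g σ :=
    IsPullback.of_right (by rw [hj, hσ]; exact IsPullback.of_hasPullback f (S.fromSpecResidueField (i η)))
      (pullback.lift_snd _ _ _) (IsPullback.of_hasPullback f i)
  haveI : Flat σ := inferInstance
  haveI : IsAffineHom σ := inferInstance
  haveI : Flat j := MorphismProperty.of_isPullback pbj.flip ‹Flat σ›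
  haveI : IsAffineHom j := MorphismProperty.of_isPullback pbj.flip ‹IsAffineHom σ›
  haveI : Mono j := (MorphismProperty.monomorphisms Scheme.{u}).of_isPullback pbj.flip
    (inferInstanceAs (Mono σ))
  -- classes vanishing at the generic fibre are known
  have hker : ∀ N : (pullback f i).Modules, Coh.IsCoh N → IsZero ((Scheme.Modules.pullback j).obj N) →
      KZero.clSub (fun N : (pullback f i).Modules => Coh.IsCoh N) N ∈ Q := by
    intro N hN hz
    haveI := hN.1
    show φ _ ∈ Im
    rw [Groth.L29.KcohLoc.mapSub_cl _ hpush hN]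
    have hsupp : CohB1.support N ⊆ g ⁻¹' {η}ᶜ := by
      intro x hx hxη
      obtain ⟨w, rfl⟩ : x ∈ Set.range j := by
        obtain ⟨w, hw1, -⟩ := Scheme.exists_preimage_of_isPullback pbj x (IsLocalRing.closedPoint _)
          (by
            show g x = σ _
            rw [Scheme.Hom.comp_apply, Scheme.fromSpecResidueField_apply]
            exact hxη)
        exact ⟨w, hw1⟩
      have h1 := Groth.L19.SupportPullback.support_pullback j N hN.2
      rw [(Groth.L21.Mod.isZero_iff_support_eq_empty _).1 hz] at h1
      exact (h1.symm.le hx : w ∈ (∅ : Set _))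
    have hcl : IsClosed (CohB1.support N) := Groth.L16.CohSupport.isClosed_support N hN.2
    obtain ⟨F, hF, hFc, hFi, hFN⟩ := NoetherianSpace.exists_finite_set_isClosed_irreducible hcl
    let T : Closeds S := ⟨⋃ C ∈ F, closure (i '' (g '' C)),
      hF.isClosed_biUnion fun C _ => isClosed_closure⟩
    refine ih T ?_ ?_ _ (hpush N hN) ?_
    · refine Set.iUnion₂_subset fun C _ => closure_minimal ?_ i.isClosedEmbedding.isClosed_range
      exact Set.image_subset_range _ _
    · intro hη
      obtain ⟨C, hC, hηC⟩ := Set.mem_iUnion₂.1 hη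
      obtain ⟨x, hx⟩ := QuasiSober.sober (hFi C hC) (hFc C hC)
      have hxN : x ∈ CohB1.support N := hFN ▸ Set.mem_sUnion.2 ⟨C, hC, hx.mem⟩
      rw [i.isClosedEmbedding.closure_image_eq, i.isClosedEmbedding.injective.mem_set_image,
        ← (hx.image g.continuous).def] at hηC
      have hsp : g x ⤳ η := specializes_iff_mem_closure.2 hηC
      exact hsupp hxN (Inseparable.eq (((genericPoint_spec Z).specializes (Set.mem_univ _)).antisymm hsp)).symm
    · intro y hy
      obtain ⟨x, rfl⟩ := Groth.L16.CohClosedPush.support_push_subset a N hy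
      have hx : x ∈ CohB1.support N := fun hsub => hy
        (@Equiv.subsingleton _ _ (Equiv.ofBijective _ (Groth.L17.ClosedPush.c₀_bijective a N x)) hsub)
      obtain ⟨C, hC, hxC⟩ := Set.mem_sUnion.1 (hFN ▸ hx)
      refine Set.mem_iUnion₂.2 ⟨C, hC, subset_closure ⟨g x, ⟨x, hxC, rfl⟩, ?_⟩⟩
      exact (congr($(pullback.condition (f := f) (g := i)) x)).symm
  obtain ⟨ν, hν⟩ := Groth.L29.KGenFibre.exists_inverse j Q hker
  have hν0 : ν = 0 := by
    refine AddMonoidHom.ext fun y => ?_
    have hy : y ∈ AddSubgroup.closure (Set.range (fun c : Fin m => KZero.clSub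
        (fun M : (f.fiber (i η)).Modules => Coh.IsCoh M) ((Scheme.Modules.pullback (f.fiberι (i η))).obj (E c)))) := by
      rw [hfib]; trivial
    refine (AddSubgroup.closure_le ν.ker).2 ?_ hy
    rintro _ ⟨c, rfl⟩
    have hEc := Groth.L16.NegPow.isCoh_of_isFinLocFree (hE c)
    rw [SetLike.mem_coe, AddMonoidHom.mem_ker, hν _ (Groth.L16.AffineBC.isCoh_pullback a hEc) _
      (Groth.L16.AffineBC.isCoh_pullback _ hEc)
      ((Scheme.Modules.pullbackComp j a).app _ ≪≫ (Scheme.Modules.pullbackCongr hj).app _),
      QuotientAddGroup.eq_zero_iff]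
    show φ _ ∈ Im
    rw [Groth.L29.KcohLoc.mapSub_cl _ hpush (Groth.L16.AffineBC.isCoh_pullback a hEc)]
    exact mem_push_structure f E hE Im hmem i c
  intro x
  refine Groth.L29.KcohLoc.mem_of_cl Q (fun N hN => ?_) x
  have h := hν N hN _ (Groth.L16.AffineBC.isCoh_pullback j hN) (Iso.refl _)
  rw [hν0, AddMonoidHom.zero_apply] at h
  exact (QuotientAddGroup.eq_zero_iff _).1 h.symm

include hE hmem hfib in
/-- everything is generated -/
theorem eq_top : Im = ⊤ := by
  suffices h : ∀ (T : Closeds S) (M : X.Modules), Coh.IsCoh M → CohB1.support M ⊆ f ⁻¹' T →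
      KZero.clSub (fun N : X.Modules => Coh.IsCoh N) M ∈ Im by
    exact eq_top_iff.2 fun x _ => Groth.L29.KcohLoc.mem_of_cl Im
      (fun M hM => h ⊤ M hM (fun _ _ => trivial)) x
  intro T
  induction T using WellFoundedLT.induction with
  | ind T ih =>
    have hzero : ∀ M : X.Modules, IsZero M → KZero.clSub (fun N : X.Modules => Coh.IsCoh N) M ∈ Im :=
      fun M hz => (Groth.L29.KSub.clSub_zero _ hz (Groth.L29.DC.RHomC.isCoh_of_isZero hz) :
        KZero.clSub (fun N : X.Modules => Coh.IsCoh N) M = 0) ▸ Im.zero_mem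
    intro M hM hs
    refine Groth.L16.Devissage.devissage_ideals
      (P := fun M => Coh.IsCoh M → CohB1.support M ⊆ f ⁻¹' T →
        KZero.clSub (fun N : X.Modules => Coh.IsCoh N) M ∈ Im) ?_ ?_ ?_ ?_ hM hM hs
    · rintro M N ⟨e⟩ hP hN hsN
      have hM' := Groth.L16.CohSupport.isCoh_of_iso e.symm hN
      rw [← Groth.L13.KcohNilp.cl_iso e hM']
      exact hP hM' ((Groth.L17.KilledUnit.support_congr e).le.trans hsN)
    · exact fun M hz _ _ => hzero M hz
    · intro S' hS h1 h2 h3 hP1 hP3 _ hs2
      have hsupp := Groth.L16.Devissage.support_union hS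
      rw [Groth.L29.KSub.clSub_shortExact (fun M : X.Modules => Coh.IsCoh M) hS h1 h2 h3]
      exact Im.add_mem (hP1 h1 (hsupp.1.trans hs2)) (hP3 h3 (hsupp.2.trans hs2))
    · intro W z hz hW I ι hι hI hcoh hsupp
      by_cases hI0 : IsZero I
      · exact hzero _ ((Coh.push z).map_isZero hI0)
      haveI := hz
      haveI := hW
      haveI := hI
      have hrange : Set.range z ⊆ f ⁻¹' (T : Set S) :=
        (Groth.L17.DevissageGen.range_subset_support z I ι hI0).trans hsupp
      let s := f (z (genericPoint W))
      have hsT : s ∈ T := hrange ⟨_, rfl⟩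
      have hW' : CohB1.support ((Coh.push z).obj I) ⊆ f ⁻¹' closure {s} := by
        refine (Groth.L16.CohClosedPush.support_push_subset z I).trans ?_
        rintro _ ⟨w, rfl⟩
        exact (((genericPoint_spec W).specializes (Set.mem_univ w)).map (z ≫ f).continuous).mem_closure
      obtain ⟨Z, i, hi, hZ, hgen, hir⟩ := Groth.L16.CohClosedPush.exists_integral s
      haveI := hi
      haveI := hZ
      refine mem_of_integral f E hE Im hmem hfib i (fun T' hT' hsT' => ih T' ?_) hcoh (by rwa [hir])
      refine lt_of_le_of_ne (hT'.trans (hir.le.trans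
        (closure_minimal (Set.singleton_subset_iff.2 hsT) T.isClosed))) fun e => hsT' ?_
      rw [hgen, e]
      exact hsT

end Groth.L29.KGenSurj
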