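import Groth.Prelude.Def_KZero
import Mathlib.CategoryTheory.Abelian.Refinements
import Mathlib.CategoryTheory.Limits.Shapes.BinaryBiproducts
import Mathlib.GroupTheory.MonoidLocalization.GrothendieckGroup

/-!
Heller's criterion for equality in `K₀` of an abelian category.
-/

universe v u

open CategoryTheory CategoryTheory.Limits ZeroObject

namespace Groth.L29.Heller

variable {C : Type u} [Category.{v} C] [Abelian C]

/-- Heller's relation: after adding a common object, common sub and quotient -/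
def R (A B : C) : Prop :=
  ∃ (N D E : C) (i : D ⟶ A ⊞ N) (q : A ⊞ N ⟶ E) (i' : D ⟶ B ⊞ N) (q' : B ⊞ N ⟶ E)
    (w : i ≫ q = 0) (w' : i' ≫ q' = 0),
    (ShortComplex.mk i q w).ShortExact ∧ (ShortComplex.mk i' q' w').ShortExact

/-- `T` is a short exact sequence with middle term isomorphic to `Y` -/
lemma exists_middle {D X E : C} {i : D ⟶ X} {q : X ⟶ E} {w : i ≫ q = 0}
    (h : (ShortComplex.mk i q w).ShortExact) {Y : C} (e : X ≅ Y) :
    (ShortComplex.mk (i ≫ e.hom) (e.inv ≫ q) (by simp [w])).ShortExact :=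
  ShortComplex.shortExact_of_iso (S₁ := ShortComplex.mk i q w)
    (ShortComplex.isoMk (Iso.refl _) e (Iso.refl _) (by simp) (by simp)) h

lemma shortExact_biprod {D X E D' X' E' : C} {i : D ⟶ X} {q : X ⟶ E} {w : i ≫ q = 0}
    {i' : D' ⟶ X'} {q' : X' ⟶ E'} {w' : i' ≫ q' = 0}
    (h : (ShortComplex.mk i q w).ShortExact) (h' : (ShortComplex.mk i' q' w').ShortExact) :
    (ShortComplex.mk (biprod.map i i') (biprod.map q q') (by ext <;> simp [w, w'])).ShortExact := by
  haveI : Mono i := h.mono_f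
  haveI : Mono i' := h'.mono_f
  haveI : Epi q := h.epi_g
  haveI : Epi q' := h'.epi_g
  refine ShortComplex.ShortExact.mk' ?_ inferInstance inferInstance
  rw [ShortComplex.exact_iff_exact_up_to_refinements]
  intro T x hx
  have h1 : (x ≫ biprod.fst) ≫ q = 0 := by
    have := congrArg (· ≫ biprod.fst) hx
    simpa using this
  have h2 : (x ≫ biprod.snd) ≫ q' = 0 := by
    have := congrArg (· ≫ biprod.snd) hx
    simpa using this
  have hm : Mono (ShortComplex.mk i q w).f := h.mono_f
  have hm' : Mono (ShortComplex.mk i' q' w').f := h'.mono_f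
  refine ⟨T, 𝟙 T, inferInstance, biprod.lift (h.exact.lift _ h1) (h'.exact.lift _ h2), ?_⟩
  have e1 := h.exact.lift_f _ h1
  have e2 := h'.exact.lift_f _ h2
  refine biprod.hom_ext _ _ ?_ ?_ <;> simp [e1, e2]

/-- the middle four interchange -/
noncomputable def mid (a b c d : C) : (a ⊞ b) ⊞ (c ⊞ d) ≅ (a ⊞ c) ⊞ (b ⊞ d) where
  hom := biprod.lift (biprod.map biprod.fst biprod.fst) (biprod.map biprod.snd biprod.snd)
  inv := biprod.lift (biprod.map biprod.fst biprod.fst) (biprod.map biprod.snd biprod.snd)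
  hom_inv_id := by ext <;> simp
  inv_hom_id := by ext <;> simp

lemma R.symm {A B : C} : R A B → R B A := by
  rintro ⟨N, D, E, i, q, i', q', w, w', h, h'⟩
  exact ⟨N, D, E, i', q', i, q, w', w, h', h⟩

lemma R_of_shortExact {D X E : C} {i : D ⟶ X} {q : X ⟶ E} {w : i ≫ q = 0}
    (h : (ShortComplex.mk i q w).ShortExact) : R X (D ⊞ E) :=
  ⟨0, D, E, _, _, _, _, _, _, exists_middle h (isoBiprodZero (isZero_zero C)),
    exists_middle (ShortComplex.Splitting.ofHasBinaryBiproduct D E).shortExact (isoBiprodZero (isZero_zero C))⟩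

lemma shortExact_id {X Y : C} (e : X ≅ Y) :
    (ShortComplex.mk e.hom (0 : Y ⟶ (0 : C)) comp_zero).ShortExact := by
  haveI : Epi (0 : Y ⟶ (0 : C)) := (isZero_zero C).epi _
  refine ShortComplex.ShortExact.mk' ?_ inferInstance inferInstance
  rw [ShortComplex.exact_iff_exact_up_to_refinements]
  intro T x _
  exact ⟨T, 𝟙 T, inferInstance, x ≫ e.inv, by simp⟩

lemma R_of_iso {A B : C} (e : A ≅ B) : R A B :=
  ⟨0, A, 0, _, _, _, _, _, _, exists_middle (shortExact_id (Iso.refl A)) (isoBiprodZero (isZero_zero C)),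
    exists_middle (shortExact_id e) (isoBiprodZero (isZero_zero C))⟩

lemma R.trans {A B A' : C} : R A B → R B A' → R A A' := by
  rintro ⟨N, D, E, i, q, i', q', w, w', h, h'⟩ ⟨N₁, D₁, E₁, j, p, j', p', v, v', k, k'⟩
  refine ⟨B ⊞ (N ⊞ N₁), D ⊞ D₁, E ⊞ E₁, _, _, _, _, _, _,
    exists_middle (shortExact_biprod h k) (mid A N B N₁ ≪≫ biprod.associator A B (N ⊞ N₁)),
    exists_middle (shortExact_biprod h' k')
      (mid B N A' N₁ ≪≫ biprod.mapIso (biprod.braiding B A') (Iso.refl _) ≪≫ biprod.associator A' B (N ⊞ N₁))⟩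

lemma R.biprod {A B A' B' : C} : R A B → R A' B' → R (A ⊞ A') (B ⊞ B') := by
  rintro ⟨N, D, E, i, q, i', q', w, w', h, h'⟩ ⟨N₁, D₁, E₁, j, p, j', p', v, v', k, k'⟩
  exact ⟨N ⊞ N₁, D ⊞ D₁, E ⊞ E₁, _, _, _, _, _, _, exists_middle (shortExact_biprod h k) (mid A N A' N₁),
    exists_middle (shortExact_biprod h' k') (mid B N B' N₁)⟩

lemma R.cancel {A B Z : C} : R (A ⊞ Z) (B ⊞ Z) → R A B := by
  rintro ⟨N, D, E, i, q, i', q', w, w', h, h'⟩
  exact ⟨Z ⊞ N, D, E, _, _, _, _, _, _, exists_middle h (biprod.associator A Z N),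
    exists_middle h' (biprod.associator B Z N)⟩

variable (C) in
/-- the setoid of Heller's relation -/
def setoid : Setoid C :=
  ⟨R, ⟨fun A => R_of_iso (Iso.refl A), R.symm, R.trans⟩⟩

variable (C) in
/-- objects up to Heller's relation -/
def M : Type u := Quotient (setoid C)

/-- the class of an object -/
def cls (A : C) : M C := Quotient.mk (setoid C) A

noncomputable instance : Add (M C) :=
  ⟨Quotient.map₂ (fun A B => A ⊞ B) fun _ _ h _ _ h' => R.biprod h h'⟩

noncomputable instance : Zero (M C) := ⟨cls 0⟩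

noncomputable instance : AddCommMonoid (M C) where
  add_assoc := by
    rintro ⟨A⟩ ⟨B⟩ ⟨D⟩
    exact Quotient.sound (R_of_iso (biprod.associator A B D))
  zero_add := by
    rintro ⟨A⟩
    exact Quotient.sound (R_of_iso (isoZeroBiprod (isZero_zero C)).symm)
  add_zero := by
    rintro ⟨A⟩
    exact Quotient.sound (R_of_iso (isoBiprodZero (isZero_zero C)).symm)
  add_comm := by
    rintro ⟨A⟩ ⟨B⟩
    exact Quotient.sound (R_of_iso (biprod.braiding A B))
  nsmul := nsmulRec

instance : IsLeftCancelAdd (M C) := ⟨by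
  rintro ⟨Z⟩ ⟨A⟩ ⟨B⟩ h
  have h' : R (Z ⊞ A) (Z ⊞ B) := Quotient.exact h
  exact Quotient.sound
    ((R.trans (R.trans (R_of_iso (biprod.braiding A Z)) h') (R_of_iso (biprod.braiding Z B))).cancel)⟩

instance : IsCancelAdd (M C) := AddCommMagma.IsLeftCancelAdd.toIsCancelAdd _

/-- Heller's criterion -/
theorem R_of_cl_eq {A B : C} (h : KZero.cl A = KZero.cl B) : R A B := by
  let f : KZero.K0 C →+ Algebra.GrothendieckAddGroup (M C) :=
    QuotientAddGroup.lift _ (FreeAbelianGroup.lift fun X => Algebra.GrothendieckAddGroup.of (cls X)) <| by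
      rw [KZero.relAb, AddSubgroup.closure_le]
      rintro _ ⟨S, hS, rfl⟩
      simp only [SetLike.mem_coe, AddMonoidHom.mem_ker, map_sub, FreeAbelianGroup.lift_apply_of]
      rw [show cls S.X₂ = cls S.X₁ + cls S.X₃ from Quotient.sound (R_of_shortExact (i := S.f) (q := S.g) (w := S.zero) hS), map_add]
      abel
  have hf : ∀ X : C, f (KZero.cl X) = Algebra.GrothendieckAddGroup.of (cls X) :=
    fun X => FreeAbelianGroup.lift_apply_of _ _
  have h' := congrArg f h
  rw [hf, hf] at h'
  exact Quotient.exact (Algebra.GrothendieckAddGroup.of_injective (M := M C) h' : cls A = cls B)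

end Groth.L29.Heller
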