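import Groth.Agent.L29.K.Sub
import Groth.Agent.L29.K.Tr
import Groth.Agent.L29.K.Perfect
import Groth.Agent.L10.DRing.Devissage
import Groth.Agent.L10.DRing.TorTest
import Mathlib.Data.Int.Interval

/-!
`K₀` of finite projective modules is `K₀` of perfect complexes of modules.
-/

set_option autoImplicit false
set_option backward.isDefEq.respectTransparency false

universe u

open CategoryTheory CategoryTheory.Limits CategoryTheory.Pretriangulated ZeroObject

attribute [local instance] HasDerivedCategory.standard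

noncomputable section

namespace Groth.L29.KPerf

variable {A : Type u} [CommRing A]

/-- finite projective modules -/
abbrev PP (A : Type u) [CommRing A] : ObjectProperty (ModuleCat.{u} A) :=
  fun M => Module.Finite A M ∧ Module.Projective A M

/-- perfect complexes -/
abbrev QQ (A : Type u) [CommRing A] : ObjectProperty (Dual.D A) := fun K => DRing.IsPerfect A K

instance : (PP A).IsClosedUnderIsomorphisms :=
  ⟨fun e h => by
    obtain ⟨h1, h2⟩ := h
    exact ⟨Module.Finite.equiv e.toLinearEquiv, Module.Projective.of_equiv e.toLinearEquiv⟩⟩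

theorem pp_isZero {M : ModuleCat.{u} A} (h : IsZero M) : PP A M := by
  haveI := ModuleCat.subsingleton_of_isZero h
  exact ⟨inferInstance, inferInstance⟩

theorem cl_iso {M N : ModuleCat.{u} A} (e : M ≅ N) (h : PP A M) :
    KZero.clSub (PP A) M = KZero.clSub (PP A) N :=
  KSub.clSub_iso (PP A) e (isZero_zero _) (pp_isZero (isZero_zero _)) h

theorem cl_isZero {M : ModuleCat.{u} A} (h : IsZero M) : KZero.clSub (PP A) M = 0 :=
  KSub.clSub_zero (PP A) h (pp_isZero h)

/-- the class of a product -/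
theorem cl_prod {M N : ModuleCat.{u} A} (hM : PP A M) (hN : PP A N) :
    KZero.clSub (PP A) (ModuleCat.of A (M × N)) = KZero.clSub (PP A) M + KZero.clSub (PP A) N := by
  obtain ⟨_, _⟩ := hM
  obtain ⟨_, _⟩ := hN
  let S : ShortComplex (ModuleCat.{u} A) :=
    ShortComplex.moduleCatMkOfKerLERange (X₁ := M) (X₂ := ModuleCat.of A (M × N)) (X₃ := N)
      (ModuleCat.ofHom (LinearMap.inl A M N)) (ModuleCat.ofHom (LinearMap.snd A M N))
      (by rintro _ ⟨x, rfl⟩; rfl)
  have hS : S.ShortExact :=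
    { exact := (ShortComplex.ShortExact.moduleCat_exact_iff_function_exact S).2 Function.Exact.inl_snd
      mono_f := ConcreteCategory.mono_of_injective _ LinearMap.inl_injective
      epi_g := ConcreteCategory.epi_of_surjective _ LinearMap.snd_surjective }
  exact KSub.clSub_shortExact (PP A) hS ⟨‹_›, ‹_›⟩
    ⟨(inferInstance : Module.Finite A (M × N)), (inferInstance : Module.Projective A (M × N))⟩ ⟨‹_›, ‹_›⟩

/-- the kernel of a surjection between finite projective modules -/
theorem pp_ker {M N : ModuleCat.{u} A} (g : M →ₗ[A] N) (hg : Function.Surjective g) (hM : PP A M)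
    (hN : PP A N) : PP A (ModuleCat.of A (LinearMap.ker g)) := by
  obtain ⟨_, _⟩ := hM
  obtain ⟨_, _⟩ := hN
  obtain ⟨s, hs⟩ := Module.projective_lifting_property g LinearMap.id hg
  let π : M →ₗ[A] LinearMap.ker g := (LinearMap.id - s ∘ₗ g).codRestrict _ fun x => by
    simp [LinearMap.mem_ker, show g (s (g x)) = g x from LinearMap.congr_fun hs (g x)]
  have hπ : π ∘ₗ (LinearMap.ker g).subtype = LinearMap.id := by
    ext x
    simp [π]
  exact ⟨Module.Finite.of_surjective π fun z => ⟨z.1, LinearMap.congr_fun hπ z⟩,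
    Module.Projective.of_split (LinearMap.ker g).subtype π hπ⟩

/-- the Euler characteristic of a complex -/
def χ (E : DRing.Cx A) : KZero.K0sub (PP A) :=
  ∑ᶠ i : ℤ, (i.negOnePow : ℤ) • KZero.clSub (PP A) (E.X i)

theorem χ_eq_sum (E : DRing.Cx A) {a b : ℤ} (hE : DRing.VanishesOutside E a b) :
    χ E = (Finset.Icc a b).sum fun i => (i.negOnePow : ℤ) • KZero.clSub (PP A) (E.X i) := by
  refine finsum_eq_finsetSum_of_support_subset _ fun i hi => ?_
  by_contra hc
  rw [Finset.coe_Icc, Set.mem_Icc] at hc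
  exact hi (show (i.negOnePow : ℤ) • KZero.clSub (PP A) (E.X i) = 0 by
    rw [cl_isZero (hE i (by omega)), smul_zero])

theorem finite_supp {f : ℤ → KZero.K0sub (PP A)} {a b : ℤ} (h : ∀ i, i < a ∨ b < i → f i = 0) :
    (Function.support f).Finite :=
  (Set.finite_Icc a b).subset fun i hi => by
    by_contra hc
    rw [Set.mem_Icc] at hc
    exact hi (h i (by omega))

/-- exact bounded complexes of finite projectives have Euler characteristic zero -/
theorem χ_exact (E : DRing.Cx A) {a b : ℤ} (hE : DRing.VanishesOutside E a b)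
    (hp : DRing.TermwiseFiniteProjective E) (hex : ∀ i, IsZero (E.homology i)) : χ E = 0 := by
  let Z : ℤ → ModuleCat.{u} A := fun i => ModuleCat.of A (LinearMap.ker (E.d i (i + 1)).hom)
  have hx : ∀ i, Function.Exact (E.d i (i + 1)).hom (E.d (i + 1) (i + 1 + 1)).hom := fun i =>
    (Groth.L10.DR.isZero_homology_iff_exact E i (i + 1) (i + 1 + 1) rfl rfl).1 (hex _)
  let g : ∀ i, E.X i →ₗ[A] Z (i + 1) := fun i =>
    (E.d i (i + 1)).hom.codRestrict _ fun x => (hx i _).2 ⟨x, rfl⟩
  have hg : ∀ i, Function.Surjective (g i) := fun i z => by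
    obtain ⟨x, hx'⟩ := (hx i z.1).1 z.2
    exact ⟨x, Subtype.ext hx'⟩
  have hker : ∀ i, LinearMap.ker (g i) = LinearMap.ker (E.d i (i + 1)).hom := fun i =>
    LinearMap.ker_codRestrict _ _ _
  have hz : ∀ i, b < i ∨ i < a → IsZero (Z i) := fun i hi => by
    haveI := ModuleCat.subsingleton_of_isZero (hE i hi.symm)
    exact ModuleCat.isZero_of_subsingleton _
  have hZ : ∀ (k : ℕ) (i : ℤ), b < i + k → PP A (Z i) := by
    intro k
    induction k with
    | zero => exact fun i hi => pp_isZero (hz i (Or.inl (by simpa using hi)))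
    | succ k ih =>
      intro i hi
      have := pp_ker (g i) (hg i) (hp i) (ih (i + 1) (by push_cast at hi; omega))
      rwa [hker i] at this
  have hZ' : ∀ i, PP A (Z i) := fun i => hZ (b - i + 1).toNat i (by omega)
  have key : ∀ i, KZero.clSub (PP A) (E.X i) = KZero.clSub (PP A) (Z i) + KZero.clSub (PP A) (Z (i + 1)) := by
    intro i
    let S : ShortComplex (ModuleCat.{u} A) :=
      ShortComplex.moduleCatMkOfKerLERange (X₁ := Z i) (X₂ := E.X i) (X₃ := Z (i + 1))
        (ModuleCat.ofHom (LinearMap.ker (E.d i (i + 1)).hom).subtype) (ModuleCat.ofHom (g i))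
        (by rintro _ ⟨x, rfl⟩; exact Subtype.ext x.2)
    have hS : S.ShortExact :=
      { exact := (ShortComplex.ShortExact.moduleCat_exact_iff_function_exact S).2 fun x => by
          show g i x = 0 ↔ x ∈ Set.range (LinearMap.ker (E.d i (i + 1)).hom).subtype
          rw [Submodule.coe_subtype, Subtype.range_coe_subtype, ← hker i]
          rfl
        mono_f := ConcreteCategory.mono_of_injective _ Subtype.val_injective
        epi_g := ConcreteCategory.epi_of_surjective _ (hg i) }
    exact KSub.clSub_shortExact (PP A) hS (hZ' i) (hp i) (hZ' _)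
  let h : ℤ → KZero.K0sub (PP A) := fun i => (i.negOnePow : ℤ) • KZero.clSub (PP A) (Z i)
  have hf : (Function.support h).Finite := finite_supp (a := a) (b := b) fun i hi => by
    show (i.negOnePow : ℤ) • KZero.clSub (PP A) (Z i) = 0
    rw [cl_isZero (hz i (by omega)), smul_zero]
  have hf' : (Function.support fun i => h (i + 1)).Finite := finite_supp (a := a - 1) (b := b - 1) fun i hi => by
    show ((i + 1).negOnePow : ℤ) • KZero.clSub (PP A) (Z (i + 1)) = 0
    rw [cl_isZero (hz (i + 1) (by omega)), smul_zero]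
  calc χ E = ∑ᶠ i, (h i - h (i + 1)) := finsum_congr fun i => by
        simp only [h, key i, Int.negOnePow_succ, smul_add, Units.val_neg, neg_smul, sub_neg_eq_add]
    _ = 0 := by
      rw [finsum_sub_distrib hf hf', sub_eq_zero]
      exact (finsum_comp_equiv (Equiv.addRight (1 : ℤ)) (f := h)).symm

theorem pp_cone {E F : DRing.Cx A} (f : E ⟶ F) (hE : DRing.TermwiseFiniteProjective E)
    (hF : DRing.TermwiseFiniteProjective F) (i : ℤ) :
    PP A ((CochainComplex.mappingCone f).X i) ∧ KZero.clSub (PP A) ((CochainComplex.mappingCone f).X i) =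
      KZero.clSub (PP A) (E.X (i + 1)) + KZero.clSub (PP A) (F.X i) := by
  obtain ⟨_, _⟩ := hE (i + 1)
  obtain ⟨_, _⟩ := hF i
  let e := Groth.L02.PC.coneEquiv f i (i + 1) rfl
  have h : PP A ((CochainComplex.mappingCone f).X i) :=
    ⟨Module.Finite.equiv e.symm, Module.Projective.of_equiv e.symm⟩
  refine ⟨h, ?_⟩
  rw [cl_iso (N := ModuleCat.of A (E.X (i + 1) × F.X i)) e.toModuleIso h]
  exact cl_prod ⟨‹_›, ‹_›⟩ ⟨‹_›, ‹_›⟩

theorem vanishes_cone {E F : DRing.Cx A} (f : E ⟶ F) {a b a' b' : ℤ} (hE : DRing.VanishesOutside E a b)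
    (hF : DRing.VanishesOutside F a' b') :
    DRing.VanishesOutside (CochainComplex.mappingCone f) (min (a - 1) a') (max (b - 1) b') := fun i hi => by
  rw [CochainComplex.mappingCone.isZero_X_iff]
  exact ⟨hE _ (by omega), hF _ (by omega)⟩

theorem χ_cone {E F : DRing.Cx A} (f : E ⟶ F) {a b a' b' : ℤ} (hE : DRing.VanishesOutside E a b)
    (hF : DRing.VanishesOutside F a' b') (hpE : DRing.TermwiseFiniteProjective E)
    (hpF : DRing.TermwiseFiniteProjective F) : χ (CochainComplex.mappingCone f) = χ F - χ E := by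
  let hE' : ℤ → KZero.K0sub (PP A) := fun i => (i.negOnePow : ℤ) • KZero.clSub (PP A) (E.X i)
  let hF' : ℤ → KZero.K0sub (PP A) := fun i => (i.negOnePow : ℤ) • KZero.clSub (PP A) (F.X i)
  have f1 : (Function.support hF').Finite := finite_supp (a := a') (b := b') fun i hi => by
    show (i.negOnePow : ℤ) • KZero.clSub (PP A) (F.X i) = 0
    rw [cl_isZero (hF i hi), smul_zero]
  have f2 : (Function.support fun i => hE' (i + 1)).Finite := finite_supp (a := a - 1) (b := b - 1) fun i hi => by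
    show ((i + 1).negOnePow : ℤ) • KZero.clSub (PP A) (E.X (i + 1)) = 0
    rw [cl_isZero (hE (i + 1) (by omega)), smul_zero]
  calc χ (CochainComplex.mappingCone f) = ∑ᶠ i, (hF' i - hE' (i + 1)) := finsum_congr fun i => by
        simp only [hE', hF', (pp_cone f hpE hpF i).2, Int.negOnePow_succ, smul_add, Units.val_neg, neg_smul,
          sub_neg_eq_add]
        exact add_comm _ _
    _ = χ F - χ E := by
      rw [finsum_sub_distrib f1 f2]
      exact congrArg (fun t => χ F - t) (finsum_comp_equiv (Equiv.addRight (1 : ℤ)) (f := hE'))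

theorem χ_iso {E E' : DRing.Cx A} {a b a' b' : ℤ} (hE : DRing.VanishesOutside E a b)
    (hE' : DRing.VanishesOutside E' a' b') (hp : DRing.TermwiseFiniteProjective E)
    (hp' : DRing.TermwiseFiniteProjective E') (e : DRing.toD E ≅ DRing.toD E') : χ E = χ E' := by
  haveI := Groth.L29.Perfect.isKProjective hE hp
  obtain ⟨f, hf⟩ := Groth.L02.PC.exists_chainMap e.hom
  haveI : QuasiIso f := (DerivedCategory.isIso_Q_map_iff_quasiIso _ f).1 (hf ▸ inferInstance)
  have hex : ∀ i, IsZero ((CochainComplex.mappingCone f).homology i) := fun i => by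
    have h := (Groth.L02.PC.isApprox_Q_map_iff f i).1 ⟨fun j _ => inferInstance, inferInstance⟩ i le_rfl
    exact h
  have := χ_exact _ (vanishes_cone f hE hE') (fun i => (pp_cone f hp hp' i).1) hex
  rw [χ_cone f hE hE' hp hp', sub_eq_zero] at this
  exact this.symm

open Classical in
/-- the Euler characteristic of a perfect object -/
def χD (K : Dual.D A) : KZero.K0sub (PP A) :=
  if h : DRing.IsPerfect A K then χ h.choose else 0

theorem χD_eq {K : Dual.D A} {E : DRing.Cx A} {a b : ℤ} (hE : DRing.VanishesOutside E a b)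
    (hp : DRing.TermwiseFiniteProjective E) (e : DRing.toD E ≅ K) : χD K = χ E := by
  have h : DRing.IsPerfect A K := ⟨E, a, b, hE, hp, ⟨e⟩⟩
  obtain ⟨a', b', h1, h2, ⟨e'⟩⟩ := h.choose_spec
  rw [χD, dif_pos h]
  exact χ_iso h1 hE h2 hp (e' ≪≫ e.symm)

theorem χD_triangle (T : Triangle (Dual.D A)) (hT : T ∈ distTriang _) (h₁ : QQ A T.obj₁) (h₂ : QQ A T.obj₂) :
    χD T.obj₂ = χD T.obj₁ + χD T.obj₃ := by
  obtain ⟨E, a, b, hE, hpE, ⟨e⟩⟩ := h₁
  obtain ⟨F, a', b', hF, hpF, ⟨e'⟩⟩ := h₂
  haveI := Groth.L29.Perfect.isKProjective hE hpE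
  obtain ⟨f, hf⟩ := Groth.L02.PC.exists_chainMap (e.hom ≫ T.mor₁ ≫ e'.inv)
  obtain ⟨e3, -⟩ : ∃ e3 : DRing.toD (CochainComplex.mappingCone f) ≅ T.obj₃, True :=
    ⟨Triangle.π₃.mapIso (isoTriangleOfIso₁₂ _ _ (Groth.L02.PC.mappingCone_distinguished f) hT e e'
      (by
        show DerivedCategory.Q.map f ≫ e'.hom = e.hom ≫ T.mor₁
        rw [hf]; simp)), trivial⟩
  rw [χD_eq hE hpE e, χD_eq hF hpF e', χD_eq (vanishes_cone f hE hF) (fun i => (pp_cone f hpE hpF i).1) e3,
    χ_cone f hE hF hpE hpF]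
  abel

theorem qq_isZero (Z : Dual.D A) (hZ : IsZero Z) : QQ A Z :=
  ⟨0, 0, 0, fun i _ => (HomologicalComplex.eval _ _ i).map_isZero (isZero_zero _),
    fun i => pp_isZero ((HomologicalComplex.eval _ _ i).map_isZero (isZero_zero _)),
    ⟨(DerivedCategory.Q.map_isZero (isZero_zero _)).iso hZ⟩⟩

theorem qq_inD {M : ModuleCat.{u} A} (h : PP A M) :
    QQ A ((DerivedCategory.singleFunctor (ModuleCat.{u} A) 0).obj M) ∧
      χD ((DerivedCategory.singleFunctor (ModuleCat.{u} A) 0).obj M) = KZero.clSub (PP A) M := by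
  let E := (HomologicalComplex.single (ModuleCat.{u} A) (ComplexShape.up ℤ) 0).obj M
  have hv : DRing.VanishesOutside E 0 0 := fun i hi =>
    HomologicalComplex.isZero_single_obj_X _ _ _ _ (by omega)
  have hp : DRing.TermwiseFiniteProjective E := fun i => by
    by_cases hi : i = 0
    · subst hi
      exact (PP A).prop_of_iso (HomologicalComplex.singleObjXSelf (ComplexShape.up ℤ) 0 M).symm h
    · exact pp_isZero (hv i (by omega))
  let e : DRing.toD E ≅ (DerivedCategory.singleFunctor (ModuleCat.{u} A) 0).obj M :=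
    ((DerivedCategory.singleFunctorIsoCompQ (ModuleCat.{u} A) 0).app M).symm
  refine ⟨⟨E, 0, 0, hv, hp, ⟨e⟩⟩, ?_⟩
  rw [χD_eq hv hp e, χ_eq_sum E hv, Finset.Icc_self, Finset.sum_singleton, Int.negOnePow_zero,
    Units.val_one, one_smul]
  exact cl_iso (HomologicalComplex.singleObjXSelf (ComplexShape.up ℤ) 0 M) (hp 0)

/-- `[M] ↦ [M[0]]` -/
def φ : KZero.K0sub (PP A) →+ KZero.K0tr (QQ A) :=
  KSub.lift (fun X => KZero.clTr (QQ A) ((DerivedCategory.singleFunctor _ 0).obj X)) fun S hS h1 h2 h3 =>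
    KTr.triangle _ hS.singleTriangle_distinguished (qq_inD h1).1 (qq_inD h2).1 (qq_inD h3).1

/-- the Euler characteristic as a homomorphism -/
def ψ : KZero.K0tr (QQ A) →+ KZero.K0sub (PP A) :=
  QuotientAddGroup.lift _ (FreeAbelianGroup.lift fun K : Subtype (QQ A) => χD K.1) <| by
    rw [KZero.relTr, AddSubgroup.closure_le]
    rintro _ ⟨T, h₁, h₂, h₃, hT, rfl⟩
    simp only [SetLike.mem_coe, AddMonoidHom.mem_ker, map_sub, FreeAbelianGroup.lift_apply_of]
    rw [χD_triangle T hT h₁ h₂]
    abel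

theorem ψ_cl {K : Dual.D A} (h : QQ A K) : ψ (KZero.clTr (QQ A) K) = χD K := by
  rw [KZero.clTr, dif_pos h]
  exact FreeAbelianGroup.lift_apply_of _ _

theorem ψ_φ : (ψ (A := A)).comp φ = AddMonoidHom.id _ := KSub.hom_ext fun X hX => by
  rw [AddMonoidHom.comp_apply, φ, KSub.lift_clSub _ _ hX, ψ_cl (qq_inD hX).1]
  exact (qq_inD hX).2

theorem mem_range {K : Dual.D A} (h : QQ A K) : KZero.clTr (QQ A) K ∈ (φ (A := A)).range := by
  have hs : ∀ (X : Dual.D A) (n : ℤ), QQ A X → QQ A (X⟦n⟧) := fun X n hX => Groth.L29.Perfect.shift hX n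
  let P : ObjectProperty (Dual.D A) := fun X => QQ A X ∧ KZero.clTr (QQ A) X ∈ (φ (A := A)).range
  haveI : P.IsClosedUnderIsomorphisms := ⟨fun e h' => ⟨Groth.L29.Perfect.of_iso e h'.1, by
    rw [← KTr.iso qq_isZero e h'.1 (Groth.L29.Perfect.of_iso e h'.1)]; exact h'.2⟩⟩
  obtain ⟨E, a, b, hv, hp, ⟨e⟩⟩ := h
  have hE : P (DRing.toD E) := by
    refine Groth.L10.DR.of_termwise P
      (fun Z hZ => ⟨qq_isZero Z hZ, by rw [KTr.isZero qq_isZero hZ]; exact zero_mem _⟩)
      (fun T hT h1 h3 => ⟨Groth.L29.Perfect.second T hT h1.1 h3.1, by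
        rw [KTr.triangle T hT h1.1 (Groth.L29.Perfect.second T hT h1.1 h3.1) h3.1]
        exact add_mem h1.2 h3.2⟩) E a b hv fun i _ _ => ?_
    have h0 := (qq_inD (hp i)).1
    refine P.prop_of_iso (Groth.L10.DR.singleShift i (E.X i)) ⟨hs _ _ h0, ?_⟩
    exact KTr.shift_mem qq_isZero hs _ h0 (AddMonoidHom.mem_range.2 ⟨KZero.clSub (PP A) (E.X i), by rw [φ]; exact KSub.lift_clSub (P := PP A) _ _ (hp i)⟩) _
  exact (P.prop_of_iso e hE).2

theorem surjective_φ : Function.Surjective (φ (A := A)) := fun y => by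
  obtain ⟨z, rfl⟩ := QuotientAddGroup.mk_surjective y
  refine AddMonoidHom.mem_range.1 ?_
  induction z using FreeAbelianGroup.induction_on with
  | zero => exact zero_mem _
  | of K =>
    have := mem_range K.2
    rwa [KZero.clTr, dif_pos K.2] at this
  | neg K hK => exact neg_mem hK
  | add x y hx hy => exact add_mem hx hy

/-- `K₀(A) ≅ K₀(D_perf(A))` -/
def equiv : KZero.K0sub (PP A) ≃+ KZero.K0tr (QQ A) :=
  AddEquiv.ofBijective φ ⟨Function.LeftInverse.injective fun x => DFunLike.congr_fun ψ_φ x, surjective_φ⟩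

theorem equiv_cl {M : ModuleCat.{u} A} (h : PP A M) :
    equiv (KZero.clSub (PP A) M) = KZero.clTr (QQ A) ((DerivedCategory.singleFunctor _ 0).obj M) := by
  rw [equiv, AddEquiv.ofBijective_apply, φ, KSub.lift_clSub _ _ h]

theorem equiv_symm {E : DRing.Cx A} {a b : ℤ} (hv : DRing.VanishesOutside E a b)
    (hp : DRing.TermwiseFiniteProjective E) :
    equiv.symm (KZero.clTr (QQ A) (DRing.toD E)) =
      (Finset.Icc a b).sum fun i => (i.negOnePow : ℤ) • KZero.clSub (PP A) (E.X i) := by
  have h : QQ A (DRing.toD E) := ⟨E, a, b, hv, hp, ⟨Iso.refl _⟩⟩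
  rw [← χ_eq_sum E hv, ← χD_eq hv hp (Iso.refl _), ← ψ_cl h]
  obtain ⟨x, hx⟩ := equiv.surjective (KZero.clTr (QQ A) (DRing.toD E))
  rw [← hx, AddEquiv.symm_apply_apply]
  exact (DFunLike.congr_fun ψ_φ x).symm

end Groth.L29.KPerf
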