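import Groth.Agent.L22.SyzTilde.Resolution
import Groth.Agent.L13.KcohNilp
import Groth.Agent.L03.Euler.Twist
import Groth.Agent.L03.Euler.Basic
import Groth.Agent.L16.ProjSpace.TwistMul
import Groth.Agent.L16.CohKernel
import Groth.Agent.S1071
import Groth.Agent.S4466

/-! `K₀` of coherent sheaves on projective space. -/

set_option autoImplicit false
set_option backward.isDefEq.respectTransparency false
set_option linter.style.haveILetI false
universe u

open CategoryTheory CategoryTheory.Limits AlgebraicGeometry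

noncomputable section

namespace Groth.L29.ProjK0

local notation "cl" => KZero.clSub (fun M : Scheme.Modules _ => Coh.IsCoh M)

section General

variable {W : Scheme.{u}} [AlgebraicGeometry.IsNoetherian W]

theorem isCoh_and_cl : ∀ (m : ℕ) (f : Fin m → W.Modules), (∀ j, Coh.IsCoh (f j)) →
    Coh.IsCoh (∐ f) ∧ cl (∐ f) = ∑ j, cl (f j)
  | 0, f, _ => by
    have hz : IsZero (∐ f) := (IsZero.iff_id_eq_zero _).2 (Sigma.hom_ext _ _ fun i => i.elim0)
    have hc := Groth.L16.Devissage.isCoh_of_isZero hz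
    exact ⟨hc, (Groth.L29.KSub.clSub_zero _ hz hc).trans (Finset.sum_empty).symm⟩
  | m + 1, f, hf => by
    obtain ⟨h1, h2⟩ := isCoh_and_cl m (fun j => f j.succ) fun j => hf _
    let e := Groth.L29.DC.coprodFinSuccIso f
    have hb := Groth.L16.Devissage.isCoh_biprod (hf 0) h1
    refine ⟨Groth.L16.CohSupport.isCoh_of_iso e.symm hb, ?_⟩
    rw [← Groth.L13.KcohNilp.cl_iso e.symm hb, Groth.L29.KSub.clSub_biprod _ (hf 0) h1 hb, h2,
      Fin.sum_univ_succ]

/-- exact complexes: cokernels of the differentials have classes in any subgroup containing the terms -/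
theorem cl_coker_mem (H : AddSubgroup (SGA6.Kcoh W)) (C : ChainComplex W.Modules ℕ) (N : ℕ)
    (hC : ∀ i, Coh.IsCoh (C.X i)) (hH : ∀ i, cl (C.X i) ∈ H) (hN : ∀ i, N < i → IsZero (C.X i))
    (hex : ∀ i, 1 ≤ i → IsZero (C.homology i)) :
    ∀ d i, N + 1 ≤ i + d → cl (cokernel (C.d (i + 1) i)) ∈ H
  | 0, i, h => by
    have hz : IsZero (cokernel (C.d (i + 1) i)) :=
      IsZero.of_epi (cokernel.π _) (hN i (by omega))
    rw [Groth.L29.KSub.clSub_zero _ hz (Groth.L16.Devissage.isCoh_of_isZero hz)]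
    exact H.zero_mem
  | d + 1, i, h => by
    have hcok : ∀ j, Coh.IsCoh (cokernel (C.d (j + 1) j)) := fun j =>
      (Groth.L16.CohKernel.isCoh_kernel_cokernel (hC (j + 1)) (hC j) _).2
    let s := cokernel.desc (C.d (i + 1 + 1) (i + 1)) (C.d (i + 1) i) (C.d_comp_d _ _ _)
    have hE : (ShortComplex.mk (C.d (i + 1 + 1) (i + 1)) (C.d (i + 1) i) (C.d_comp_d _ _ _)).Exact :=
      (C.exactAt_iff' (i + 1 + 1) (i + 1) i (by simp) (by simp)).1
        ((C.exactAt_iff_isZero_homology _).2 (hex (i + 1) (by omega)))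
    haveI : Mono s := (ShortComplex.exact_iff_mono_cokernel_desc _).1 hE
    have hs : s ≫ cokernel.π (C.d (i + 1) i) = 0 := by
      rw [← cancel_epi (cokernel.π (C.d (i + 1 + 1) (i + 1)))]
      simp [s]
    let φ : ShortComplex.mk (C.d (i + 1) i) (cokernel.π (C.d (i + 1) i)) (cokernel.condition _) ⟶
        ShortComplex.mk s (cokernel.π (C.d (i + 1) i)) hs :=
      ShortComplex.homMk (cokernel.π _) (𝟙 _) (𝟙 _) (by simp [s]) (by simp)
    haveI : Epi φ.τ₁ := inferInstanceAs (Epi (cokernel.π _))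
    haveI : IsIso φ.τ₂ := inferInstanceAs (IsIso (𝟙 _))
    haveI : Mono φ.τ₃ := inferInstanceAs (Mono (𝟙 _))
    have hse : (ShortComplex.mk s (cokernel.π (C.d (i + 1) i)) hs).ShortExact :=
      { exact := (ShortComplex.exact_iff_of_epi_of_isIso_of_mono φ).1
          (ShortComplex.exact_of_g_is_cokernel _ (cokernelIsCokernel _))
        mono_f := ‹Mono s›, epi_g := inferInstance }
    have := Groth.L29.KSub.clSub_shortExact (fun M : W.Modules => Coh.IsCoh M) hse (hcok (i + 1)) (hC i) (hcok i)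
    have h' : cl (cokernel (C.d (i + 1) i)) = cl (C.X i) - cl (cokernel (C.d (i + 1 + 1) (i + 1))) :=
      eq_sub_of_add_eq' this.symm
    rw [h']
    exact H.sub_mem (hH i) (cl_coker_mem H C N hC hH hN hex d (i + 1) (by omega))

end General

variable (k : Type u) [Field k] (n : ℕ)

/-- twisting sheaf -/
abbrev O (d : ℤ) : (CohB1.ProjSpace n k).Modules := Twist.twistProjSpace n k d

instance isProper : IsProper (CohB1.ProjSpace n k ↘ Spec (CommRingCat.of k)) :=
  Groth.L16.ProjSpace.isProper_toSpec n k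

instance : AlgebraicGeometry.IsNoetherian (CohB1.ProjSpace n k) :=
  haveI := LocallyOfFiniteType.isLocallyNoetherian (CohB1.ProjSpace n k ↘ Spec (CommRingCat.of k))
  haveI := QuasiCompact.compactSpace_of_compactSpace (CohB1.ProjSpace n k ↘ Spec (CommRingCat.of k))
  { }

theorem isCoh_O (d : ℤ) : Coh.IsCoh (O k n d) :=
  Groth.L16.ProperFinite.isCoh_of_isInvertible (Groth.L16.ProjTwist.isInvertible_twistProjSpace n k d)

/-- the window subgroup -/
def H : AddSubgroup (SGA6.Kcoh (CohB1.ProjSpace n k)) :=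
  AddSubgroup.closure (Set.range fun i : Fin (n + 1) => cl (O k n (-((i : ℕ) : ℤ))))

/-- the Koszul relation -/
theorem koszul (a : ℤ) :
    (cl (O k n a) ∈ AddSubgroup.closure {y | ∃ i : ℕ, 1 ≤ i ∧ i ≤ n + 1 ∧ y = cl (O k n (a + i))}) ∧
    (cl (O k n (a + (n + 1 : ℕ))) ∈ AddSubgroup.closure {y | ∃ i : ℕ, i ≤ n ∧ y = cl (O k n (a + i))}) := by
  obtain ⟨C, hex, hX, hz⟩ := Groth.Agent.S1071.result n k a
  have hC : ∀ i : ℤ, Coh.IsCoh (C.X i) := fun i => by
    by_cases h : i < 0 ∨ (n : ℤ) + 1 < i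
    · exact Groth.L16.Devissage.isCoh_of_isZero (hz i h)
    · obtain ⟨j, rfl⟩ := Int.eq_ofNat_of_zero_le (show 0 ≤ i by omega)
      obtain ⟨e⟩ := hX j (by omega)
      exact Groth.L16.CohSupport.isCoh_of_iso e.symm (isCoh_and_cl _ _ fun _ => isCoh_O k n _).1
  -- images
  have hcok : ∀ i : ℤ, Coh.IsCoh (cokernel (C.d (i - 1) i)) := fun i =>
    (Groth.L16.CohKernel.isCoh_kernel_cokernel (hC (i - 1)) (hC i) _).2
  have rel : ∀ i : ℤ, cl (C.X i) = cl (cokernel (C.d (i - 1 - 1) (i - 1))) + cl (cokernel (C.d (i - 1) i)) := by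
    intro i
    let s := cokernel.desc (C.d (i - 1 - 1) (i - 1)) (C.d (i - 1) i) (C.d_comp_d _ _ _)
    haveI : Mono s := (ShortComplex.exact_iff_mono_cokernel_desc _).1
      ((C.exactAt_iff' (i - 1 - 1) (i - 1) i (by simp) (by simp)).1 (hex (i - 1)))
    have hs : s ≫ cokernel.π (C.d (i - 1) i) = 0 := by
      rw [← cancel_epi (cokernel.π (C.d (i - 1 - 1) (i - 1)))]
      simp [s]
    let φ : ShortComplex.mk (C.d (i - 1) i) (cokernel.π (C.d (i - 1) i)) (cokernel.condition _) ⟶
        ShortComplex.mk s (cokernel.π (C.d (i - 1) i)) hs :=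
      ShortComplex.homMk (cokernel.π _) (𝟙 _) (𝟙 _) (by simp [s]) (by simp)
    haveI : Epi φ.τ₁ := inferInstanceAs (Epi (cokernel.π _))
    haveI : IsIso φ.τ₂ := inferInstanceAs (IsIso (𝟙 _))
    haveI : Mono φ.τ₃ := inferInstanceAs (Mono (𝟙 _))
    exact Groth.L29.KSub.clSub_shortExact (fun M : (CohB1.ProjSpace n k).Modules => Coh.IsCoh M)
      (show (ShortComplex.mk s (cokernel.π (C.d (i - 1) i)) hs).ShortExact from
      { exact := (ShortComplex.exact_iff_of_epi_of_isIso_of_mono φ).1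
          (ShortComplex.exact_of_g_is_cokernel _ (cokernelIsCokernel _))
        mono_f := ‹Mono s›, epi_g := inferInstance }) (hcok (i - 1)) (hC i) (hcok i)
  -- alternating sum
  have zero_outside : ∀ i : ℤ, i < 0 ∨ (n : ℤ) + 1 < i → cl (cokernel (C.d (i - 1) i)) = 0 := fun i hi =>
    Groth.L29.KSub.clSub_zero _ (IsZero.of_epi (cokernel.π _) (hz i hi)) (hcok i)
  have term : ∀ i : ℕ, i ≤ n + 1 → cl (C.X i) = (Nat.choose (n + 1) i) • cl (O k n (a + i)) := fun i hi => by
    obtain ⟨e⟩ := hX i hi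
    rw [Groth.L13.KcohNilp.cl_iso e (hC i), (isCoh_and_cl _ _ fun _ => isCoh_O k n _).2,
      Finset.sum_const, Finset.card_univ, Fintype.card_fin]
  have top_zero : cl (cokernel (C.d (((n + 1 : ℕ) : ℤ) - 1) (n + 1 : ℕ))) = 0 := by
    have := rel ((n + 1 : ℕ) + 1 : ℤ)
    rw [Groth.L29.KSub.clSub_zero _ (hz _ (Or.inr (by omega))) (hC _),
      zero_outside (((n + 1 : ℕ) : ℤ) + 1) (Or.inr (by omega)), add_zero, add_sub_cancel_right] at this
    exact this.symm
  have bot : cl (cokernel (C.d (((0 : ℕ) : ℤ) - 1) (0 : ℕ))) = cl (C.X (0 : ℕ)) := by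
    rw [rel ((0 : ℕ) : ℤ), zero_outside (((0 : ℕ) : ℤ) - 1) (Or.inl (by omega)), zero_add]
  constructor
  · set K := AddSubgroup.closure {y | ∃ i : ℕ, 1 ≤ i ∧ i ≤ n + 1 ∧ y = cl (O k n (a + i))} with hK
    have key : ∀ d i : ℕ, i + d = n + 1 → cl (cokernel (C.d ((i : ℤ) - 1) i)) ∈ K := by
      intro d
      induction d with
      | zero => intro i hi; obtain rfl : i = n + 1 := by omega
                rw [top_zero]; exact K.zero_mem
      | succ d ih =>
        intro i hi
        have h := rel ((i + 1 : ℕ) : ℤ)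
        have h' : cl (cokernel (C.d ((i : ℤ) - 1) i)) =
            cl (C.X (i + 1 : ℕ)) - cl (cokernel (C.d (((i + 1 : ℕ) : ℤ) - 1) (i + 1 : ℕ))) := by
          rw [h, show (((i + 1 : ℕ) : ℤ) - 1) = i by omega]
          abel
        rw [h', term _ (by omega)]
        exact K.sub_mem (K.nsmul_mem (AddSubgroup.subset_closure ⟨i + 1, by omega, by omega, rfl⟩) _)
          (ih (i + 1) (by omega))
    have := key (n + 1) 0 (by omega)
    rw [bot, term 0 (by omega), Nat.choose_zero_right, one_smul] at this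
    simpa using this
  · set K := AddSubgroup.closure {y | ∃ i : ℕ, i ≤ n ∧ y = cl (O k n (a + i))} with hK
    have key : ∀ i : ℕ, i ≤ n → cl (cokernel (C.d ((i : ℤ) - 1) i)) ∈ K := by
      intro i
      induction i with
      | zero =>
        intro _
        rw [bot, term 0 (by omega)]
        exact K.nsmul_mem (AddSubgroup.subset_closure ⟨0, by omega, rfl⟩) _
      | succ i ih =>
        intro hi
        have h := rel ((i + 1 : ℕ) : ℤ)
        have h' : cl (cokernel (C.d (((i + 1 : ℕ) : ℤ) - 1) (i + 1 : ℕ))) =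
            cl (C.X (i + 1 : ℕ)) - cl (cokernel (C.d ((i : ℤ) - 1) i)) := by
          rw [h, show (((i + 1 : ℕ) : ℤ) - 1) = i by omega]
          abel
        rw [h', term _ (by omega)]
        exact K.sub_mem (K.nsmul_mem (AddSubgroup.subset_closure ⟨i + 1, by omega, rfl⟩) _) (ih (by omega))
    have h := rel ((n + 1 : ℕ) : ℤ)
    rw [top_zero, add_zero, term _ le_rfl, Nat.choose_self, one_smul] at h
    rw [h, show (((n + 1 : ℕ) : ℤ) - 1) = n by omega]
    exact key n le_rfl

theorem O_mem (d : ℤ) : cl (O k n d) ∈ H k n := by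
  have win : ∀ i : ℕ, i ≤ n → cl (O k n (-(i : ℤ))) ∈ H k n := fun i hi =>
    AddSubgroup.subset_closure ⟨⟨i, by omega⟩, rfl⟩
  have main : ∀ m : ℕ, ∀ d : ℤ, -(n : ℤ) - m ≤ d → d ≤ m → cl (O k n d) ∈ H k n := by
    intro m
    induction m with
    | zero =>
      intro d h1 h2
      obtain ⟨i, rfl⟩ : ∃ i : ℕ, d = -(i : ℤ) := ⟨(-d).toNat, by omega⟩
      exact win i (by omega)
    | succ m ih =>
      intro d h1 h2
      by_cases hlo : d < -(n : ℤ) - m
      · refine (AddSubgroup.closure_le _).2 ?_ (koszul k n d).1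
        rintro _ ⟨i, h3, h4, rfl⟩
        exact ih _ (by omega) (by omega)
      · by_cases hhi : (m : ℤ) < d
        · have := (koszul k n (d - (n + 1 : ℕ))).2
          rw [sub_add_cancel] at this
          refine (AddSubgroup.closure_le _).2 ?_ this
          rintro _ ⟨i, h4, rfl⟩
          exact ih _ (by omega) (by omega)
        · exact ih d (by omega) (by omega)
  exact main d.natAbs d (by omega) (by omega)

theorem H_eq_top : H k n = ⊤ := by
  refine top_le_iff.1 fun x _ => ?_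
  have hx : x ∈ Groth.L13.KcohNilp.S (Set.univ : Set (CohB1.ProjSpace n k)) := by
    rw [Groth.L13.KcohNilp.S_univ]; trivial
  refine ((AddSubgroup.closure_le _).2 ?_) hx
  rintro _ ⟨M, hM, -, rfl⟩
  obtain ⟨C, π, w, hlen, hX, hex, hπ, he⟩ := Groth.L22.SyzTilde.exists_resolution (k := k) n M hM
  have hC : ∀ i, Coh.IsCoh (C.X i) ∧ cl (C.X i) ∈ H k n := fun i => by
    obtain ⟨m, d, ⟨e⟩⟩ := hX i
    obtain ⟨hc, hs⟩ := isCoh_and_cl m (fun j => O k n (d j)) fun j => isCoh_O k n _
    refine ⟨Groth.L16.CohSupport.isCoh_of_iso e.symm hc, ?_⟩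
    rw [Groth.L13.KcohNilp.cl_iso e (Groth.L16.CohSupport.isCoh_of_iso e.symm hc), hs]
    exact sum_mem fun j _ => O_mem k n _
  have hmem := cl_coker_mem (H k n) C (n + 1) (fun i => (hC i).1) (fun i => (hC i).2) hlen hex (n + 2) 0 (by omega)
  haveI : Epi π := hπ
  haveI : IsIso (cokernel.desc (C.d 1 0) π w) := by
    haveI : Mono (cokernel.desc (C.d 1 0) π w) := (ShortComplex.exact_iff_mono_cokernel_desc _).1 he
    haveI : Epi (cokernel.desc (C.d 1 0) π w) := epi_of_epi_fac (cokernel.π_desc _ _ _)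
    exact isIso_of_mono_of_epi _
  rw [← Groth.L13.KcohNilp.cl_iso (asIso (cokernel.desc (C.d 1 0) π w))
    (Groth.L16.CohKernel.isCoh_kernel_cokernel (hC 1).1 (hC 0).1 _).2]
  exact hmem

/-- Euler characteristic of a twist -/
def χ (m : ℤ) (M : (CohB1.ProjSpace n k).Modules) : ℤ :=
  Curv2.euler k (CohB1.ProjSpace n k) (CohB1.tensorMod M (O k n m))

theorem χ_add (m : ℤ) (S : ShortComplex (CohB1.ProjSpace n k).Modules) (hS : S.ShortExact)
    (h₁ : Coh.IsCoh S.X₁) (h₂ : Coh.IsCoh S.X₂) (h₃ : Coh.IsCoh S.X₃) :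
    χ k n m S.X₂ = χ k n m S.X₁ + χ k n m S.X₃ := by
  have hm : PicF.IsInvertible (O k n m) := Groth.L16.ProjTwist.isInvertible_twistProjSpace n k m
  have := Groth.L03.Euler.euler_add (k := k) (X := CohB1.ProjSpace n k)
    (S := S.map (Groth.L00.Tensor.tensorRightF (O k n m)))
    (Groth.L03.Euler.shortExact_tensor hm hS)
    (Groth.L03.Euler.isCoh_tensor hm h₁) (Groth.L03.Euler.isCoh_tensor hm h₂)
    (Groth.L03.Euler.isCoh_tensor hm h₃)
  exact this

theorem euler_O_neg {d : ℤ} (h1 : -(n : ℤ) ≤ d) (h2 : d < 0) :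
    Curv2.euler k (CohB1.ProjSpace n k) (O k n d) = 0 := by
  have h : ∀ q, Subsingleton (Coh.HH (CohB1.ProjSpace n k) (O k n d) q) := fun q =>
    Groth.L16.ProjSpace.subsingleton_HH_twist n k d q (by omega) (by omega)
  rw [Groth.L03.Euler.euler_eq_sum (k := k) (N := 0) fun q _ => h q]
  rfl

theorem euler_O_zero : Curv2.euler k (CohB1.ProjSpace n k) (O k n 0) = 1 := by
  have h : ∀ q, 1 ≤ q → Subsingleton (Coh.HH (CohB1.ProjSpace n k) (O k n 0) q) := fun q hq =>
    Groth.L16.ProjSpace.subsingleton_HH_twist n k 0 q (by omega) (by omega)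
  rw [Groth.L03.Euler.euler_eq_sum (k := k) (N := 1) h, Finset.sum_range_one]
  obtain ⟨e⟩ := Groth.L16.ProjSpace.nonempty_H0_twist_linearEquiv (n := n) (R := k) 0
  rw [show (O k n 0) = Twist.twistProjSpace n k ((0 : ℕ) : ℤ) from rfl, e.finrank_eq,
    (Groth.L03.PlanePoints.finrank_homogeneous (F := k) n 0).2]
  simp

theorem χ_O (m d : ℤ) : χ k n m (O k n d) = Curv2.euler k (CohB1.ProjSpace n k) (O k n (d + m)) := by
  obtain ⟨e⟩ := Groth.L16.ProjTwist.nonempty_tensor_twist_iso_one (CohB1.polyGrading n k)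
    (fun x => (Groth.L16.ProjSpace.exists_mem_basicOpen_X n k x).elim fun i hi =>
      ⟨⟨_, Groth.L16.ProjSpace.X_mem n k i⟩, hi⟩) d m
  exact Groth.L03.Euler.euler_iso e

/-- the window is a basis -/
theorem bijective : Function.Bijective (fun a : Fin (n + 1) → ℤ =>
    ∑ i : Fin (n + 1), a i • cl (O k n (-((i : ℕ) : ℤ)))) := by
  constructor
  · intro a b hab
    suffices h : ∀ c : Fin (n + 1) → ℤ, (∑ i, c i • cl (O k n (-((i : ℕ) : ℤ)))) = 0 → c = 0 by
      refine sub_eq_zero.1 (h (a - b) ?_)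
      simp only [Pi.sub_apply, sub_smul, Finset.sum_sub_distrib]
      exact sub_eq_zero.2 hab
    intro c hc
    funext j
    induction hj : (j : ℕ) using Nat.strong_induction_on generalizing j with
    | _ v ih =>
      subst hj
      let L := Groth.L29.KSub.lift (P := fun M : (CohB1.ProjSpace n k).Modules => Coh.IsCoh M)
        (χ k n (j : ℕ)) (χ_add k n _)
      have h0 := congrArg L hc
      rw [map_sum, map_zero, Finset.sum_eq_single j] at h0
      · rw [map_zsmul, Groth.L29.KSub.lift_clSub _ _ (isCoh_O k n _), χ_O, neg_add_cancel, euler_O_zero,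
          smul_eq_mul, mul_one] at h0
        exact h0
      · intro i _ hi
        rcases lt_or_ge (i : ℕ) (j : ℕ) with hlt | hge
        · rw [ih _ hlt i rfl]; simp
        · have : (j : ℕ) < i := lt_of_le_of_ne hge fun e => hi (Fin.ext e.symm)
          rw [map_zsmul, Groth.L29.KSub.lift_clSub _ _ (isCoh_O k n _), χ_O,
            euler_O_neg k n (by omega) (by omega), smul_zero]
      · simp
  · intro x
    have hx : x ∈ H k n := by rw [H_eq_top]; trivial
    have hr : H k n ≤ AddMonoidHom.range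
      (AddMonoidHom.mk' (fun a : Fin (n + 1) → ℤ => ∑ i, a i • cl (O k n (-((i : ℕ) : ℤ))))
        fun a b => by simp only [Pi.add_apply, add_smul, Finset.sum_add_distrib]) := by
      refine (AddSubgroup.closure_le _).2 ?_
      rintro _ ⟨i, rfl⟩
      classical
      refine ⟨Pi.single i 1, ?_⟩
      simp [Pi.single_apply]
    exact hr hx

end Groth.L29.ProjK0
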