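import Groth.Agent.L29.K.Sub
import Groth.Prelude.Def_SGA6
import Mathlib.CategoryTheory.Abelian.Refinements
import Mathlib.Algebra.Homology.ShortComplex.HomologicalComplex

/-!
Grothendieck's resolution theorem for `K₀`.
-/

universe v u

open CategoryTheory CategoryTheory.Limits ZeroObject

namespace Groth.L29.Resolution

variable {C : Type u} [Category.{v} C] [Abelian C]

/-- kernels of an epimorphism of short exact sequences form a short exact sequence -/
lemma shortExact_kernels {T S : ShortComplex C} (hT : T.ShortExact) (hS : S.ShortExact) (φ : T ⟶ S)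
    [Epi φ.τ₁] :
    (ShortComplex.mk (kernel.map φ.τ₁ φ.τ₂ T.f S.f φ.comm₁₂) (kernel.map φ.τ₂ φ.τ₃ T.g S.g φ.comm₂₃)
      (by ext; simp)).ShortExact := by
  haveI := hT.mono_f
  haveI := hT.epi_g
  haveI := hS.mono_f
  refine ShortComplex.ShortExact.mk' ?_ ?_ ?_
  · rw [ShortComplex.exact_iff_exact_up_to_refinements]
    intro A x hx
    have h1 : (x ≫ kernel.ι φ.τ₂) ≫ T.g = 0 := by
      have := congrArg (· ≫ kernel.ι φ.τ₃) hx
      simpa using this
    let b := hT.exact.lift _ h1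
    have hb : b ≫ T.f = x ≫ kernel.ι φ.τ₂ := hT.exact.lift_f _ h1
    have hb' : b ≫ φ.τ₁ = 0 := by
      rw [← cancel_mono S.f, Category.assoc, φ.comm₁₂, reassoc_of% hb, kernel.condition, comp_zero, zero_comp]
    exact ⟨A, 𝟙 A, inferInstance, kernel.lift _ b hb', by ext; simp [hb]⟩
  · haveI : Mono (kernel.map φ.τ₁ φ.τ₂ T.f S.f φ.comm₁₂ ≫ kernel.ι φ.τ₂) := by
      rw [kernel.lift_ι]
      infer_instance
    exact mono_of_mono _ (kernel.ι φ.τ₂)
  · rw [epi_iff_surjective_up_to_refinements]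
    intro A x
    obtain ⟨A₁, π₁, _, y, hy⟩ := surjective_up_to_refinements_of_epi T.g (x ≫ kernel.ι φ.τ₃)
    have h1 : (y ≫ φ.τ₂) ≫ S.g = 0 := by
      rw [Category.assoc, φ.comm₂₃, ← reassoc_of% hy, kernel.condition, comp_zero, comp_zero]
    let a := hS.exact.lift _ h1
    have ha : a ≫ S.f = y ≫ φ.τ₂ := hS.exact.lift_f _ h1
    obtain ⟨A₂, π₂, _, b, hb⟩ := surjective_up_to_refinements_of_epi φ.τ₁ a
    have hz : (π₂ ≫ y - b ≫ T.f) ≫ φ.τ₂ = 0 := by
      rw [Preadditive.sub_comp, Category.assoc, Category.assoc, ← φ.comm₁₂, ← ha, ← reassoc_of% hb, sub_self]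
    exact ⟨A₂, π₂ ≫ π₁, inferInstance, kernel.lift _ _ hz, by ext; simp [hy]⟩

variable (P₀ P₁ : ObjectProperty C)

/-- objects of resolution length at most `n`, for all choices -/
def D : ℕ → C → Prop
  | 0, A => P₀ A
  | n + 1, A => P₁ A ∧ ∀ (K L : C) (i : K ⟶ L) (f : L ⟶ A) (w : i ≫ f = 0),
      (ShortComplex.mk i f w).ShortExact → P₀ L → D n K

variable [P₀.IsClosedUnderIsomorphisms] [P₁.IsClosedUnderIsomorphisms]

/-- the hypotheses -/
structure Hyp : Prop where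
  le : ∀ X, P₀ X → P₁ X
  ext₀ : ∀ S : ShortComplex C, S.ShortExact → P₀ S.X₁ → P₀ S.X₃ → P₀ S.X₂
  ext₁ : ∀ S : ShortComplex C, S.ShortExact → P₁ S.X₁ → P₁ S.X₃ → P₁ S.X₂
  ker₀ : ∀ S : ShortComplex C, S.ShortExact → P₀ S.X₂ → P₀ S.X₃ → P₀ S.X₁
  ker₁ : ∀ S : ShortComplex C, S.ShortExact → P₁ S.X₂ → P₁ S.X₃ → P₁ S.X₁
  cover : ∀ (A B D : C) (u : A ⟶ B) (v : D ⟶ B), Epi u → P₁ A → P₁ B → P₁ D →
    ∃ (L : C) (u' : L ⟶ D) (v' : L ⟶ A), P₀ L ∧ Epi u' ∧ u' ≫ v = v' ≫ u

variable {P₀ P₁} (H : Hyp P₀ P₁)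
include H

lemma exists_cover {A : C} (hA : P₁ A) : ∃ (L : C) (f : L ⟶ A), Epi f ∧ P₀ L := by
  obtain ⟨L, u, -, hL, hu, -⟩ := H.cover A A A (𝟙 A) (𝟙 A) inferInstance hA hA hA
  exact ⟨L, u, hu, hL⟩

/-- the chosen cover -/
noncomputable def cov {A : C} (hA : P₁ A) : C := (exists_cover H hA).choose

/-- the map of the chosen cover -/
noncomputable def covMap {A : C} (hA : P₁ A) : cov H hA ⟶ A := (exists_cover H hA).choose_spec.choose

lemma epi_covMap {A : C} (hA : P₁ A) : Epi (covMap H hA) :=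
  (exists_cover H hA).choose_spec.choose_spec.1

lemma cov_mem {A : C} (hA : P₁ A) : P₀ (cov H hA) :=
  (exists_cover H hA).choose_spec.choose_spec.2

lemma shortExact_kernel {L A : C} (f : L ⟶ A) [Epi f] :
    (ShortComplex.mk (kernel.ι f) f (kernel.condition f)).ShortExact :=
  ShortComplex.ShortExact.mk' (ShortComplex.exact_of_f_is_kernel _ (kernelIsKernel f)) inferInstance inferInstance

lemma shortExact_cov {A : C} (hA : P₁ A) :
    (ShortComplex.mk (kernel.ι (covMap H hA)) (covMap H hA) (kernel.condition _)).ShortExact :=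
  haveI := epi_covMap H hA
  shortExact_kernel H (covMap H hA)

lemma prop₁_of_D : ∀ {n : ℕ} {A : C}, D P₀ P₁ n A → P₁ A
  | 0, _, h => H.le _ h
  | _ + 1, _, h => h.1

lemma D_succ : ∀ (n : ℕ) {A : C}, D P₀ P₁ n A → D P₀ P₁ (n + 1) A := by
  intro n
  induction n with
  | zero => exact fun h => ⟨H.le _ h, fun K L i f w hS hL => H.ker₀ _ hS hL h⟩
  | succ n ih => exact fun h => ⟨h.1, fun K L i f w hS hL => ih (h.2 K L i f w hS hL)⟩

lemma D_mono {m n : ℕ} (hmn : m ≤ n) {A : C} (h : D P₀ P₁ m A) : D P₀ P₁ n A := by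
  induction hmn with
  | refl => exact h
  | step _ ih => exact D_succ H _ ih

lemma zero_mem {A : C} (hA : P₁ A) : P₀ (0 : C) :=
  H.ker₀ _ (KSub.shortExact_of_iso (Iso.refl (cov H hA)) (isZero_zero C)) (cov_mem H hA) (cov_mem H hA)

lemma biprod_mem {X Y : C} (hX : P₀ X) (hY : P₀ Y) : P₀ (X ⊞ Y) :=
  H.ext₀ _ (ShortComplex.Splitting.ofHasBinaryBiproduct X Y).shortExact hX hY

open Classical in
/-- the Euler characteristic of a resolution of length `n` -/
noncomputable def χ : ℕ → C → KZero.K0sub P₀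
  | 0, A => KZero.clSub P₀ A
  | n + 1, A => if h : P₁ A then KZero.clSub P₀ (cov H h) - χ n (kernel (covMap H h)) else 0

/-- additivity in degree `n` -/
def Additive' (n : ℕ) : Prop :=
  ∀ S : ShortComplex C, S.ShortExact → D P₀ P₁ n S.X₁ → D P₀ P₁ n S.X₂ → D P₀ P₁ n S.X₃ →
    χ H n S.X₂ = χ H n S.X₁ + χ H n S.X₃

/-- compatibility with classes in degree `n` -/
def Base (n : ℕ) : Prop := ∀ W, P₀ W → χ H n W = KZero.clSub P₀ W

lemma χ_iso {n : ℕ} (ha : Additive' H n) (hb : Base H n) {X Y : C} (e : X ≅ Y)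
    (hX : D P₀ P₁ n X) (hY : D P₀ P₁ n Y) : χ H n X = χ H n Y := by
  have h0 := zero_mem H (prop₁_of_D H hX)
  have := ha _ (KSub.shortExact_of_iso e (isZero_zero C)) (D_mono H (Nat.zero_le n) h0) hX hY
  rw [hb _ h0, KSub.clSub_zero P₀ (isZero_zero C) h0, zero_add] at this
  exact this

/-- every cover computes the next Euler characteristic -/
lemma χ_succ {n : ℕ} (ha : Additive' H n) (hb : Base H n) {K L A : C} {i : K ⟶ L} {f : L ⟶ A}
    {w : i ≫ f = 0} (hS : (ShortComplex.mk i f w).ShortExact) (hL : P₀ L) (hA : D P₀ P₁ (n + 1) A) :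
    χ H (n + 1) A = KZero.clSub P₀ L - χ H n K := by
  have hP := hA.1
  haveI := hS.epi_g
  haveI : Epi (covMap H hP) := epi_covMap H hP
  rw [χ, dif_pos hP]
  -- a common refinement of the two covers
  obtain ⟨L₁, u₁, v₁, hL₁, _, e₁⟩ := H.cover _ _ _ f (covMap H hP) inferInstance (H.le _ hL) hP
    (H.le _ (cov_mem H hP))
  obtain ⟨L₂, u₂, v₂, hL₂, _, e₂⟩ := H.cover _ _ _ (covMap H hP) f inferInstance (H.le _ (cov_mem H hP))
    hP (H.le _ hL)
  have key : ∀ (L' : C) (f' : L' ⟶ A) (_ : Epi f') (g : L₁ ⊞ L₂ ⟶ L') (_ : Epi g), P₀ L' →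
      ∀ (K' : C) (i' : K' ⟶ L') (w' : i' ≫ f' = 0), (ShortComplex.mk i' f' w').ShortExact →
      KZero.clSub P₀ L' - χ H n K' = KZero.clSub P₀ (L₁ ⊞ L₂) - χ H n (kernel (g ≫ f')) := by
    intro L' f' _ g _ hL' K' i' w' hS'
    have hN := biprod_mem H hL₁ hL₂
    have hg := shortExact_kernel H g
    have hW := H.ker₀ _ hg hN hL'
    haveI hm : Mono i' := hS'.mono_f
    haveI := hS'.mono_f
    let ψ : kernel (g ≫ f') ⟶ K' := hS'.exact.lift (kernel.ι (g ≫ f') ≫ g) (by simp)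
    have hψ : ψ ≫ i' = kernel.ι (g ≫ f') ≫ g := hS'.exact.lift_f _ _
    let j : kernel g ⟶ kernel (g ≫ f') := kernel.lift _ (kernel.ι g) (by simp)
    have hjψ : j ≫ ψ = 0 := by rw [← cancel_mono i', Category.assoc, hψ, zero_comp]; simp [j]
    have hse : (ShortComplex.mk j ψ hjψ).ShortExact := by
      refine ShortComplex.ShortExact.mk' ?_ ?_ ?_
      · rw [ShortComplex.exact_iff_exact_up_to_refinements]
        intro T x hx
        have : (x ≫ kernel.ι (g ≫ f')) ≫ g = 0 := by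
          have := congrArg (· ≫ i') hx
          simpa [hψ] using this
        exact ⟨T, 𝟙 T, inferInstance, kernel.lift g _ this, (cancel_mono (kernel.ι (g ≫ f'))).1 (by simp [j])⟩
      · exact mono_of_mono_fac (kernel.lift_ι _ _ _ : j ≫ kernel.ι (g ≫ f') = kernel.ι g)
      · rw [epi_iff_surjective_up_to_refinements]
        intro T x
        obtain ⟨T', π, _, y, hy⟩ := surjective_up_to_refinements_of_epi g (x ≫ i')
        have : y ≫ g ≫ f' = 0 := by rw [← reassoc_of% hy, w', comp_zero, comp_zero]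
        refine ⟨T', π, inferInstance, kernel.lift _ y this, ?_⟩
        rw [← cancel_mono i', Category.assoc, Category.assoc, hψ]
        simpa using hy
    have h1 := ha _ hse (D_mono H (Nat.zero_le n) hW)
      (hA.2 _ _ _ _ (kernel.condition _) (shortExact_kernel H (g ≫ f')) hN) (hA.2 _ _ _ _ w' hS' hL')
    rw [hb _ hW] at h1
    have h2 := KSub.clSub_shortExact P₀ hg hW hN hL'
    change KZero.clSub P₀ (L₁ ⊞ L₂) = _ at h2
    rw [h1, h2]
    dsimp
    abel
  let g : L₁ ⊞ L₂ ⟶ cov H hP := biprod.desc u₁ v₂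
  let g' : L₁ ⊞ L₂ ⟶ L := biprod.desc v₁ u₂
  haveI : Epi g := epi_of_epi_fac (biprod.inl_desc u₁ v₂)
  haveI : Epi g' := epi_of_epi_fac (biprod.inr_desc v₁ u₂)
  have hgg : g ≫ covMap H hP = g' ≫ f := by
    refine biprod.hom_ext' _ _ ?_ ?_
    · simpa [g, g'] using e₁
    · simpa [g, g'] using e₂.symm
  rw [key _ (covMap H hP) inferInstance g inferInstance (cov_mem H hP) _ _ _ (shortExact_cov H hP),
    key L f inferInstance g' inferInstance hL K i w hS]
  congr 1
  exact χ_iso H ha hb (kernelIsoOfEq hgg)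
    (hA.2 _ _ _ _ (kernel.condition _) (shortExact_kernel H (g ≫ covMap H hP)) (biprod_mem H hL₁ hL₂))
    (hA.2 _ _ _ _ (kernel.condition _) (shortExact_kernel H (g' ≫ f)) (biprod_mem H hL₁ hL₂))

theorem additive_base : ∀ n, Additive' H n ∧ Base H n := by
  intro n
  induction n with
  | zero => exact ⟨fun S hS h₁ h₂ h₃ => KSub.clSub_shortExact P₀ hS h₁ h₂ h₃, fun W _ => rfl⟩
  | succ n ih =>
    obtain ⟨ha, hb⟩ := ih
    refine ⟨fun S hS h₁ h₂ h₃ => ?_, fun W hW => ?_⟩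
    · haveI := hS.epi_g
      obtain ⟨L'', u, v, hL'', _, e⟩ := H.cover S.X₂ S.X₃ S.X₃ S.g (𝟙 _) inferInstance h₂.1 h₃.1 h₃.1
      rw [Category.comp_id] at e
      obtain ⟨L', p, _, hL'⟩ := exists_cover H h₁.1
      have hT := (ShortComplex.Splitting.ofHasBinaryBiproduct L' L'').shortExact
      let φ : ShortComplex.mk (biprod.inl : L' ⟶ L' ⊞ L'') biprod.snd (by simp) ⟶ S :=
        ShortComplex.homMk p (biprod.desc (p ≫ S.f) v) u (by simp) (by
          refine biprod.hom_ext' _ _ ?_ ?_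
          · simp
          · simp [← e])
      haveI : Epi φ.τ₁ := ‹Epi p›
      haveI : Epi φ.τ₃ := ‹Epi u›
      haveI := hT.epi_g
      haveI : Epi φ.τ₂ := ShortComplex.epi_τ₂_of_exact_of_epi φ hS.exact
      have hk := shortExact_kernels hT hS φ
      have hN := biprod_mem H hL' hL''
      rw [χ_succ H ha hb (shortExact_kernel H φ.τ₁) hL' h₁, χ_succ H ha hb (shortExact_kernel H φ.τ₂) hN h₂,
        χ_succ H ha hb (shortExact_kernel H φ.τ₃) hL'' h₃]
      have h4 := ha _ hk (h₁.2 _ _ _ _ (kernel.condition _) (shortExact_kernel H φ.τ₁) hL')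
        (h₂.2 _ _ _ _ (kernel.condition _) (shortExact_kernel H φ.τ₂) hN)
        (h₃.2 _ _ _ _ (kernel.condition _) (shortExact_kernel H φ.τ₃) hL'')
      dsimp at h4 ⊢
      rw [h4, KSub.clSub_biprod P₀ hL' hL'' hN]
      abel
    · have h0 := zero_mem H (H.le _ hW)
      have := χ_succ H ha hb (KSub.shortExact_of_iso (Iso.refl W) (isZero_zero C)) hW
        (D_mono H (Nat.zero_le _) hW)
      rw [hb _ h0, KSub.clSub_zero P₀ (isZero_zero C) h0, sub_zero] at this
      exact this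

lemma χ_le {m n : ℕ} (hmn : m ≤ n) {A : C} (h : D P₀ P₁ m A) : χ H n A = χ H m A := by
  suffices key : ∀ (k : ℕ) {A : C}, D P₀ P₁ k A → χ H (k + 1) A = χ H k A by
    induction hmn with
    | refl => rfl
    | step hle ih => rw [key _ (D_mono H hle h), ih]
  intro k
  induction k with
  | zero => exact fun hA => (additive_base H 1).2 _ hA
  | succ k ih =>
    intro A hA
    rw [χ, dif_pos hA.1]
    conv_rhs => rw [χ, dif_pos hA.1]
    rw [ih (hA.2 _ _ _ _ _ (shortExact_cov H hA.1) (cov_mem H hA.1))]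

/-- `K₀(P₀) = K₀(P₁)` -/
theorem bijective (hfin : ∀ A, P₁ A → ∃ n, D P₀ P₁ n A) :
    Function.Bijective (SGA6.mapSub (𝟭 C) P₀ P₁ H.le) := by
  classical
  let f : C → KZero.K0sub P₀ := fun A => if h : P₁ A then χ H (hfin A h).choose A else 0
  have hf : ∀ {n : ℕ} {A : C}, D P₀ P₁ n A → f A = χ H n A := fun {n A} hA => by
    have hP := prop₁_of_D H hA
    simp only [f, dif_pos hP]
    rw [← χ_le H (le_max_left _ n) (hfin A hP).choose_spec, χ_le H (le_max_right _ n) hA]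
  let ψ : KZero.K0sub P₁ →+ KZero.K0sub P₀ := KSub.lift f fun S hS h₁ h₂ h₃ => by
    obtain ⟨a, ha⟩ := hfin _ h₁
    obtain ⟨b, hb⟩ := hfin _ h₂
    obtain ⟨c, hc⟩ := hfin _ h₃
    let N := max a (max b c)
    have hN1 := D_mono H (show a ≤ N from le_max_left _ _) ha
    have hN2 := D_mono H (show b ≤ N from (le_max_left _ _).trans (le_max_right _ _)) hb
    have hN3 := D_mono H (show c ≤ N from (le_max_right _ _).trans (le_max_right _ _)) hc
    rw [hf hN1, hf hN2, hf hN3]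
    exact (additive_base H N).1 S hS hN1 hN2 hN3
  have hmap : ∀ X, P₀ X → SGA6.mapSub (𝟭 C) P₀ P₁ H.le (KZero.clSub P₀ X) = KZero.clSub P₁ X := by
    intro X hX
    rw [KSub.clSub_of P₀ hX, KSub.clSub_of P₁ (H.le X hX)]
    rfl
  have hleft : ψ.comp (SGA6.mapSub (𝟭 C) P₀ P₁ H.le) = AddMonoidHom.id _ := KSub.hom_ext fun X hX => by
    rw [AddMonoidHom.comp_apply, hmap X hX, KSub.lift_clSub _ _ (H.le X hX), hf (n := 0) hX]
    rfl
  have hgen : ∀ (n : ℕ) (A : C), D P₀ P₁ n A → KZero.clSub P₁ A ∈ (SGA6.mapSub (𝟭 C) P₀ P₁ H.le).range := by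
    intro n
    induction n with
    | zero => exact fun A hA => ⟨_, hmap A hA⟩
    | succ n ih =>
      intro A hA
      have hse := shortExact_cov H hA.1
      have hK := hA.2 _ _ _ _ _ hse (cov_mem H hA.1)
      have h := KSub.clSub_shortExact P₁ hse (prop₁_of_D H hK) (H.le _ (cov_mem H hA.1)) hA.1
      dsimp at h
      rw [← add_sub_cancel_left (KZero.clSub P₁ (kernel (covMap H hA.1))) (KZero.clSub P₁ A), ← h]
      exact sub_mem ⟨_, hmap _ (cov_mem H hA.1)⟩ (ih _ hK)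
  refine ⟨fun x y hxy => ?_, fun y => ?_⟩
  · have := congrArg ψ hxy
    rwa [← AddMonoidHom.comp_apply, ← AddMonoidHom.comp_apply, hleft] at this
  · induction y using QuotientAddGroup.induction_on with
    | H z =>
      refine AddMonoidHom.mem_range.1 ?_
      induction z using FreeAbelianGroup.induction_on with
      | zero => exact ⟨0, map_zero _⟩
      | of X =>
        obtain ⟨n, hn⟩ := hfin _ X.2
        have := hgen n _ hn
        rwa [KSub.clSub_of P₁ X.2] at this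
      | neg X hX =>
        obtain ⟨a, ha⟩ := hX
        exact ⟨-a, by rw [map_neg, ha]; rfl⟩
      | add a b ha hb => exact add_mem ha hb

section Syzygy

/-- an infinite resolution, cut into short exact sequences -/
structure Stream (P₀ : ObjectProperty C) (A : C) where
  Z : ℕ → C
  L : ℕ → C
  i : ∀ n, Z (n + 1) ⟶ L n
  p : ∀ n, L n ⟶ Z n
  w : ∀ n, i n ≫ p n = 0
  exact : ∀ n, (ShortComplex.mk (i n) (p n) (w n)).ShortExact
  mem : ∀ n, P₀ (L n)
  start : Z 0 ≅ A

/-- the syzygies of the chosen resolution -/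
noncomputable def chosen {A : C} (hA : P₁ A) : ℕ → {X : C // P₁ X}
  | 0 => ⟨A, hA⟩
  | n + 1 => ⟨kernel (covMap H (chosen hA n).2),
      H.ker₁ _ (shortExact_cov H (chosen hA n).2) (H.le _ (cov_mem H (chosen hA n).2)) (chosen hA n).2⟩

/-- the chosen resolution -/
noncomputable def defaultStream {A : C} (hA : P₁ A) : Stream P₀ A where
  Z n := (chosen H hA n).1
  L n := cov H (chosen H hA n).2
  i n := kernel.ι (covMap H (chosen H hA n).2)
  p n := covMap H (chosen H hA n).2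
  w n := kernel.condition _
  exact n := shortExact_cov H (chosen H hA n).2
  mem n := cov_mem H (chosen H hA n).2
  start := Iso.refl _

omit H in
/-- prepend a cover -/
noncomputable def Stream.prepend {A K : C} (s : Stream P₀ K) {L : C} (i : K ⟶ L) (f : L ⟶ A)
    (w : i ≫ f = 0) (hS : (ShortComplex.mk i f w).ShortExact) (hL : P₀ L) : Stream P₀ A where
  Z n := Nat.casesOn n A s.Z
  L n := Nat.casesOn n L s.L
  i n := match n with
    | 0 => s.start.hom ≫ i
    | n + 1 => s.i n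
  p n := match n with
    | 0 => f
    | n + 1 => s.p n
  w n := match n with
    | 0 => by simp [w]
    | n + 1 => s.w n
  exact n := match n with
    | 0 => ShortComplex.shortExact_of_iso (S₁ := ShortComplex.mk i f w)
        (S₂ := ShortComplex.mk (s.start.hom ≫ i) f (by rw [Category.assoc, w, comp_zero]))
        (ShortComplex.isoMk s.start.symm (Iso.refl _) (Iso.refl _) (by simp) (by simp)) hS
    | n + 1 => s.exact n
  mem n := match n with
    | 0 => hL
    | n + 1 => s.mem n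
  start := Iso.refl _

omit H in
lemma Stream.exists_complex {A : C} (s : Stream P₀ A) :
    ∃ L : ChainComplex C ℕ, (∀ i, P₀ (L.X i)) ∧ (∀ i, 1 ≤ i → L.ExactAt i) ∧
      Nonempty (L.homology 0 ≅ A) ∧ ∀ d, Nonempty (L.cycles (d + 1) ≅ s.Z (d + 2)) := by
  let L : ChainComplex C ℕ := ChainComplex.of s.L (fun n => s.p (n + 1) ≫ s.i n)
    (fun n => by rw [Category.assoc, reassoc_of% (s.w (n + 1)), zero_comp, comp_zero])
  have hd : ∀ n, L.d (n + 1) n = s.p (n + 1) ≫ s.i n := fun n =>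
    ChainComplex.of_d s.L (fun m => s.p (m + 1) ≫ s.i m) n
  refine ⟨L, s.mem, fun i hi => ?_, ?_, fun d => ?_⟩
  · obtain ⟨n, rfl⟩ : ∃ n, i = n + 1 := ⟨i - 1, by omega⟩
    rw [L.exactAt_iff' (n + 1 + 1) (n + 1) n (by simp) (by simp)]
    haveI := (s.exact n).mono_f
    haveI := (s.exact (n + 1 + 1)).epi_g
    let S' := ShortComplex.mk (L.d (n + 1 + 1) (n + 1)) (s.p (n + 1))
      (by rw [hd]; exact (Category.assoc _ _ _).trans ((congrArg _ (s.w (n + 1))).trans comp_zero))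
    let φ : S' ⟶ L.sc' (n + 1 + 1) (n + 1) n :=
      ShortComplex.homMk (𝟙 _) (𝟙 _) (s.i n) ((Category.id_comp _).trans (Category.comp_id _).symm)
        ((Category.id_comp _).trans (hd n))
    haveI : Epi φ.τ₁ := inferInstanceAs (Epi (𝟙 _))
    haveI : IsIso φ.τ₂ := inferInstanceAs (IsIso (𝟙 _))
    haveI : Mono φ.τ₃ := ‹Mono (s.i n)›
    rw [← ShortComplex.exact_iff_of_epi_of_isIso_of_mono φ]
    let ψ : S' ⟶ ShortComplex.mk (s.i (n + 1)) (s.p (n + 1)) (s.w (n + 1)) :=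
      ShortComplex.homMk (s.p (n + 1 + 1)) (𝟙 _) (𝟙 _) ((Category.comp_id _).trans (hd (n + 1))).symm
        ((Category.id_comp _).trans (Category.comp_id _).symm)
    haveI : Epi ψ.τ₁ := ‹Epi (s.p (n + 1 + 1))›
    haveI : IsIso ψ.τ₂ := inferInstanceAs (IsIso (𝟙 _))
    haveI : Mono ψ.τ₃ := inferInstanceAs (Mono (𝟙 _))
    exact (ShortComplex.exact_iff_of_epi_of_isIso_of_mono ψ).2 (s.exact (n + 1)).exact
  · haveI := (s.exact 0).epi_g
    haveI := (s.exact 1).epi_g
    have hc : IsColimit (CokernelCofork.ofπ (f := L.d 1 0) (s.p 0)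
        (by rw [hd]; exact (Category.assoc _ _ _).trans ((congrArg _ (s.w 0)).trans comp_zero))) :=
      isCokernelEpiComp (s.exact 0).exact.gIsCokernel (s.p 1) (hd 0)
    exact ⟨L.isoHomologyι 0 0 (by simp) (L.shape 0 0 (by simp)) ≪≫
      IsColimit.coconePointUniqueUpToIso (L.opcyclesIsCokernel 1 0 (by simp)) hc ≪≫ s.start⟩
  · haveI := (s.exact (d + 1)).mono_f
    haveI := (s.exact d).mono_f
    have hk : IsLimit (KernelFork.ofι (f := L.d (d + 1) d) (s.i (d + 1))
        (by rw [hd]; exact (Category.assoc _ _ _).symm.trans ((congrArg (· ≫ s.i d) (s.w (d + 1))).trans zero_comp))) :=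
      isKernelCompMono (s.exact (d + 1)).exact.fIsKernel (s.i d) (hd d)
    exact ⟨IsLimit.conePointUniqueUpToIso (L.cyclesIsKernel (d + 1) d (by simp)) hk⟩

omit H in
/-- `K` is a `j`-th syzygy of `A` -/
def Syz (P₀ : ObjectProperty C) : ℕ → C → C → Prop
  | 0, A, K => Nonempty (A ≅ K)
  | j + 1, A, K => ∃ (K₁ L : C) (i : K₁ ⟶ L) (f : L ⟶ A) (w : i ≫ f = 0),
      (ShortComplex.mk i f w).ShortExact ∧ P₀ L ∧ Syz P₀ j K₁ K

lemma exists_stream : ∀ (j : ℕ) {A K : C}, P₁ A → Syz P₀ j A K →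
    ∃ s : Stream P₀ A, Nonempty (s.Z j ≅ K) := by
  intro j
  induction j with
  | zero => exact fun hA ⟨e⟩ => ⟨defaultStream H hA, ⟨e⟩⟩
  | succ j ih =>
    rintro A K hA ⟨K₁, L, i, f, w, hS, hL, hK⟩
    obtain ⟨s, hs⟩ := ih (H.ker₁ _ hS (H.le _ hL) hA) hK
    exact ⟨s.prepend i f w hS hL, hs⟩

lemma D_of_syz : ∀ (j : ℕ) {A : C}, P₁ A → (∀ K, Syz P₀ j A K → P₀ K) → D P₀ P₁ j A := by
  intro j
  induction j with
  | zero => exact fun _ h => h _ ⟨Iso.refl _⟩
  | succ j ih =>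
    exact fun hA h => ⟨hA, fun K₁ L i f w hS hL =>
      ih (H.ker₁ _ hS (H.le _ hL) hA) fun K hK => h K ⟨K₁, L, i, f, w, hS, hL, hK⟩⟩

theorem exists_D (h3 : ∀ A : C, P₁ A → ∃ d : ℕ, ∀ L : ChainComplex C ℕ, (∀ i, P₀ (L.X i)) →
    (∀ i, 1 ≤ i → L.ExactAt i) → Nonempty (L.homology 0 ≅ A) → P₀ (L.cycles (d + 1)))
    (A : C) (hA : P₁ A) : ∃ n, D P₀ P₁ n A := by
  obtain ⟨d, hd⟩ := h3 A hA
  refine ⟨d + 2, D_of_syz H _ hA fun K hK => ?_⟩
  obtain ⟨s, ⟨e⟩⟩ := exists_stream H _ hA hK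
  obtain ⟨L, h1, h2, h4, h5⟩ := s.exists_complex
  obtain ⟨e'⟩ := h5 d
  exact P₀.prop_of_iso (e' ≪≫ e) (hd L h1 h2 h4)

end Syzygy

end Groth.L29.Resolution
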