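import Groth.Agent.L29.K.Sub
import Groth.Agent.L29.K.Heller
import Groth.Agent.L29.KBasic
import Mathlib.CategoryTheory.Abelian.SerreClass.Localization
import Mathlib.CategoryTheory.Limits.Preserves.Shapes.Kernels
import Mathlib.Algebra.Homology.ShortComplex.ExactFunctor

/-!
The localisation sequence of a Serre class on `K₀`.
-/

universe v' u' v u

open CategoryTheory CategoryTheory.Limits ZeroObject

namespace Groth.L29.SerreK

variable {A : Type u} [Category.{v} A] [Abelian A]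

lemma cl_zero {Z : A} (hZ : IsZero Z) : KZero.cl Z = 0 := by
  have := Groth.L29.cl_shortExact _ (KSub.shortExact_of_iso (Iso.refl Z) hZ)
  simpa using this

lemma cl_iso {X Y : A} (e : X ≅ Y) : KZero.cl X = KZero.cl Y := by
  have := Groth.L29.cl_shortExact _ (KSub.shortExact_of_iso e (isZero_zero A))
  rw [cl_zero (isZero_zero A), zero_add] at this
  exact this

lemma shortExact_ker {X Y : A} (g : X ⟶ Y) :
    (ShortComplex.mk (kernel.ι g) (Abelian.factorThruImage g)
      (by rw [← cancel_mono (Abelian.image.ι g)]; simp)).ShortExact := by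
  refine ShortComplex.ShortExact.mk' ?_ inferInstance inferInstance
  refine ShortComplex.exact_of_f_is_kernel _ ?_
  exact isKernelOfComp (f := Abelian.factorThruImage g) (Abelian.image.ι g) g (kernelIsKernel g) _
    (Abelian.image.fac g)

lemma shortExact_coker {X Y : A} (g : X ⟶ Y) :
    (ShortComplex.mk (Abelian.image.ι g) (cokernel.π g) (kernel.condition _)).ShortExact :=
  ShortComplex.ShortExact.mk' (ShortComplex.exact_of_f_is_kernel _ (kernelIsKernel (cokernel.π g)))
    inferInstance inferInstance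

/-- `[X] - [Y] = [ker g] - [coker g]` -/
lemma cl_four {X Y : A} (g : X ⟶ Y) :
    KZero.cl X - KZero.cl Y = KZero.cl (kernel g) - KZero.cl (cokernel g) := by
  have h1 := Groth.L29.cl_shortExact _ (shortExact_ker g)
  have h2 := Groth.L29.cl_shortExact _ (shortExact_coker g)
  dsimp at h1 h2
  rw [h1, h2]
  abel

/-- `[H] = [ker ψ] + [ker φ] - [M]` -/
lemma cl_homology {M : A} (φ ψ : M ⟶ M) (h₁ : φ ≫ ψ = 0) :
    KZero.cl (ShortComplex.mk φ ψ h₁).homology = KZero.cl (kernel ψ) + KZero.cl (kernel φ) - KZero.cl M := by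
  let S := ShortComplex.mk φ ψ h₁
  have h := cl_four S.toCycles
  have e1 : KZero.cl S.cycles = KZero.cl (kernel ψ) :=
    cl_iso (IsLimit.conePointUniqueUpToIso S.cyclesIsKernel (limit.isLimit _))
  have e2 : KZero.cl S.homology = KZero.cl (cokernel S.toCycles) :=
    cl_iso (IsColimit.coconePointUniqueUpToIso S.homologyIsCokernel (colimit.isColimit _))
  have e3 : KZero.cl (kernel S.toCycles) = KZero.cl (kernel φ) :=
    cl_iso ((kernelCompMono S.toCycles S.iCycles).symm ≪≫ kernelIsoOfEq S.toCycles_i)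
  rw [e1, e3, ← e2] at h
  change KZero.cl S.homology = _
  change KZero.cl M - _ = _ at h
  rw [sub_eq_sub_iff_add_eq_add] at h
  rw [eq_sub_iff_add_eq, add_comm, h]
  abel

section Periodic

variable {B C' D E X : A} {Y : A} (i : D ⟶ X) (q : X ⟶ E) (i' : D ⟶ Y) (q' : Y ⟶ E)
  (c : C' ⟶ X) (c' : C' ⟶ Y)

/-- the total object -/
noncomputable abbrev tot : A := (X ⊞ Y) ⊞ (C' ⊞ (D ⊞ E))

/-- the endomorphism built from `c`, `i'`, `q` -/
noncomputable def per : (X ⊞ Y) ⊞ (C' ⊞ (D ⊞ E)) ⟶ (X ⊞ Y) ⊞ (C' ⊞ (D ⊞ E)) :=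
  biprod.lift
    (biprod.lift (biprod.snd ≫ biprod.fst ≫ c) (biprod.snd ≫ biprod.snd ≫ biprod.fst ≫ i'))
    (biprod.fst ≫ biprod.fst ≫ q ≫ biprod.inr ≫ biprod.inr)

/-- its companion -/
noncomputable def per' : (X ⊞ Y) ⊞ (C' ⊞ (D ⊞ E)) ⟶ (X ⊞ Y) ⊞ (C' ⊞ (D ⊞ E)) :=
  biprod.lift
    (biprod.lift (biprod.snd ≫ biprod.snd ≫ biprod.fst ≫ i) (biprod.snd ≫ biprod.fst ≫ c'))
    (biprod.fst ≫ biprod.snd ≫ q' ≫ biprod.inr ≫ biprod.inr)

lemma per_comp (w' : i' ≫ q' = 0) : per q i' c ≫ per' i q' c' = 0 := by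
  unfold per per'
  ext <;> simp [w']

lemma per'_comp (w : i ≫ q = 0) : per' i q' c' ≫ per q i' c = 0 := by
  unfold per per'
  ext <;> simp [w]

/-- the homology of the pair is the complement of `C'` in `X` -/
lemma nonempty_homology_iso {B' : A} (w : i ≫ q = 0) (w' : i' ≫ q' = 0)
    (hS : (ShortComplex.mk i q w).ShortExact) (hS' : (ShortComplex.mk i' q' w').ShortExact)
    (π : X ⟶ B) (s : B ⟶ X) (ρ : X ⟶ C') (hs : s ≫ π = 𝟙 B) (hc : c ≫ π = 0)
    (hdec : π ≫ s + ρ ≫ c = 𝟙 X) (π' : Y ⟶ B') (ρ' : Y ⟶ C') (hρ' : c' ≫ ρ' = 𝟙 C') :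
    Nonempty ((ShortComplex.mk (per q i' c) (per' i q' c') (per_comp i q i' q' c c' w')).homology ≅ B) := by
  let S := ShortComplex.mk (per q i' c) (per' i q' c') (per_comp i q i' q' c c' w')
  haveI : Mono i := hS.mono_f
  haveI : Epi q := hS.epi_g
  let pr : (X ⊞ Y) ⊞ (C' ⊞ (D ⊞ E)) ⟶ B := biprod.fst ≫ biprod.fst ≫ π
  let incl : B ⟶ (X ⊞ Y) ⊞ (C' ⊞ (D ⊞ E)) := s ≫ biprod.inl ≫ biprod.inl
  have hincl : incl ≫ S.g = 0 := by
    simp only [S, incl, per', Category.assoc]
    ext <;> simp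
  have hpr : S.f ≫ pr = 0 := by
    simp [S, pr, per, hc]
  have wπ : S.toCycles ≫ (S.iCycles ≫ pr) = 0 := by rw [S.toCycles_i_assoc, hpr]
  haveI : Epi (S.iCycles ≫ pr) := by
    refine epi_of_epi_fac (show S.liftCycles incl hincl ≫ (S.iCycles ≫ pr) = 𝟙 B from ?_)
    rw [S.liftCycles_i_assoc]
    simp [incl, pr, hs]
  have hex : (ShortComplex.mk S.toCycles (S.iCycles ≫ pr) wπ).Exact := by
    rw [ShortComplex.exact_iff_exact_up_to_refinements]
    intro T k hk
    dsimp at k hk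
    let z : T ⟶ (X ⊞ Y) ⊞ (C' ⊞ (D ⊞ E)) := k ≫ S.iCycles
    have hz : z ≫ per' i q' c' = 0 := (Category.assoc _ _ _).trans ((congrArg (k ≫ ·) S.iCycles_g).trans comp_zero)
    have hzA : (z ≫ biprod.fst ≫ biprod.fst) ≫ π = 0 := by simpa [z, pr] using hk
    have hd : z ≫ biprod.snd ≫ biprod.snd ≫ biprod.fst = 0 := by
      rw [← cancel_mono i]
      have := congrArg (fun m => m ≫ biprod.fst ≫ biprod.fst) hz
      simpa [per'] using this
    have hc0 : z ≫ biprod.snd ≫ biprod.fst = 0 := by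
      have := congrArg (fun m => m ≫ biprod.fst ≫ biprod.snd ≫ ρ') hz
      simpa [per', hρ'] using this
    have hy : (z ≫ biprod.fst ≫ biprod.snd) ≫ q' = 0 := by
      have := congrArg (fun m => m ≫ biprod.snd ≫ biprod.snd ≫ biprod.snd) hz
      simpa [per'] using this
    haveI : Mono (ShortComplex.mk i' q' w').f := hS'.mono_f
    let d := hS'.exact.lift _ hy
    have hd' : d ≫ i' = z ≫ biprod.fst ≫ biprod.snd := hS'.exact.lift_f _ hy
    have hx : (z ≫ biprod.fst ≫ biprod.fst ≫ ρ) ≫ c = z ≫ biprod.fst ≫ biprod.fst := by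
      have := congrArg ((z ≫ biprod.fst ≫ biprod.fst) ≫ ·) hdec
      simp only [Preadditive.comp_add, Category.comp_id] at this
      rw [← Category.assoc (z ≫ biprod.fst ≫ biprod.fst) π s, hzA, zero_comp, zero_add] at this
      simpa using this
    obtain ⟨T', p, hp, x', hx'⟩ := surjective_up_to_refinements_of_epi q
      (z ≫ biprod.snd ≫ biprod.snd ≫ biprod.snd)
    refine ⟨T', p, hp, biprod.lift (biprod.lift x' 0)
      (biprod.lift (p ≫ z ≫ biprod.fst ≫ biprod.fst ≫ ρ) (biprod.lift (p ≫ d) 0)), ?_⟩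
    dsimp
    rw [← cancel_mono S.iCycles, Category.assoc, Category.assoc, S.toCycles_i]
    change p ≫ z = _ ≫ per q i' c
    simp only [Category.assoc] at hx hd hc0 hd' hx'
    refine biprod.hom_ext _ _ (biprod.hom_ext _ _ ?_ ?_)
      (biprod.hom_ext _ _ ?_ (biprod.hom_ext _ _ ?_ ?_))
    · simp [per, hx]
    · simp [per, hd']
    · simp [per, hc0]
    · simp [per, hd]
    · simp [per, hx']
  exact ⟨ShortComplex.LeftHomologyData.homologyIso
    { K := S.cycles
      H := B
      i := S.iCycles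
      π := S.iCycles ≫ pr
      wi := S.iCycles_g
      hi := S.cyclesIsKernel
      wπ := by exact wπ
      hπ := hex.gIsCokernel }⟩

omit c' in
/-- swapping the two middle summands -/
lemma per_swap :
    (biprod.mapIso (biprod.braiding X Y) (Iso.refl (C' ⊞ (D ⊞ E)))).hom ≫ per' i' q c =
      per q i' c ≫ (biprod.mapIso (biprod.braiding X Y) (Iso.refl (C' ⊞ (D ⊞ E)))).hom := by
  unfold per per'
  ext <;> simp

end Periodic

variable (P : ObjectProperty A) [P.IsSerreClass]

/-- the inclusion on `K₀` -/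
noncomputable def ι : KZero.K0sub P →+ KZero.K0 A :=
  KSub.lift (fun X => KZero.cl X) fun S hS _ _ _ => Groth.L29.cl_shortExact S hS

lemma ι_clSub {X : A} (hX : P X) : ι P (KZero.clSub P X) = KZero.cl X := by
  unfold ι
  exact KSub.lift_clSub _ _ hX

lemma prop_biprod {X Y : A} (hX : P X) (hY : P Y) : P (X ⊞ Y) :=
  P.prop_X₂_of_shortExact (ShortComplex.Splitting.ofHasBinaryBiproduct X Y).shortExact hX hY

lemma exists_sub_rep (x : KZero.K0sub P) :
    ∃ U V : A, P U ∧ P V ∧ x = KZero.clSub P U - KZero.clSub P V := by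
  have h0 : P (0 : A) := P.prop_of_isZero (isZero_zero A)
  obtain ⟨z, rfl⟩ := QuotientAddGroup.mk_surjective x
  induction z using FreeAbelianGroup.induction_on with
  | zero => exact ⟨0, 0, h0, h0, (sub_self _).symm⟩
  | of K => exact ⟨K.1, 0, K.2, h0, by rw [KSub.clSub_zero P (isZero_zero A) h0, sub_zero, KSub.clSub_of P K.2]⟩
  | neg K hK =>
    obtain ⟨U, V, hU, hV, h⟩ := hK
    exact ⟨V, U, hV, hU, by rw [QuotientAddGroup.mk_neg, h, neg_sub]⟩
  | add a b ha hb =>
    obtain ⟨U, V, hU, hV, h⟩ := ha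
    obtain ⟨U', V', hU', hV', h'⟩ := hb
    refine ⟨U ⊞ U', V ⊞ V', prop_biprod P hU hU', prop_biprod P hV hV', ?_⟩
    rw [QuotientAddGroup.mk_add, h, h', KSub.clSub_biprod P hU hU' (prop_biprod P hU hU'),
      KSub.clSub_biprod P hV hV' (prop_biprod P hV hV')]
    abel

/-- the kernel of `K₀(P) → K₀(A)` consists of the periodic complexes -/
theorem ι_eq_zero_iff (x : KZero.K0sub P) : ι P x = 0 ↔
    ∃ (M : A) (φ ψ : M ⟶ M) (h₁ : φ ≫ ψ = 0) (h₂ : ψ ≫ φ = 0),
      P (ShortComplex.mk φ ψ h₁).homology ∧ P (ShortComplex.mk ψ φ h₂).homology ∧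
      x = KZero.clSub P (ShortComplex.mk φ ψ h₁).homology - KZero.clSub P (ShortComplex.mk ψ φ h₂).homology := by
  constructor
  · intro hx
    obtain ⟨U, V, hU, hV, rfl⟩ := exists_sub_rep P x
    rw [map_sub, ι_clSub P hU, ι_clSub P hV, sub_eq_zero] at hx
    obtain ⟨N, D, E, i, q, i', q', w, w', hS, hS'⟩ := Heller.R_of_cl_eq hx
    let φ := per q i' (biprod.inr : N ⟶ U ⊞ N)
    let ψ := per' i q' (biprod.inr : N ⟶ V ⊞ N)
    have h1 : φ ≫ ψ = 0 := per_comp i q i' q' _ _ w'
    have h2 : ψ ≫ φ = 0 := per'_comp i q i' q' _ _ w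
    obtain ⟨e1⟩ := nonempty_homology_iso i q i' q' (biprod.inr : N ⟶ U ⊞ N) (biprod.inr : N ⟶ V ⊞ N)
      w w' hS hS' biprod.fst biprod.inl biprod.snd biprod.inl_fst biprod.inr_fst biprod.total
      (biprod.fst : V ⊞ N ⟶ V) biprod.snd biprod.inr_snd
    obtain ⟨e2⟩ := nonempty_homology_iso i' q' i q (biprod.inr : N ⟶ V ⊞ N) (biprod.inr : N ⟶ U ⊞ N)
      w' w hS' hS biprod.fst biprod.inl biprod.snd biprod.inl_fst biprod.inr_fst biprod.total
      (biprod.fst : U ⊞ N ⟶ U) biprod.snd biprod.inr_snd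
    let σ := biprod.mapIso (biprod.braiding (U ⊞ N) (V ⊞ N)) (Iso.refl (N ⊞ (D ⊞ E)))
    let τ := biprod.mapIso (biprod.braiding (V ⊞ N) (U ⊞ N)) (Iso.refl (N ⊞ (D ⊞ E)))
    have hf : τ.hom ≫ ψ = per q' i (biprod.inr : N ⟶ V ⊞ N) ≫ τ.hom :=
      per_swap q' i (biprod.inr : N ⟶ V ⊞ N)
    have hg : τ.hom ≫ φ = per' i' q (biprod.inr : N ⟶ U ⊞ N) ≫ τ.hom := by
      simp only [φ, τ, per, per']
      ext <;> simp
    let e2' : (ShortComplex.mk ψ φ h2).homology ≅ V :=
      (ShortComplex.homologyMapIso (ShortComplex.isoMk (S₁ := ShortComplex.mk _ _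
        (per_comp i' q' i q (biprod.inr : N ⟶ V ⊞ N) (biprod.inr : N ⟶ U ⊞ N) w))
        (S₂ := ShortComplex.mk ψ φ h2) τ τ τ hf hg)).symm ≪≫ e2
    have h0 := P.prop_of_isZero (isZero_zero A)
    refine ⟨_, φ, ψ, h1, h2, P.prop_of_iso e1.symm hU, P.prop_of_iso e2'.symm hV, ?_⟩
    rw [KSub.clSub_iso P e1 (isZero_zero A) h0 (P.prop_of_iso e1.symm hU),
      KSub.clSub_iso P e2' (isZero_zero A) h0 (P.prop_of_iso e2'.symm hV)]
  · rintro ⟨M, φ, ψ, h₁, h₂, hP₁, hP₂, rfl⟩
    rw [map_sub, ι_clSub P hP₁, ι_clSub P hP₂, cl_homology φ ψ h₁, cl_homology ψ φ h₂]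
    abel

section Localization

variable {Q : Type u'} [Category.{v'} Q] [Abelian Q] (L : A ⥤ Q) [L.IsLocalization P.isoModSerre]
  [L.Additive] [PreservesFiniteLimits L] [PreservesFiniteColimits L]

/-- `λ` -/
noncomputable def lam : KZero.K0 A →+ KZero.K0 Q :=
  QuotientAddGroup.lift _ (FreeAbelianGroup.lift fun X => KZero.cl (L.obj X)) <| by
    rw [KZero.relAb, AddSubgroup.closure_le]
    rintro _ ⟨S, hS, rfl⟩
    simp only [SetLike.mem_coe, AddMonoidHom.mem_ker, map_sub, FreeAbelianGroup.lift_apply_of]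
    rw [show KZero.cl (L.obj S.X₂) = KZero.cl (L.obj S.X₁) + KZero.cl (L.obj S.X₃) from
      Groth.L29.cl_shortExact _ (hS.map_of_exact L)]
    abel

omit [P.IsSerreClass] [L.IsLocalization P.isoModSerre] in
lemma lam_cl (X : A) : lam L (KZero.cl X) = KZero.cl (L.obj X) := FreeAbelianGroup.lift_apply_of _ _

/-- classes modulo the image of `K₀(P)` -/
noncomputable def mq (X : A) : KZero.K0 A ⧸ (ι P).range := QuotientAddGroup.mk (KZero.cl X)

lemma mq_of_prop {X : A} (hX : P X) : mq P X = 0 :=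
  (QuotientAddGroup.eq_zero_iff _).2 ⟨KZero.clSub P X, ι_clSub P hX⟩

lemma mq_sub {X Y : A} (g : X ⟶ Y) : mq P X - mq P Y = mq P (kernel g) - mq P (cokernel g) := by
  unfold mq
  rw [← QuotientAddGroup.mk_sub, ← QuotientAddGroup.mk_sub, cl_four g]

lemma mq_eq_of_iso_map {X Y : A} (e : L.obj X ≅ L.obj Y) : mq P X = mq P Y := by
  obtain ⟨φ, hφ⟩ := Localization.exists_rightFraction L P.isoModSerre e.hom
  haveI := Localization.inverts L P.isoModSerre φ.s φ.hs
  have hf : L.map φ.f = L.map φ.s ≫ e.hom := by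
    rw [hφ, MorphismProperty.RightFraction.map_s_comp_map]
  haveI : IsIso (L.map φ.f) := hf ▸ inferInstance
  have hfW : P.monoModSerre φ.f ∧ P.epiModSerre φ.f :=
    ⟨(ObjectProperty.SerreClassLocalization.mono_map_iff L P _).1 inferInstance,
      (ObjectProperty.SerreClassLocalization.epi_map_iff L P _).1 inferInstance⟩
  have h1 := mq_sub P φ.s
  have h2 := mq_sub P φ.f
  rw [mq_of_prop P φ.hs.1, mq_of_prop P φ.hs.2, sub_self, sub_eq_zero] at h1
  rw [mq_of_prop P hfW.1, mq_of_prop P hfW.2, sub_self, sub_eq_zero] at h2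
  rw [← h1, h2]

/-- the left inverse modulo the image -/
noncomputable def μ : KZero.K0 Q →+ KZero.K0 A ⧸ (ι P).range :=
  haveI := Localization.essSurj L P.isoModSerre
  QuotientAddGroup.lift _ (FreeAbelianGroup.lift fun X => mq P (L.objPreimage X)) <| by
    rw [KZero.relAb, AddSubgroup.closure_le]
    rintro _ ⟨S, hS, rfl⟩
    simp only [SetLike.mem_coe, AddMonoidHom.mem_ker, map_sub, FreeAbelianGroup.lift_apply_of]
    let e2 := L.objObjPreimageIso S.X₂
    let e3 := L.objObjPreimageIso S.X₃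
    obtain ⟨φ, hφ⟩ := Localization.exists_rightFraction L P.isoModSerre (e2.hom ≫ S.g ≫ e3.inv)
    haveI := Localization.inverts L P.isoModSerre φ.s φ.hs
    have hf : L.map φ.f = L.map φ.s ≫ e2.hom ≫ S.g ≫ e3.inv := by
      rw [hφ, MorphismProperty.RightFraction.map_s_comp_map]
    haveI := hS.epi_g
    haveI := hS.mono_f
    haveI : Epi (L.map φ.f) := by rw [hf]; infer_instance
    have hco : P (cokernel φ.f) := (ObjectProperty.SerreClassLocalization.epi_map_iff L P _).1 inferInstance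
    let T : ShortComplex Q := ShortComplex.mk (L.map (kernel.ι φ.f)) (L.map φ.f)
      (by rw [← L.map_comp, kernel.condition, L.map_zero])
    have hlim : IsLimit (KernelFork.ofι T.f T.zero) :=
      (isLimitForkMapOfIsLimit' L (kernel.condition φ.f) (kernelIsKernel φ.f))
    let e1 : L.obj (kernel φ.f) ≅ S.X₁ :=
      IsLimit.conePointUniqueUpToIso hlim (kernelIsKernel (L.map φ.f)) ≪≫
        kernel.mapIso (L.map φ.f) S.g (asIso (L.map φ.s) ≪≫ e2) e3 (by simp [hf]) ≪≫
        IsLimit.conePointUniqueUpToIso (kernelIsKernel S.g) hS.exact.fIsKernel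
    have a1 := mq_eq_of_iso_map P L (e1 ≪≫ (L.objObjPreimageIso S.X₁).symm)
    have a2 := mq_sub P φ.s
    have a3 := mq_sub P φ.f
    rw [mq_of_prop P φ.hs.1, mq_of_prop P φ.hs.2, sub_self, sub_eq_zero] at a2
    rw [a2, mq_of_prop P hco, sub_zero, a1] at a3
    rw [← a3]
    abel

theorem ker_lam : (lam L).ker = (ι P).range := by
  haveI := Localization.essSurj L P.isoModSerre
  refine le_antisymm (fun z hz => ?_) ?_
  · have hcomp : (μ P L).comp (lam L) = QuotientAddGroup.mk' (ι P).range := by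
      refine QuotientAddGroup.addMonoidHom_ext _ (FreeAbelianGroup.lift_ext _ _ fun X => ?_)
      change μ P L (lam L (KZero.cl X)) = mq P X
      rw [lam_cl]
      exact (FreeAbelianGroup.lift_apply_of _ _).trans
        (mq_eq_of_iso_map P L (L.objObjPreimageIso (L.obj X)))
    have h := DFunLike.congr_fun hcomp z
    rw [AddMonoidHom.comp_apply, show lam L z = 0 from hz, map_zero] at h
    exact (QuotientAddGroup.eq_zero_iff _).1 h.symm
  · rintro _ ⟨x, rfl⟩
    obtain ⟨U, V, hU, hV, rfl⟩ := exists_sub_rep P x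
    rw [AddMonoidHom.mem_ker, map_sub, map_sub, ι_clSub P hU, ι_clSub P hV, lam_cl, lam_cl,
      cl_zero ((ObjectProperty.SerreClassLocalization.isZero_obj_iff L P U).2 hU),
      cl_zero ((ObjectProperty.SerreClassLocalization.isZero_obj_iff L P V).2 hV), sub_zero]

include P in
theorem lam_surjective : Function.Surjective (lam L) := by
  haveI := Localization.essSurj L P.isoModSerre
  intro y
  obtain ⟨z, rfl⟩ := QuotientAddGroup.mk_surjective y
  refine AddMonoidHom.mem_range.1 ?_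
  induction z using FreeAbelianGroup.induction_on with
  | zero => exact zero_mem _
  | of X => exact ⟨KZero.cl (L.objPreimage X), (lam_cl L _).trans (cl_iso (L.objObjPreimageIso X))⟩
  | neg X hX => exact neg_mem hX
  | add a b ha hb => exact add_mem ha hb

end Localization

end Groth.L29.SerreK
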