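import Groth.Agent.L29.K.Tr
import Mathlib.CategoryTheory.Triangulated.Functor

/-!
`K0tr` along a fully faithful triangulated functor which is bijective on the objects concerned.
-/

set_option autoImplicit false
set_option backward.isDefEq.respectTransparency false

universe v v' u

open CategoryTheory CategoryTheory.Limits CategoryTheory.Pretriangulated ZeroObject

noncomputable section

namespace Groth.L29.KTr

variable {D : Type u} [Category.{v} D] [Preadditive D] [HasZeroObject D] [HasShift D ℤ]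
  [∀ n : ℤ, (shiftFunctor D n).Additive] [Pretriangulated D] {D' : Type u} [Category.{v'} D'] [Preadditive D']
  [HasZeroObject D'] [HasShift D' ℤ] [∀ n : ℤ, (shiftFunctor D' n).Additive] [Pretriangulated D']
  (F : D ⥤ D') [F.CommShift ℤ] [F.IsTriangulated] (Q : ObjectProperty D) (Q' : ObjectProperty D')
  (hQ : ∀ X, Q' (F.obj X) ↔ Q X)

/-- the map induced by `F` -/
def mapHom : KZero.K0tr Q →+ KZero.K0tr Q' :=
  QuotientAddGroup.lift _ (FreeAbelianGroup.lift fun X : Subtype Q => KZero.clTr Q' (F.obj X.1)) <| by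
    rw [KZero.relTr, AddSubgroup.closure_le]
    rintro _ ⟨T, h₁, h₂, h₃, hT, rfl⟩
    simp only [SetLike.mem_coe, AddMonoidHom.mem_ker, map_sub, FreeAbelianGroup.lift_apply_of]
    have := triangle (Q := Q') (F.mapTriangle.obj T) (F.map_distinguished _ hT) ((hQ _).2 h₁) ((hQ _).2 h₂)
      ((hQ _).2 h₃)
    simp only [Functor.mapTriangle_obj, Triangle.mk_obj₁, Triangle.mk_obj₂, Triangle.mk_obj₃] at this
    rw [this]
    abel

theorem mapHom_cl {X : D} (h : Q X) : mapHom F Q Q' hQ (KZero.clTr Q X) = KZero.clTr Q' (F.obj X) := by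
  rw [KZero.clTr, dif_pos h]
  exact FreeAbelianGroup.lift_apply_of _ _

variable [F.Full] [F.Faithful] (hS : ∀ Y, Q' Y → ∃ X, Nonempty (F.obj X ≅ Y))
  (hz : ∀ Z : D, IsZero Z → Q Z) (hiso : ∀ {A B : D'}, (A ≅ B) → Q' A → Q' B)

/-- a preimage -/
def pre (Y : Subtype Q') : D := (hS Y.1 Y.2).choose

/-- the preimage maps to the given object -/
def preIso (Y : Subtype Q') : F.obj (pre F Q' hS Y) ≅ Y.1 := (hS Y.1 Y.2).choose_spec.some

include hQ hiso in
theorem q_pre (Y : Subtype Q') : Q (pre F Q' hS Y) := (hQ _).1 (hiso (preIso F Q' hS Y).symm Y.2)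

include hQ hz hiso in
/-- the inverse map -/
def invHom : KZero.K0tr Q' →+ KZero.K0tr Q :=
  QuotientAddGroup.lift _ (FreeAbelianGroup.lift fun Y : Subtype Q' => KZero.clTr Q (pre F Q' hS Y)) <| by
    rw [KZero.relTr, AddSubgroup.closure_le]
    rintro _ ⟨T, h₁, h₂, h₃, hT, rfl⟩
    simp only [SetLike.mem_coe, AddMonoidHom.mem_ker, map_sub, FreeAbelianGroup.lift_apply_of]
    let e₁ := preIso F Q' hS ⟨_, h₁⟩
    let e₂ := preIso F Q' hS ⟨_, h₂⟩
    let e₃ := preIso F Q' hS ⟨_, h₃⟩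
    let f := F.preimage (e₁.hom ≫ T.mor₁ ≫ e₂.inv)
    obtain ⟨C, g, h, hC⟩ := distinguished_cocone_triangle f
    let e : F.obj C ≅ T.obj₃ := Triangle.π₃.mapIso
      (isoTriangleOfIso₁₂ _ _ (F.map_distinguished _ hC) hT e₁ e₂ (by
        show F.map f ≫ e₂.hom = e₁.hom ≫ T.mor₁
        simp [f]))
    have hqC : Q C := (hQ C).1 (hiso e.symm h₃)
    have hq₃ : Q (pre F Q' hS ⟨_, h₃⟩) := q_pre F Q Q' hQ hS hiso _
    have key := triangle _ hC (q_pre F Q Q' hQ hS hiso ⟨_, h₁⟩) (q_pre F Q Q' hQ hS hiso ⟨_, h₂⟩) hqC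
    simp only [Triangle.mk_obj₁, Triangle.mk_obj₂, Triangle.mk_obj₃] at key
    rw [iso hz (F.preimageIso (e₃ ≪≫ e.symm)) hq₃ hqC, key]
    abel

include hQ hS hz hiso in
theorem exists_equiv : ∃ e : KZero.K0tr Q ≃+ KZero.K0tr Q',
    ∀ X, Q X → e (KZero.clTr Q X) = KZero.clTr Q' (F.obj X) := by
  have hz' : ∀ Z : D', IsZero Z → Q' Z := fun Z hZ =>
    hiso ((F.map_isZero (isZero_zero D)).iso hZ) ((hQ _).2 (hz _ (isZero_zero D)))
  have i1 : (invHom F Q Q' hQ hS hz hiso).comp (mapHom F Q Q' hQ) = AddMonoidHom.id _ := by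
    refine QuotientAddGroup.addMonoidHom_ext _ (FreeAbelianGroup.lift_ext _ _ fun X => ?_)
    show invHom F Q Q' hQ hS hz hiso (mapHom F Q Q' hQ (QuotientAddGroup.mk (FreeAbelianGroup.of X))) = _
    have hc : (QuotientAddGroup.mk (FreeAbelianGroup.of X) : KZero.K0tr Q) = KZero.clTr Q X.1 := by
      rw [KZero.clTr, dif_pos X.2]
    rw [hc, mapHom_cl F Q Q' hQ X.2, KZero.clTr, dif_pos ((hQ _).2 X.2)]
    refine (FreeAbelianGroup.lift_apply_of _ _).trans ?_
    rw [iso hz (F.preimageIso (preIso F Q' hS ⟨_, (hQ _).2 X.2⟩)) (q_pre F Q Q' hQ hS hiso _) X.2]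
    exact hc.symm
  have i2 : (mapHom F Q Q' hQ).comp (invHom F Q Q' hQ hS hz hiso) = AddMonoidHom.id _ := by
    refine QuotientAddGroup.addMonoidHom_ext _ (FreeAbelianGroup.lift_ext _ _ fun Y => ?_)
    show mapHom F Q Q' hQ (invHom F Q Q' hQ hS hz hiso (QuotientAddGroup.mk (FreeAbelianGroup.of Y))) = _
    refine (congrArg _ (FreeAbelianGroup.lift_apply_of _ _)).trans ?_
    rw [mapHom_cl F Q Q' hQ (q_pre F Q Q' hQ hS hiso _),
      iso hz' (preIso F Q' hS Y) ((hQ _).2 (q_pre F Q Q' hQ hS hiso _)) Y.2, KZero.clTr, dif_pos Y.2]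
    rfl
  exact ⟨AddMonoidHom.toAddEquiv _ _ i1 i2, fun X hX => mapHom_cl F Q Q' hQ hX⟩

end Groth.L29.KTr
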